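import Mathlib

/-!
# The field with four elements

`𝔽₂[w] / (w² + w + 1)` with coordinates `(x₀, x₁)`, with decidable equality and computable
operations.
-/

set_option autoImplicit false

namespace Cfsg.Agent.Helper72

/-- The field with four elements, as `𝔽₂[w] / (w² + w + 1)` with coordinates `(x₀, x₁)`. -/
def F4 : Type := ZMod 2 × ZMod 2

namespace F4

instance : DecidableEq F4 := inferInstanceAs (DecidableEq (ZMod 2 × ZMod 2))
instance : Fintype F4 := inferInstanceAs (Fintype (ZMod 2 × ZMod 2))
instance : AddCommGroup F4 := inferInstanceAs (AddCommGroup (ZMod 2 × ZMod 2))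

/-- Multiplication modulo `w² + w + 1`. -/
def mul4 (x y : F4) : F4 :=
  (x.1 * y.1 + x.2 * y.2, x.1 * y.2 + x.2 * y.1 + x.2 * y.2)

/-- The square, which is inversion. -/
def inv4 (x : F4) : F4 := mul4 x x

instance : Mul F4 := ⟨mul4⟩
instance : One F4 := ⟨((1 : ZMod 2), (0 : ZMod 2))⟩
instance : Inv F4 := ⟨inv4⟩

instance : CommRing F4 :=
  { (inferInstance : AddCommGroup F4) with
    mul := mul4
    one := ((1 : ZMod 2), (0 : ZMod 2))
    mul_assoc := by decide +kernel
    one_mul := by decide +kernel
    mul_one := by decide +kernel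
    left_distrib := by decide +kernel
    right_distrib := by decide +kernel
    mul_comm := by decide +kernel
    zero_mul := by decide +kernel
    mul_zero := by decide +kernel }

instance : Field F4 :=
  { (inferInstance : CommRing F4) with
    inv := inv4
    exists_pair_ne := ⟨0, 1, by decide +kernel⟩
    mul_inv_cancel := by decide +kernel
    inv_zero := by decide +kernel
    nnqsmul := _
    nnqsmul_def := fun _ _ => rfl
    qsmul := _
    qsmul_def := fun _ _ => rfl }

theorem card_F4 : Fintype.card F4 = 4 := by decide +kernel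

/-- The element with code `d`: `0, 1, w, w + 1` for `0, 1, 2, 3`. -/
def ofCode (d : ℕ) : F4 := (((d % 2 : ℕ) : ZMod 2), ((d / 2 % 2 : ℕ) : ZMod 2))

end F4

end Cfsg.Agent.Helper72
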