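import Mathlib

/-!
# An abstract simplicity criterion for a group of order `175560 = 2³·3·5·7·11·19`

The hypotheses are relations between explicit elements, checked elsewhere by computation.
-/

set_option autoImplicit false

namespace Cfsg.Agent.Helper72.J1

section
variable {Γ : Type*} [Group Γ]

/-- If `a ^ m = 1 = a ^ n` with `m`, `n` coprime then `a = 1`. -/
theorem eq_one_of_pow_coprime {a : Γ} {m n : ℕ} (hm : a ^ m = 1) (hn : a ^ n = 1)
    (hc : Nat.Coprime m n) : a = 1 := by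
  have h := Nat.dvd_gcd (orderOf_dvd_of_pow_eq_one hm) (orderOf_dvd_of_pow_eq_one hn)
  rw [hc, Nat.dvd_one, orderOf_eq_one_iff] at h
  exact h

variable [Finite Γ]

/-- If `p` divides the order of the normal subgroup `N` exactly once in `#Γ`, then `N` contains every
element `g` with `g ^ p = 1`. -/
theorem mem_of_prime_dvd_card (N : Subgroup Γ) [N.Normal] {p : ℕ} (hp : p.Prime)
    (hpN : p ∣ Nat.card N) (hp2 : ¬ p ^ 2 ∣ Nat.card Γ) {g : Γ} (hg : g ^ p = 1) : g ∈ N := by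
  have : Fact p.Prime := ⟨hp⟩
  by_cases hg1 : g = 1
  · rw [hg1]; exact N.one_mem
  -- every Sylow `p`-subgroup has order `p`
  have hcardS : ∀ P : Sylow p Γ, Nat.card P = p := by
    intro P
    obtain ⟨n, hn⟩ := IsPGroup.iff_card.1 P.isPGroup'
    have hdvd : p ^ n ∣ Nat.card Γ := hn ▸ Subgroup.card_subgroup_dvd_card (P : Subgroup Γ)
    have hpG : p ∣ Nat.card Γ := hpN.trans (Subgroup.card_subgroup_dvd_card N)
    have h1 : p ∣ Nat.card P := P.dvd_card_of_dvd_card hpG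
    have hn1 : n ≠ 0 := by
      rintro rfl
      rw [hn, pow_zero, Nat.dvd_one] at h1
      exact hp.one_lt.ne' h1
    have hn2 : n < 2 := by
      by_contra hcon
      push Not at hcon
      exact hp2 ((pow_dvd_pow p hcon).trans hdvd)
    have : n = 1 := by omega
    rw [hn, this, pow_one]
  -- an element of order `p` in `N`
  obtain ⟨x, hx⟩ := exists_prime_orderOf_dvd_card' p hpN
  have hx' : orderOf (x : Γ) = p := by rw [Subgroup.orderOf_coe]; exact hx
  have hzx : IsPGroup p (Subgroup.zpowers (x : Γ)) := by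
    apply IsPGroup.of_card (n := 1)
    rw [Nat.card_zpowers, hx', pow_one]
  have hzg : IsPGroup p (Subgroup.zpowers g) := by
    apply IsPGroup.of_card (n := 1)
    rw [Nat.card_zpowers, orderOf_eq_prime hg hg1, pow_one]
  obtain ⟨P, hP⟩ := hzx.exists_le_sylow
  obtain ⟨Q, hQ⟩ := hzg.exists_le_sylow
  have hPeq : Subgroup.zpowers (x : Γ) = (P : Subgroup Γ) := by
    apply Subgroup.eq_of_le_of_card_ge hP
    rw [hcardS P, Nat.card_zpowers, hx']
  have hPN : (P : Subgroup Γ) ≤ N := by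
    rw [← hPeq, Subgroup.zpowers_le]; exact x.2
  obtain ⟨c, hc⟩ := MulAction.exists_smul_eq Γ P Q
  have hgQ : g ∈ (Q : Subgroup Γ) := hQ (Subgroup.mem_zpowers g)
  rw [← hc, Sylow.coe_subgroup_smul, Subgroup.mem_pointwise_smul_iff_inv_smul_mem,
    MulAut.smul_def, MulAut.inv_apply, MulAut.conj_symm_apply] at hgQ
  have h2 : c⁻¹ * g * c ∈ N := hPN hgQ
  have h3 := ‹N.Normal›.conj_mem _ h2 c
  have h4 : c * (c⁻¹ * g * c) * c⁻¹ = g := by group
  rwa [h4] at h3

open scoped Pointwise in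
/-- The simplicity criterion. -/
theorem simple_of_certificates (hcard : Nat.card Γ = 175560) (x y : Γ)
    (hgen : Subgroup.closure {x, y} = ⊤)
    (hx7 : x ^ 7 = 1) (hy5 : y ^ 5 = 1)
    (h11 : (x * y ^ 2) ^ 11 = 1) (h19 : (x * y ^ 4) ^ 19 = 1)
    (d c : Γ) (hd3 : d ^ 3 = 1) (r : ℕ) (hr : r = 5 ∨ r = 7 ∨ r = 11 ∨ r = 19)
    (hdr : (d * (c * d * c⁻¹)) ^ r = 1) (hdr1 : d * (c * d * c⁻¹) ≠ 1)
    (E : Subgroup Γ) (hE : Nat.card E = 8)
    (hEc : ∀ z ∈ E, z ≠ 1 → ∃ c : Γ, ∃ r : ℕ, r.Prime ∧ r ≠ 2 ∧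
      (z * (c * z * c⁻¹)) ^ r = 1 ∧ z * (c * z * c⁻¹) ≠ 1) :
    IsSimpleGroup Γ := by
  have hnt : Nontrivial Γ := by
    rw [← Finite.one_lt_card_iff_nontrivial, hcard]; norm_num
  -- a normal subgroup containing `x` and `y` is everything
  have top_of_xy : ∀ N : Subgroup Γ, x ∈ N → y ∈ N → N = ⊤ := by
    intro N hx hy
    rw [eq_top_iff, ← hgen, Subgroup.closure_le]
    rintro g (rfl | rfl)
    · exact hx
    · exact hy
  -- the four big primes
  have top7 : ∀ N : Subgroup Γ, N.Normal → x ∈ N → N = ⊤ := by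
    intro N hN hx
    apply top_of_xy N hx
    have h1 : ((QuotientGroup.mk y : Γ ⧸ N) ^ 2) ^ 11 = 1 := by
      have : (QuotientGroup.mk (x * y ^ 2) : Γ ⧸ N) = (QuotientGroup.mk y : Γ ⧸ N) ^ 2 := by
        rw [QuotientGroup.mk_mul, (QuotientGroup.eq_one_iff x).2 hx, one_mul, QuotientGroup.mk_pow]
      rw [← this, ← QuotientGroup.mk_pow, h11]; rfl
    have h2 : (QuotientGroup.mk y : Γ ⧸ N) ^ 5 = 1 := by
      rw [← QuotientGroup.mk_pow, hy5]; rfl
    rw [← pow_mul] at h1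
    exact (QuotientGroup.eq_one_iff y).1 (eq_one_of_pow_coprime h1 h2 (by norm_num))
  have top5 : ∀ N : Subgroup Γ, N.Normal → y ∈ N → N = ⊤ := by
    intro N hN hy
    apply top7 N hN
    have h1 : (QuotientGroup.mk x : Γ ⧸ N) ^ 11 = 1 := by
      have : (QuotientGroup.mk (x * y ^ 2) : Γ ⧸ N) = (QuotientGroup.mk x : Γ ⧸ N) := by
        rw [QuotientGroup.mk_mul, QuotientGroup.mk_pow, (QuotientGroup.eq_one_iff y).2 hy,
          one_pow, mul_one]
      rw [← this, ← QuotientGroup.mk_pow, h11]; rfl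
    have h2 : (QuotientGroup.mk x : Γ ⧸ N) ^ 7 = 1 := by
      rw [← QuotientGroup.mk_pow, hx7]; rfl
    exact (QuotientGroup.eq_one_iff x).1 (eq_one_of_pow_coprime h1 h2 (by norm_num))
  have top11 : ∀ N : Subgroup Γ, N.Normal → x * y ^ 2 ∈ N → N = ⊤ := by
    intro N hN hw
    apply top7 N hN
    have h0 : (QuotientGroup.mk x : Γ ⧸ N) * (QuotientGroup.mk y : Γ ⧸ N) ^ 2 = 1 := by
      rw [← QuotientGroup.mk_pow, ← QuotientGroup.mk_mul]
      exact (QuotientGroup.eq_one_iff _).2 hw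
    have hxe : (QuotientGroup.mk x : Γ ⧸ N) = ((QuotientGroup.mk y : Γ ⧸ N) ^ 2)⁻¹ :=
      eq_inv_of_mul_eq_one_left h0
    have h2 : (QuotientGroup.mk y : Γ ⧸ N) ^ 5 = 1 := by
      rw [← QuotientGroup.mk_pow, hy5]; rfl
    have h1 : (QuotientGroup.mk x : Γ ⧸ N) ^ 5 = 1 := by
      rw [hxe, inv_pow, ← pow_mul, mul_comm, pow_mul, h2, one_pow, inv_one]
    have h3 : (QuotientGroup.mk x : Γ ⧸ N) ^ 7 = 1 := by
      rw [← QuotientGroup.mk_pow, hx7]; rfl
    exact (QuotientGroup.eq_one_iff x).1 (eq_one_of_pow_coprime h1 h3 (by norm_num))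
  have top19 : ∀ N : Subgroup Γ, N.Normal → x * y ^ 4 ∈ N → N = ⊤ := by
    intro N hN hw
    apply top7 N hN
    have h0 : (QuotientGroup.mk x : Γ ⧸ N) * (QuotientGroup.mk y : Γ ⧸ N) ^ 4 = 1 := by
      rw [← QuotientGroup.mk_pow, ← QuotientGroup.mk_mul]
      exact (QuotientGroup.eq_one_iff _).2 hw
    have hxe : (QuotientGroup.mk x : Γ ⧸ N) = ((QuotientGroup.mk y : Γ ⧸ N) ^ 4)⁻¹ :=
      eq_inv_of_mul_eq_one_left h0
    have h2 : (QuotientGroup.mk y : Γ ⧸ N) ^ 5 = 1 := by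
      rw [← QuotientGroup.mk_pow, hy5]; rfl
    have h1 : (QuotientGroup.mk x : Γ ⧸ N) ^ 5 = 1 := by
      rw [hxe, inv_pow, ← pow_mul, mul_comm, pow_mul, h2, one_pow, inv_one]
    have h3 : (QuotientGroup.mk x : Γ ⧸ N) ^ 7 = 1 := by
      rw [← QuotientGroup.mk_pow, hx7]; rfl
    exact (QuotientGroup.eq_one_iff x).1 (eq_one_of_pow_coprime h1 h3 (by norm_num))
  have hsq : ∀ p : ℕ, p = 3 ∨ p = 5 ∨ p = 7 ∨ p = 11 ∨ p = 19 → ¬ p ^ 2 ∣ Nat.card Γ := by
    intro p hp
    rw [hcard]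
    rcases hp with rfl | rfl | rfl | rfl | rfl <;> norm_num
  -- big primes dividing `#N`
  have topBig : ∀ N : Subgroup Γ, N.Normal → ∀ p : ℕ, (p = 5 ∨ p = 7 ∨ p = 11 ∨ p = 19) →
      p ∣ Nat.card N → N = ⊤ := by
    intro N hN p hp hpN
    rcases hp with rfl | rfl | rfl | rfl
    · exact top5 N hN (mem_of_prime_dvd_card N (by norm_num) hpN (hsq 5 (by simp)) hy5)
    · exact top7 N hN (mem_of_prime_dvd_card N (by norm_num) hpN (hsq 7 (by simp)) hx7)
    · exact top11 N hN (mem_of_prime_dvd_card N (by norm_num) hpN (hsq 11 (by simp)) h11)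
    · exact top19 N hN (mem_of_prime_dvd_card N (by norm_num) hpN (hsq 19 (by simp)) h19)
  -- the prime 3
  have top3 : ∀ N : Subgroup Γ, N.Normal → 3 ∣ Nat.card N → N = ⊤ := by
    intro N hN h3
    have hdN : d ∈ N := mem_of_prime_dvd_card N (by norm_num) h3 (hsq 3 (by simp)) hd3
    have hd'N : c * d * c⁻¹ ∈ N := hN.conj_mem d hdN c
    have hprod : d * (c * d * c⁻¹) ∈ N := N.mul_mem hdN hd'N
    have hrp : r.Prime := by rcases hr with rfl | rfl | rfl | rfl <;> norm_num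
    have : Fact r.Prime := ⟨hrp⟩
    have hord : orderOf (d * (c * d * c⁻¹)) = r := orderOf_eq_prime hdr hdr1
    have hrN : r ∣ Nat.card N := by
      have := orderOf_dvd_natCard (⟨d * (c * d * c⁻¹), hprod⟩ : N)
      rwa [← Subgroup.orderOf_coe, hord] at this
    exact topBig N hN r hr hrN
  -- odd primes
  have topOdd : ∀ N : Subgroup Γ, N.Normal → ∀ p : ℕ, p.Prime → p ≠ 2 → p ∣ Nat.card N → N = ⊤ := by
    intro N hN p hp hp2 hpN
    have hpG : p ∣ 175560 := hcard ▸ hpN.trans (Subgroup.card_subgroup_dvd_card N)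
    have hfac : (175560 : ℕ) = 2 ^ 3 * 3 * 5 * 7 * 11 * 19 := by norm_num
    rw [hfac] at hpG
    have hcases : p = 2 ∨ p = 3 ∨ p = 5 ∨ p = 7 ∨ p = 11 ∨ p = 19 := by
      rcases (Nat.Prime.dvd_mul hp).1 hpG with h | h
      · rcases (Nat.Prime.dvd_mul hp).1 h with h | h
        · rcases (Nat.Prime.dvd_mul hp).1 h with h | h
          · rcases (Nat.Prime.dvd_mul hp).1 h with h | h
            · rcases (Nat.Prime.dvd_mul hp).1 h with h | h
              · left; exact (Nat.prime_dvd_prime_iff_eq hp Nat.prime_two).1 (hp.dvd_of_dvd_pow h)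
              · right; left; exact (Nat.prime_dvd_prime_iff_eq hp Nat.prime_three).1 h
            · right; right; left; exact (Nat.prime_dvd_prime_iff_eq hp Nat.prime_five).1 h
          · right; right; right; left; exact (Nat.prime_dvd_prime_iff_eq hp (by norm_num)).1 h
        · right; right; right; right; left; exact (Nat.prime_dvd_prime_iff_eq hp (by norm_num)).1 h
      · right; right; right; right; right; exact (Nat.prime_dvd_prime_iff_eq hp (by norm_num)).1 h
    rcases hcases with rfl | rfl | rfl | rfl | rfl | rfl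
    · exact absurd rfl hp2
    · exact top3 N hN hpN
    · exact topBig N hN 5 (by simp) hpN
    · exact topBig N hN 7 (by simp) hpN
    · exact topBig N hN 11 (by simp) hpN
    · exact topBig N hN 19 (by simp) hpN
  -- the prime 2
  have top2 : ∀ N : Subgroup Γ, N.Normal → 2 ∣ Nat.card N → N = ⊤ := by
    intro N hN h2
    have : Fact (Nat.Prime 2) := ⟨Nat.prime_two⟩
    obtain ⟨t, ht⟩ := exists_prime_orderOf_dvd_card' 2 h2
    have ht' : orderOf (t : Γ) = 2 := by rw [Subgroup.orderOf_coe]; exact ht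
    have hzt : IsPGroup 2 (Subgroup.zpowers (t : Γ)) := by
      apply IsPGroup.of_card (n := 1)
      rw [Nat.card_zpowers, ht', pow_one]
    obtain ⟨P, hP⟩ := hzt.exists_le_sylow
    -- `E` is a Sylow `2`-subgroup
    have hfact : (Nat.card Γ).factorization 2 = 3 := by
      rw [hcard, show (175560 : ℕ) = 2 ^ 3 * 21945 by norm_num,
        Nat.factorization_mul (by norm_num) (by norm_num), Nat.factorization_pow]
      simp [Nat.Prime.factorization_self Nat.prime_two,
        Nat.factorization_eq_zero_of_not_dvd (show ¬ 2 ∣ 21945 by norm_num)]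
    let ES : Sylow 2 Γ := Sylow.ofCard E (by rw [hE, hfact]; norm_num)
    obtain ⟨a, ha⟩ := MulAction.exists_smul_eq Γ ES P
    have htP : (t : Γ) ∈ (P : Subgroup Γ) := hP (Subgroup.mem_zpowers _)
    rw [← ha, Sylow.coe_subgroup_smul, Subgroup.mem_pointwise_smul_iff_inv_smul_mem,
      MulAut.smul_def, MulAut.inv_apply, MulAut.conj_symm_apply] at htP
    have hzE : a⁻¹ * (t : Γ) * a ∈ E := htP
    have hzN : a⁻¹ * (t : Γ) * a ∈ N := by
      have := hN.conj_mem _ t.2 a⁻¹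
      simpa using this
    have hz1 : a⁻¹ * (t : Γ) * a ≠ 1 := by
      intro h
      have h5 : (t : Γ) = 1 := by
        calc (t : Γ) = a * (a⁻¹ * (t : Γ) * a) * a⁻¹ := by group
          _ = 1 := by rw [h]; group
      rw [h5, orderOf_one] at ht'
      omega
    obtain ⟨c', r', hr'p, hr'2, hpow, hne⟩ := hEc _ hzE hz1
    have hprod : a⁻¹ * (t : Γ) * a * (c' * (a⁻¹ * (t : Γ) * a) * c'⁻¹) ∈ N :=
      N.mul_mem hzN (hN.conj_mem _ hzN c')
    have : Fact r'.Prime := ⟨hr'p⟩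
    have hord := orderOf_eq_prime hpow hne
    have hrN : r' ∣ Nat.card N := by
      have := orderOf_dvd_natCard (⟨_, hprod⟩ : N)
      rwa [← Subgroup.orderOf_coe, hord] at this
    exact topOdd N hN r' hr'p hr'2 hrN
  refine ⟨fun N hN => ?_⟩
  by_cases hbot : N = ⊥
  · exact Or.inl hbot
  · right
    have hcardN : Nat.card N ≠ 1 := by
      intro h
      exact hbot (Subgroup.card_eq_one.1 h)
    obtain ⟨p, hp, hpN⟩ := Nat.exists_prime_and_dvd hcardN
    by_cases hp2 : p = 2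
    · exact top2 N hN (hp2 ▸ hpN)
    · exact topOdd N hN p hp hp2 hpN

end

end Cfsg.Agent.Helper72.J1
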