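import Cfsg.Agent.Lib.Helper72.J1Order
import Cfsg.Agent.Lib.Helper72.J1Simple

/-!
# Explicit elements of `J₁ = ⟨X, Y⟩`, its order and its simplicity
-/

set_option autoImplicit false

namespace Cfsg.Agent.Helper72.J1

open Cfsg.Spor

/-- `Rep g a`: the element `g` lies in `G = ⟨X, Y⟩` and its matrix is encoded by `a`. -/
def Rep (g : GL (Fin 7) (ZMod 11)) (a : ℕ) : Prop := g ∈ G ∧ (g : Mat) = dec a

theorem rep_x : Rep jankoX xE :=
  ⟨Subgroup.subset_closure (by simp), by rw [dec_xE]; rfl⟩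

theorem rep_y : Rep jankoY yE :=
  ⟨Subgroup.subset_closure (by simp), by rw [dec_yE]; rfl⟩

theorem rep_one : Rep 1 idE := ⟨G.one_mem, by rw [dec_idE]; rfl⟩

theorem Rep.mul {g h : GL (Fin 7) (ZMod 11)} {a b : ℕ} (hg : Rep g a) (hh : Rep h b) :
    Rep (g * h) (mulE a b) :=
  ⟨G.mul_mem hg.1 hh.1, by rw [Units.val_mul, hg.2, hh.2, dec_mulE]⟩

theorem Rep.pow {g : GL (Fin 7) (ZMod 11)} {a : ℕ} (hg : Rep g a) (n : ℕ) :
    Rep (g ^ n) (powE a n) := by
  induction n with
  | zero => rw [pow_zero]; exact rep_one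
  | succ n ih => rw [pow_succ']; exact hg.mul ih

theorem Rep.eq {g h : GL (Fin 7) (ZMod 11)} {a : ℕ} (hg : Rep g a) (hh : Rep h a) : g = h :=
  Units.ext (by rw [hg.2, hh.2])

theorem Rep.congr {g : GL (Fin 7) (ZMod 11)} {a b : ℕ} (hg : Rep g a) (h : a = b) : Rep g b :=
  h ▸ hg

theorem Rep.ne {g h : GL (Fin 7) (ZMod 11)} {a b : ℕ} (hg : Rep g a) (hh : Rep h b)
    (hne : neqE a b = true) : g ≠ h := by
  intro heq
  apply dec_ne_of_neqE hne
  rw [← hg.2, ← hh.2, heq]

theorem Rep.conj {c z : GL (Fin 7) (ZMod 11)} {a b f : ℕ} (hc : Rep c a) (hz : Rep z b)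
    (h : mulE a b = mulE f a) : Rep (c * z * c⁻¹) f := by
  refine ⟨G.mul_mem (G.mul_mem hc.1 hz.1) (G.inv_mem hc.1), ?_⟩
  have h1 : ((c * z : GL (Fin 7) (ZMod 11)) : Mat) = dec f * (c : Mat) := by
    rw [Units.val_mul, hc.2, hz.2, ← dec_mulE, h, dec_mulE]
  rw [Units.val_mul, h1, mul_assoc, ← Units.val_mul, mul_inv_cancel, Units.val_one, mul_one]

/-! ### Elements of prime order -/

theorem x_pow : jankoX ^ 7 = 1 := (rep_x.pow 7).eq (rep_one.congr (by decide +kernel))
theorem y_pow : jankoY ^ 5 = 1 := (rep_y.pow 5).eq (rep_one.congr (by decide +kernel))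
theorem x_ne : jankoX ≠ 1 := rep_x.ne rep_one (by decide +kernel)
theorem y_ne : jankoY ≠ 1 := rep_y.ne rep_one (by decide +kernel)

theorem rep_w11 : Rep (jankoX * jankoY ^ 2) (mulE xE (powE yE 2)) := rep_x.mul (rep_y.pow 2)
theorem w11_pow : (jankoX * jankoY ^ 2) ^ 11 = 1 :=
  (rep_w11.pow 11).eq (rep_one.congr (by decide +kernel))
theorem w11_ne : jankoX * jankoY ^ 2 ≠ 1 := rep_w11.ne rep_one (by decide +kernel)

theorem rep_w19 : Rep (jankoX * jankoY ^ 4) (mulE xE (powE yE 4)) := rep_x.mul (rep_y.pow 4)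
theorem w19_pow : (jankoX * jankoY ^ 4) ^ 19 = 1 :=
  (rep_w19.pow 19).eq (rep_one.congr (by decide +kernel))
theorem w19_ne : jankoX * jankoY ^ 4 ≠ 1 := rep_w19.ne rep_one (by decide +kernel)

/-- An element of order `3`. -/
def dG : GL (Fin 7) (ZMod 11) := (jankoX * jankoY ^ 3) ^ 2
def dE : ℕ := powE (mulE xE (powE yE 3)) 2
theorem rep_d : Rep dG dE := (rep_x.mul (rep_y.pow 3)).pow 2
theorem d_pow : dG ^ 3 = 1 := (rep_d.pow 3).eq (rep_one.congr (by decide +kernel))
theorem d_ne : dG ≠ 1 := rep_d.ne rep_one (by decide +kernel)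

def fdE : ℕ := 268269423511920038838375190593032633477095875184491

theorem rep_d' : Rep ((jankoY * jankoX) * dG * (jankoY * jankoX)⁻¹) fdE :=
  (rep_y.mul rep_x).conj rep_d (by decide +kernel)

theorem rep_dd' : Rep (dG * ((jankoY * jankoX) * dG * (jankoY * jankoX)⁻¹)) (mulE dE fdE) :=
  rep_d.mul rep_d'

theorem dd'_pow : (dG * ((jankoY * jankoX) * dG * (jankoY * jankoX)⁻¹)) ^ 19 = 1 :=
  (rep_dd'.pow 19).eq (rep_one.congr (by decide +kernel))

theorem dd'_ne : dG * ((jankoY * jankoX) * dG * (jankoY * jankoX)⁻¹) ≠ 1 :=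
  rep_dd'.ne rep_one (by decide +kernel)

/-! ### An elementary abelian subgroup of order `8` -/

def a1G : GL (Fin 7) (ZMod 11) := (jankoX * jankoY) ^ 5
def a2G : GL (Fin 7) (ZMod 11) := (jankoX * jankoY ^ 3) ^ 3
def a3G : GL (Fin 7) (ZMod 11) := (jankoX * jankoX * jankoY * jankoX * jankoY * jankoX) ^ 5
def a1E : ℕ := powE (mulE xE yE) 5
def a2E : ℕ := powE (mulE xE (powE yE 3)) 3
def a3E : ℕ := powE (mulE (mulE (mulE (mulE (mulE xE xE) yE) xE) yE) xE) 5

theorem rep_a1 : Rep a1G a1E := (rep_x.mul rep_y).pow 5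
theorem rep_a2 : Rep a2G a2E := (rep_x.mul (rep_y.pow 3)).pow 3
theorem rep_a3 : Rep a3G a3E :=
  (((((rep_x.mul rep_x).mul rep_y).mul rep_x).mul rep_y).mul rep_x).pow 5

/-- The eight elements of `E`. -/
def eG (i : ℕ) : GL (Fin 7) (ZMod 11) := a1G ^ (i % 2) * a2G ^ (i / 2 % 2) * a3G ^ (i / 4 % 2)

def eC (i : ℕ) : ℕ := mulE (mulE (powE a1E (i % 2)) (powE a2E (i / 2 % 2))) (powE a3E (i / 4 % 2))

def eE : List ℕ := [97017234237464720195340918138392575865960457120487,
  291186041029059120272406120439279590813099025959174,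
  558367924449684196793023457882132119383208645120071,
  3417201263578124537628999981088693519870088338557,
  90000140958952811240139854587929364392299610431075,
  847351971534426415477762956309923800249381786647332,
  302361945015080730580991001185756896126363213448027,
  255204783614283827488746066144969993786103306752029]

theorem eC_eq : (List.range 8).all (fun i => eC i == eE.getD i 0) = true := by decide +kernel

theorem rep_e {i : ℕ} (hi : i < 8) : Rep (eG i) (eE.getD i 0) := by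
  have h := List.all_eq_true.1 eC_eq i (List.mem_range.2 hi)
  rw [beq_iff_eq] at h
  exact (((rep_a1.pow _).mul (rep_a2.pow _)).mul (rep_a3.pow _)).congr h

theorem e_table : (List.range 8).all (fun i => (List.range 8).all (fun j =>
    mulE (eE.getD i 0) (eE.getD j 0) == eE.getD (i ^^^ j) 0)) = true := by decide +kernel

theorem e_distinct : (List.range 8).all (fun i => (List.range 8).all (fun j =>
    i == j || neqE (eE.getD i 0) (eE.getD j 0))) = true := by decide +kernel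

theorem xor_lt_eight {i j : ℕ} (hi : i < 8) (hj : j < 8) : i ^^^ j < 8 :=
  Nat.xor_lt_two_pow (n := 3) hi hj

theorem e_mul {i j : ℕ} (hi : i < 8) (hj : j < 8) : eG i * eG j = eG (i ^^^ j) := by
  have h := List.all_eq_true.1 (List.all_eq_true.1 e_table i (List.mem_range.2 hi)) j
    (List.mem_range.2 hj)
  rw [beq_iff_eq] at h
  exact ((rep_e hi).mul (rep_e hj)).eq ((rep_e (xor_lt_eight hi hj)).congr h.symm)

theorem e_zero : eG 0 = 1 := by simp [eG]

theorem e_inj {i j : ℕ} (hi : i < 8) (hj : j < 8) (h : eG i = eG j) : i = j := by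
  by_contra hne
  have h1 := List.all_eq_true.1 (List.all_eq_true.1 e_distinct i (List.mem_range.2 hi)) j
    (List.mem_range.2 hj)
  rw [Bool.or_eq_true, beq_iff_eq] at h1
  rcases h1 with h1 | h1
  · exact hne h1
  · exact (rep_e hi).ne (rep_e hj) h1 h

/-- The subgroup `E` of `G`. -/
def E : Subgroup G where
  carrier := {z | ∃ i < 8, (z : GL (Fin 7) (ZMod 11)) = eG i}
  mul_mem' := by
    rintro a b ⟨i, hi, ha⟩ ⟨j, hj, hb⟩
    exact ⟨i ^^^ j, xor_lt_eight hi hj, by rw [Subgroup.coe_mul, ha, hb, e_mul hi hj]⟩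
  one_mem' := ⟨0, by norm_num, by rw [Subgroup.coe_one, e_zero]⟩
  inv_mem' := by
    rintro a ⟨i, hi, ha⟩
    refine ⟨i, hi, ?_⟩
    rw [Subgroup.coe_inv, ha]
    apply inv_eq_of_mul_eq_one_left
    rw [e_mul hi hi, Nat.xor_self, e_zero]

theorem mem_E {z : G} : z ∈ E ↔ ∃ i < 8, (z : GL (Fin 7) (ZMod 11)) = eG i := Iff.rfl

theorem card_E : Nat.card E = 8 := by
  have hmem : ∀ i : Fin 8, eG i.val ∈ G := fun i => (rep_e i.2).1
  let f : Fin 8 → E := fun i => ⟨⟨eG i.val, hmem i⟩, ⟨i.val, i.2, rfl⟩⟩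
  have hf : Function.Bijective f := by
    constructor
    · intro i j hij
      have h1 : eG i.val = eG j.val := congrArg (fun z : E => ((z : G) : GL (Fin 7) (ZMod 11))) hij
      exact Fin.ext (e_inj i.2 j.2 h1)
    · rintro ⟨z, i, hi, hz⟩
      exact ⟨⟨i, hi⟩, Subtype.ext (Subtype.ext hz.symm)⟩
  rw [← Nat.card_congr (Equiv.ofBijective f hf), Nat.card_fin]

/-! ### Certificates for the involutions of `E` -/

def fE : List ℕ := [0, 488949365918076667222555621921684579766894486371234,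
  632219936690550115686080085365915602472267956140411,
  456201638264105839532950093749598490087857178156097,
  41797811376255616466053478683104246520641619936415,
  875561258995852565337886073640274866914304153391908,
  902113178820144559097783429592392066519235338314627,
  20562958755775652873614533044224241945279357014609]

def rsE : List ℕ := [0, 3, 5, 5, 5, 19, 7, 19]

def cE (i : ℕ) : ℕ := if i = 5 then yE else xE

def cG (i : ℕ) : GL (Fin 7) (ZMod 11) := if i = 5 then jankoY else jankoX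

theorem rep_c (i : ℕ) : Rep (cG i) (cE i) := by
  unfold cG cE
  split_ifs
  · exact rep_y
  · exact rep_x

theorem inv_cert : (List.range 7).all (fun k =>
    mulE (cE (k + 1)) (eE.getD (k + 1) 0) == mulE (fE.getD (k + 1) 0) (cE (k + 1)) &&
    (powE (mulE (eE.getD (k + 1) 0) (fE.getD (k + 1) 0)) (rsE.getD (k + 1) 0) == idE &&
    neqE (mulE (eE.getD (k + 1) 0) (fE.getD (k + 1) 0)) idE)) = true := by decide +kernel

theorem rs_prime {i : ℕ} (h1 : 1 ≤ i) (hi : i < 8) :
    (rsE.getD i 0).Prime ∧ rsE.getD i 0 ≠ 2 := by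
  interval_cases i <;> simp [rsE] <;> norm_num

theorem e_cert {i : ℕ} (h1 : 1 ≤ i) (hi : i < 8) :
    (eG i * (cG i * eG i * (cG i)⁻¹)) ^ (rsE.getD i 0) = 1 ∧
      eG i * (cG i * eG i * (cG i)⁻¹) ≠ 1 := by
  have h := List.all_eq_true.1 inv_cert (i - 1) (List.mem_range.2 (by omega))
  rw [Nat.sub_add_cancel h1, Bool.and_eq_true, Bool.and_eq_true, beq_iff_eq, beq_iff_eq] at h
  obtain ⟨hconj, hpow, hne⟩ := h
  have hf : Rep (cG i * eG i * (cG i)⁻¹) (fE.getD i 0) := (rep_c i).conj (rep_e hi) hconj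
  have hp : Rep (eG i * (cG i * eG i * (cG i)⁻¹)) (mulE (eE.getD i 0) (fE.getD i 0)) :=
    (rep_e hi).mul hf
  exact ⟨(hp.pow _).eq (rep_one.congr hpow.symm), hp.ne rep_one hne⟩

/-! ### The order of `G` -/

theorem x_mem : jankoX ∈ G := rep_x.1
theorem y_mem : jankoY ∈ G := rep_y.1

theorem dvd_card_of_prime_order {g : GL (Fin 7) (ZMod 11)} (hg : g ∈ G) {p : ℕ} (hp : p.Prime)
    (hpow : g ^ p = 1) (hne : g ≠ 1) : p ∣ Nat.card G := by
  have : Fact p.Prime := ⟨hp⟩
  have h1 : orderOf g = p := orderOf_eq_prime hpow hne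
  have h2 := orderOf_dvd_natCard (⟨g, hg⟩ : G)
  rwa [← Subgroup.orderOf_coe, h1] at h2

theorem h7_dvd : 7 ∣ Nat.card G := dvd_card_of_prime_order x_mem (by norm_num) x_pow x_ne
theorem h5_dvd : 5 ∣ Nat.card G := dvd_card_of_prime_order y_mem (by norm_num) y_pow y_ne
theorem h11_dvd : 11 ∣ Nat.card G :=
  dvd_card_of_prime_order rep_w11.1 (by norm_num) w11_pow w11_ne
theorem h19_dvd : 19 ∣ Nat.card G :=
  dvd_card_of_prime_order rep_w19.1 (by norm_num) w19_pow w19_ne
theorem h3_dvd : 3 ∣ Nat.card G := dvd_card_of_prime_order rep_d.1 (by norm_num) d_pow d_ne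
theorem h8_dvd : 8 ∣ Nat.card G := by
  have := Subgroup.card_subgroup_dvd_card E
  rwa [card_E] at this

theorem card_G : Nat.card G = 175560 := by
  have h24 : 8 * 3 ∣ Nat.card G := Nat.Coprime.mul_dvd_of_dvd_of_dvd (by norm_num) h8_dvd h3_dvd
  have h120 : 8 * 3 * 5 ∣ Nat.card G :=
    Nat.Coprime.mul_dvd_of_dvd_of_dvd (by norm_num) h24 h5_dvd
  have h840 : 8 * 3 * 5 * 7 ∣ Nat.card G :=
    Nat.Coprime.mul_dvd_of_dvd_of_dvd (by norm_num) h120 h7_dvd
  have h9240 : 8 * 3 * 5 * 7 * 11 ∣ Nat.card G :=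
    Nat.Coprime.mul_dvd_of_dvd_of_dvd (by norm_num) h840 h11_dvd
  have hall : 8 * 3 * 5 * 7 * 11 * 19 ∣ Nat.card G :=
    Nat.Coprime.mul_dvd_of_dvd_of_dvd (by norm_num) h9240 h19_dvd
  have hpos : 0 < Nat.card G := Nat.card_pos
  have hle := Nat.le_of_dvd hpos hall
  have hge := card_G_le
  omega

/-! ### Simplicity -/

theorem closure_xy : Subgroup.closure ({⟨jankoX, x_mem⟩, ⟨jankoY, y_mem⟩} : Set G) = ⊤ := by
  have h := Subgroup.closure_closure_coe_preimage (k := ({jankoX, jankoY} : Set (GL (Fin 7) (ZMod 11))))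
  convert h using 2
  ext z
  simp only [Set.mem_insert_iff, Set.mem_singleton_iff, Set.mem_preimage, Subtype.ext_iff]

theorem simple_G : IsSimpleGroup G := by
  have hcE : jankoY * jankoX ∈ G := G.mul_mem y_mem x_mem
  apply simple_of_certificates card_G ⟨jankoX, x_mem⟩ ⟨jankoY, y_mem⟩ closure_xy
    (Subtype.ext (by simpa using x_pow)) (Subtype.ext (by simpa using y_pow))
    (Subtype.ext (by simpa using w11_pow)) (Subtype.ext (by simpa using w19_pow))
    ⟨dG, rep_d.1⟩ ⟨jankoY * jankoX, hcE⟩ (Subtype.ext (by simpa using d_pow)) 19 (by simp)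
    (Subtype.ext (by simpa using dd'_pow))
    (fun h => dd'_ne (by simpa using congrArg Subtype.val h)) E card_E
  intro z hz hz1
  obtain ⟨i, hi, hzi⟩ := mem_E.1 hz
  have hi1 : 1 ≤ i := by
    rcases Nat.eq_zero_or_pos i with rfl | h
    · exfalso; apply hz1; apply Subtype.ext; rw [hzi, e_zero]; rfl
    · exact h
  obtain ⟨hpow, hne⟩ := e_cert hi1 hi
  obtain ⟨hrp, hr2⟩ := rs_prime hi1 hi
  refine ⟨⟨cG i, (rep_c i).1⟩, rsE.getD i 0, hrp, hr2, ?_, ?_⟩
  · apply Subtype.ext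
    simp only [Subgroup.coe_pow, Subgroup.coe_mul, Subgroup.coe_inv, Subgroup.coe_one, hzi]
    exact hpow
  · intro h
    apply hne
    have := congrArg Subtype.val h
    simpa only [Subgroup.coe_mul, Subgroup.coe_inv, Subgroup.coe_one, hzi] using this

end Cfsg.Agent.Helper72.J1
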