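import Cfsg.Agent.Lib.Helper72.TCLog

/-!
# Logged coset enumeration for the presented group (suz), level 0

Generated data: the relators in the first `1` generators, all their rotations, the log of a
Felsch-style coset enumeration over the subgroup generated by the first `0` generators
(2 nodes, 1 steps), and the `2` nodes that are left.
-/

set_option autoImplicit false

namespace Cfsg.Agent.Helper72.SuzPres

open Cfsg.Agent.Helper72.TCLog

/-- The relators of level 0. -/
noncomputable def base0 : List (List ℕ) := []

/-- All their rotations. -/
noncomputable def relsR0 : List (List ℕ) := []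

set_option maxRecDepth 1000000 in
theorem hrots0 : relsR0 = allRots base0 := by decide +kernel

/-- Part 0 of the log. -/
noncomputable def log0_0 : List ℕ := [0]

/-- The log. -/
noncomputable def log0 : List ℕ := log0_0

/-- The nodes that are left. -/
noncomputable def live0 : List ℕ := [0, 1]

theorem hlen0 : live0.length = 2 := by decide +kernel

set_option maxRecDepth 1000000 in
set_option maxHeartbeats 0 in
theorem lv0 : final (run 0 relsR0 log0 init) 1 live0 = true := by decide +kernel

/-- The cover of the subgroup generated by the first `1` generators by `2` cosets of the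
subgroup generated by the first `0` generators. -/
theorem lv0_cover {G : Type*} [Group G] (K : Subgroup G) (x : ℕ → G) (hx : ∀ g, x g * x g = 1)
    (hrel : ∀ r ∈ base0, (r.map x).prod = 1) (hk : ∀ g < 0, x g ∈ K) :
    ∃ w : ℕ → G, ∀ y ∈ Subgroup.closure (x '' {g | g < 1}), ∃ p < 2, y * (w p)⁻¹ ∈ K := by
  have h := cover_of_log K x hx 0 1 (by norm_num) hk relsR0
    (by rw [hrots0]; exact allRots_prod hrel) log0 live0 lv0
  rw [hlen0] at h
  exact h

end Cfsg.Agent.Helper72.SuzPres
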