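import Cfsg.Agent.Lib.Helper72.TCLog

/-!
# Logged coset enumeration for the presented group (suz), level 1

Generated data: the relators in the first `2` generators, all their rotations, the log of a
Felsch-style coset enumeration over the subgroup generated by the first `1` generators
(5 nodes, 6 steps), and the `5` nodes that are left.
-/

set_option autoImplicit false

namespace Cfsg.Agent.Helper72.SuzPres

open Cfsg.Agent.Helper72.TCLog

/-- The relators of level 1. -/
noncomputable def base1 : List (List ℕ) := [[0, 1, 0, 1, 0, 1, 0, 1, 0, 1]]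

/-- All their rotations. -/
noncomputable def relsR1 : List (List ℕ) := [[0, 1, 0, 1, 0, 1, 0, 1, 0, 1], [1, 0, 1, 0, 1, 0, 1, 0, 1, 0], [0, 1, 0, 1, 0, 1, 0, 1, 0, 1], [1, 0, 1, 0, 1, 0, 1, 0, 1, 0], [0, 1, 0, 1, 0, 1, 0, 1, 0, 1], [1, 0, 1, 0, 1, 0, 1, 0, 1, 0], [0, 1, 0, 1, 0, 1, 0, 1, 0, 1], [1, 0, 1, 0, 1, 0, 1, 0, 1, 0], [0, 1, 0, 1, 0, 1, 0, 1, 0, 1], [1, 0, 1, 0, 1, 0, 1, 0, 1, 0]]

set_option maxRecDepth 1000000 in
theorem hrots1 : relsR1 = allRots base1 := by decide +kernel

/-- Part 0 of the log. -/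
noncomputable def log1_0 : List ℕ := [3, 4194304, 4, 4194312, 12, 39582418599953]

/-- The log. -/
noncomputable def log1 : List ℕ := log1_0

/-- The nodes that are left. -/
noncomputable def live1 : List ℕ := [0, 1, 2, 3, 4]

theorem hlen1 : live1.length = 5 := by decide +kernel

set_option maxRecDepth 1000000 in
set_option maxHeartbeats 0 in
theorem lv1 : final (run 1 relsR1 log1 init) 2 live1 = true := by decide +kernel

/-- The cover of the subgroup generated by the first `2` generators by `5` cosets of the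
subgroup generated by the first `1` generators. -/
theorem lv1_cover {G : Type*} [Group G] (K : Subgroup G) (x : ℕ → G) (hx : ∀ g, x g * x g = 1)
    (hrel : ∀ r ∈ base1, (r.map x).prod = 1) (hk : ∀ g < 1, x g ∈ K) :
    ∃ w : ℕ → G, ∀ y ∈ Subgroup.closure (x '' {g | g < 2}), ∃ p < 5, y * (w p)⁻¹ ∈ K := by
  have h := cover_of_log K x hx 1 2 (by norm_num) hk relsR1
    (by rw [hrots1]; exact allRots_prod hrel) log1 live1 lv1
  rw [hlen1] at h
  exact h

end Cfsg.Agent.Helper72.SuzPres
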