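import Mathlib

/-!
# Coset enumeration certificates, checked on bit sets

Let `x 0, x 1, …` be involutions of a group `G` and `K` a subgroup.  A *coset table* is given by
involutive permutations `τ g` of `ℕ`; the coset `p` carries a word `w p`, and an *edge* `(p, g)` is
*proven* when `w p * x g * (w (τ g p))⁻¹ ∈ K`.  Starting from the edges of a spanning tree (which
define the words) and the edges `(0, g)` for the generators `x g ∈ K` fixing the coset `0`, new
edges are deduced from the relators: when a relator, read from some coset, runs through proven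
edges except at one place, that edge is proven as well.  All this is computed on bit sets: one
mask of proven edges for every generator, and `pm g M` is the image of the mask `M` under `τ g`.
When all the edges out of the cosets `p < n` are proven, the `n` cosets `K * w p` cover the subgroup
generated by the `x g`.
-/

set_option autoImplicit false

namespace Cfsg.Agent.Helper72.TCC

/-! ### Masks -/

/-- The mask of the generator `g`. -/
def getE (E : List ℕ) (g : ℕ) : ℕ := E.getD g 0

/-- Replace the mask of the generator `g`. -/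
def setE (E : List ℕ) (g v : ℕ) : List ℕ := E.set g v

theorem getE_setE (E : List ℕ) (g v g' : ℕ) :
    getE (setE E g v) g' = if g = g' ∧ g < E.length then v else getE E g' := by
  unfold getE setE
  rw [List.getD_eq_getElem?_getD, List.getD_eq_getElem?_getD, List.getElem?_set]
  by_cases h : g = g'
  · subst h
    by_cases h2 : g < E.length
    · simp [h2]
    · simp [h2]
  · simp [h]

section defs
variable (pm : ℕ → ℕ → ℕ)

/-- The cosets reached from the mask `A` through proven edges along the word `l`. -/
def fwd (E : List ℕ) : List ℕ → ℕ → ℕ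
  | [], A => A
  | y :: l, A => fwd E l (pm y (A &&& getE E y))

/-- One deduction: the relator is `pre ++ y :: suf`. -/
def ded (full : ℕ) (E : List ℕ) (pre : List ℕ) (y : ℕ) (suf : List ℕ) : List ℕ :=
  let D := fwd pm E pre full &&& pm y (fwd pm E suf.reverse full)
  setE E y (getE E y ||| D ||| pm y D)

/-- All the deductions of a relator, the letters of `pre` being already read. -/
def relStep (full : ℕ) : List ℕ → List ℕ → List ℕ → List ℕ
  | E, _, [] => E
  | E, pre, y :: suf => relStep full (ded pm full E pre y suf) (pre ++ [y]) suf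

/-- One round: all the deductions of all the relators. -/
def round (full : ℕ) (rels : List (List ℕ)) (E : List ℕ) : List ℕ :=
  rels.foldl (fun E r => relStep pm full E [] r) E

/-- Several rounds. -/
def rounds (full : ℕ) (rels : List (List ℕ)) : ℕ → List ℕ → List ℕ
  | 0, E => E
  | k + 1, E => rounds full rels k (round pm full rels E)

/-- Add the tree edges from the cosets of `pm g N` (already seen) to the cosets of `N` (new). -/
def addRec (st : ℕ × List ℕ) (g N : ℕ) : ℕ × List ℕ :=
  if N &&& st.1 == 0 && pm g N &&& st.1 == pm g N then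
    (st.1 ||| N, setE st.2 g (getE st.2 g ||| N ||| pm g N))
  else st

/-- One layer of the spanning tree: from the cosets of `F`, along the tree edges of `T`. -/
def bfsLayer (T : List ℕ) (ng F : ℕ) (st : ℕ × List ℕ) : ℕ × List ℕ :=
  (List.range ng).foldl (fun s g =>
    addRec pm s g (pm g (F &&& getE T g) ^^^ (pm g (F &&& getE T g) &&& s.1))) st

/-- The spanning tree, layer by layer. -/
def bfs (T : List ℕ) (ng : ℕ) : ℕ → ℕ → ℕ × List ℕ → ℕ × List ℕ
  | 0, _, st => st
  | d + 1, F, st => bfs T ng d ((bfsLayer pm T ng F st).1 ^^^ st.1) (bfsLayer pm T ng F st)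

/-- The initial state: the coset `0` is seen and the generators `g < k` fix it. -/
def initSt (ng k : ℕ) : ℕ × List ℕ := (1, (List.range ng).map (fun g => if g < k then 1 else 0))

/-- The whole check. -/
def check (n ng k : ℕ) (rels : List (List ℕ)) (T : List ℕ) (depth nrounds : ℕ) : Bool :=
  (List.range k).all (fun g => pm g 1 == 1) &&
  (List.range ng).all (fun g => pm g (2 ^ n - 1) == 2 ^ n - 1) &&
  (List.range ng).all (fun g =>
    getE (rounds pm (2 ^ n - 1) rels nrounds (bfs pm T ng depth 1 (initSt ng k)).2) g
      &&& (2 ^ n - 1) == 2 ^ n - 1)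

end defs

/-! ### Soundness -/

section sound
variable {G : Type*} [Group G] (K : Subgroup G) (x : ℕ → G) (τ : ℕ → Equiv.Perm ℕ)
  (pm : ℕ → ℕ → ℕ)

/-- Walk from a coset along a word. -/
def walk : List ℕ → ℕ → ℕ
  | [], c => c
  | y :: l, c => walk l (τ y c)

theorem walk_append (l1 l2 : List ℕ) (c : ℕ) : walk τ (l1 ++ l2) c = walk τ l2 (walk τ l1 c) := by
  induction l1 generalizing c with
  | nil => rfl
  | cons y l ih => exact ih _

variable {τ} in
theorem walk_reverse (hτ : ∀ g p, τ g (τ g p) = p) (l : List ℕ) (c : ℕ) :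
    walk τ l.reverse (walk τ l c) = c := by
  induction l generalizing c with
  | nil => rfl
  | cons y l ih =>
    rw [List.reverse_cons, walk_append]
    show walk τ [y] (walk τ l.reverse (walk τ l (τ y c))) = c
    rw [ih]
    exact hτ y c

/-- The proven edges are right. -/
def Valid (w : ℕ → G) (E : List ℕ) : Prop :=
  ∀ g p, (getE E g).testBit p = true → w p * x g * (w (τ g p))⁻¹ ∈ K

variable {K x τ pm}

theorem prod_reverse (hx : ∀ g, x g * x g = 1) (l : List ℕ) :
    (l.reverse.map x).prod = ((l.map x).prod)⁻¹ := by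
  induction l with
  | nil => simp
  | cons y l ih =>
    have hy : (x y)⁻¹ = x y := inv_eq_of_mul_eq_one_right (hx y)
    simp only [List.reverse_cons, List.map_append, List.prod_append, ih, List.map_cons,
      List.map_nil, List.prod_cons, List.prod_nil, mul_one, mul_inv_rev, hy]

theorem fwd_sound (hpm : ∀ g M p, (pm g M).testBit p = M.testBit (τ g p))
    (hτ : ∀ g p, τ g (τ g p) = p) {w : ℕ → G} {E : List ℕ} (hE : Valid K x τ w E) (l : List ℕ)
    (A q : ℕ) (h : (fwd pm E l A).testBit q = true) :
    ∃ c, A.testBit c = true ∧ w c * (l.map x).prod * (w q)⁻¹ ∈ K ∧ walk τ l c = q := by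
  induction l generalizing A with
  | nil =>
    refine ⟨q, h, ?_, rfl⟩
    simp
  | cons y l ih =>
    obtain ⟨c', hc', hk, hw⟩ := ih (pm y (A &&& getE E y)) h
    rw [hpm, Nat.testBit_and, Bool.and_eq_true] at hc'
    have hv := hE y (τ y c') hc'.2
    rw [hτ] at hv
    refine ⟨τ y c', hc'.1, ?_, ?_⟩
    · have := K.mul_mem hv hk
      rw [List.map_cons, List.prod_cons]
      convert this using 1
      group
    · show walk τ l (τ y (τ y c')) = q
      rw [hτ]
      exact hw

theorem ded_valid (hpm : ∀ g M p, (pm g M).testBit p = M.testBit (τ g p))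
    (hτ : ∀ g p, τ g (τ g p) = p) (hx : ∀ g, x g * x g = 1) {w : ℕ → G} {E : List ℕ}
    (hE : Valid K x τ w E) (full : ℕ) (pre : List ℕ) (y : ℕ) (suf : List ℕ)
    (hrel : ((pre ++ y :: suf).map x).prod = 1) (htab : ∀ c, walk τ (pre ++ y :: suf) c = c) :
    Valid K x τ w (ded pm full E pre y suf) := by
  intro g p hp
  unfold ded at hp
  rw [getE_setE] at hp
  split_ifs at hp with hg
  · obtain ⟨rfl, _⟩ := hg
    have key : ∀ p, (fwd pm E pre full &&& pm y (fwd pm E suf.reverse full)).testBit p = true →
        w p * x y * (w (τ y p))⁻¹ ∈ K := by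
      intro p hD
      rw [Nat.testBit_and, Bool.and_eq_true, hpm] at hD
      obtain ⟨c, -, hk1, hw1⟩ := fwd_sound hpm hτ hE pre full p hD.1
      obtain ⟨c', -, hk2, hw2⟩ := fwd_sound hpm hτ hE suf.reverse full (τ y p) hD.2
      have hc : c' = c := by
        have h1 : walk τ suf (τ y p) = c' := by
          rw [← hw2]
          have := walk_reverse hτ suf.reverse c'
          rwa [List.reverse_reverse] at this
        have h2 := htab c
        rw [walk_append, hw1] at h2
        rw [← h1]
        exact h2
      subst hc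
      rw [prod_reverse hx] at hk2
      rw [List.map_append, List.prod_append, List.map_cons, List.prod_cons] at hrel
      have e : (suf.map x).prod⁻¹ = (pre.map x).prod * x y :=
        (eq_inv_of_mul_eq_one_left (by rw [mul_assoc]; exact hrel)).symm
      rw [e] at hk2
      have := K.mul_mem (K.inv_mem hk1) hk2
      convert this using 1
      group
    simp only [Nat.testBit_or, Bool.or_eq_true] at hp
    rcases hp with (hp | hp) | hp
    · exact hE y p hp
    · exact key p hp
    · rw [hpm] at hp
      have := K.inv_mem (key (τ y p) hp)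
      rw [hτ] at this
      convert this using 1
      have hy : (x y)⁻¹ = x y := inv_eq_of_mul_eq_one_right (hx y)
      rw [mul_inv_rev, mul_inv_rev, inv_inv, hy, mul_assoc]
  · exact hE g p hp

theorem relStep_valid (hpm : ∀ g M p, (pm g M).testBit p = M.testBit (τ g p))
    (hτ : ∀ g p, τ g (τ g p) = p) (hx : ∀ g, x g * x g = 1) {w : ℕ → G} (full : ℕ)
    (suf pre : List ℕ) (E : List ℕ) (hE : Valid K x τ w E)
    (hrel : ((pre ++ suf).map x).prod = 1) (htab : ∀ c, walk τ (pre ++ suf) c = c) :
    Valid K x τ w (relStep pm full E pre suf) := by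
  induction suf generalizing pre E with
  | nil => exact hE
  | cons y suf ih =>
    unfold relStep
    apply ih
    · exact ded_valid hpm hτ hx hE full pre y suf hrel htab
    · rwa [List.append_assoc, List.singleton_append]
    · rwa [List.append_assoc, List.singleton_append]

theorem round_valid (hpm : ∀ g M p, (pm g M).testBit p = M.testBit (τ g p))
    (hτ : ∀ g p, τ g (τ g p) = p) (hx : ∀ g, x g * x g = 1) {w : ℕ → G} (full : ℕ)
    (rels : List (List ℕ)) (hrel : ∀ r ∈ rels, (r.map x).prod = 1)
    (htab : ∀ r ∈ rels, ∀ c, walk τ r c = c) (E : List ℕ) (hE : Valid K x τ w E) :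
    Valid K x τ w (round pm full rels E) := by
  unfold round
  induction rels generalizing E with
  | nil => exact hE
  | cons r rels ih =>
    rw [List.foldl_cons]
    apply ih (fun r hr => hrel r (List.mem_cons_of_mem _ hr))
      (fun r hr => htab r (List.mem_cons_of_mem _ hr))
    exact relStep_valid hpm hτ hx full r [] E hE (hrel r List.mem_cons_self)
      (htab r List.mem_cons_self)

theorem rounds_valid (hpm : ∀ g M p, (pm g M).testBit p = M.testBit (τ g p))
    (hτ : ∀ g p, τ g (τ g p) = p) (hx : ∀ g, x g * x g = 1) {w : ℕ → G} (full : ℕ)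
    (rels : List (List ℕ)) (hrel : ∀ r ∈ rels, (r.map x).prod = 1)
    (htab : ∀ r ∈ rels, ∀ c, walk τ r c = c) (k : ℕ) (E : List ℕ) (hE : Valid K x τ w E) :
    Valid K x τ w (rounds pm full rels k E) := by
  induction k generalizing E with
  | zero => exact hE
  | succ k ih =>
    unfold rounds
    exact ih _ (round_valid hpm hτ hx full rels hrel htab E hE)

/-- The invariant of the construction of the spanning tree. -/
def Inv (K : Subgroup G) (x : ℕ → G) (τ : ℕ → Equiv.Perm ℕ) (st : ℕ × List ℕ) : Prop :=
  st.1.testBit 0 = true ∧ ∃ w : ℕ → G, w 0 = 1 ∧ ∀ g p, (getE st.2 g).testBit p = true →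
    st.1.testBit p = true ∧ st.1.testBit (τ g p) = true ∧ w p * x g * (w (τ g p))⁻¹ ∈ K

theorem addRec_inv (hpm : ∀ g M p, (pm g M).testBit p = M.testBit (τ g p))
    (hτ : ∀ g p, τ g (τ g p) = p) (hx : ∀ g, x g * x g = 1) (st : ℕ × List ℕ) (g N : ℕ)
    (h : Inv K x τ st) : Inv K x τ (addRec pm st g N) := by
  unfold addRec
  split_ifs with hc
  · rw [Bool.and_eq_true, beq_iff_eq, beq_iff_eq] at hc
    obtain ⟨hc1, hc2⟩ := hc
    obtain ⟨h0, w, hw0, hw⟩ := h
    have hN : ∀ p, N.testBit p = true → st.1.testBit p = false := by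
      intro p hp
      have : (N &&& st.1).testBit p = false := by rw [hc1]; simp
      rw [Nat.testBit_and, hp] at this
      simpa using this
    have hP : ∀ p, N.testBit (τ g p) = true → st.1.testBit p = true := by
      intro p hp
      have : (pm g N &&& st.1).testBit p = (pm g N).testBit p := by rw [hc2]
      rw [Nat.testBit_and, hpm, hp] at this
      simpa using this
    have hseen : ∀ p, st.1.testBit p = true → N.testBit p = false := by
      intro p hp
      by_contra hc
      have := hN p (by simpa using hc)
      rw [this] at hp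
      exact absurd hp (by simp)
    refine ⟨?_, fun q => if N.testBit q then w (τ g q) * x g else w q, ?_, ?_⟩
    · show (st.1 ||| N).testBit 0 = true
      rw [Nat.testBit_or, h0]
      rfl
    · show (if N.testBit 0 then w (τ g 0) * x g else w 0) = 1
      rw [hseen 0 h0]
      exact hw0
    · intro g' p hp
      show (st.1 ||| N).testBit p = true ∧ (st.1 ||| N).testBit (τ g' p) = true ∧
        (if N.testBit p then w (τ g p) * x g else w p) * x g' *
          (if N.testBit (τ g' p) then w (τ g (τ g' p)) * x g else w (τ g' p))⁻¹ ∈ K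
      rw [Nat.testBit_or, Nat.testBit_or]
      have old : (getE st.2 g').testBit p = true →
          (st.1.testBit p || N.testBit p) = true ∧
          (st.1.testBit (τ g' p) || N.testBit (τ g' p)) = true ∧
          (if N.testBit p then w (τ g p) * x g else w p) * x g' *
            (if N.testBit (τ g' p) then w (τ g (τ g' p)) * x g else w (τ g' p))⁻¹ ∈ K := by
        intro hp
        obtain ⟨h1, h2, h3⟩ := hw g' p hp
        rw [h1, h2, hseen p h1, hseen _ h2]
        exact ⟨rfl, rfl, h3⟩
      change (getE (setE st.2 g (getE st.2 g ||| N ||| pm g N)) g').testBit p = true at hp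
      rw [getE_setE] at hp
      split_ifs at hp with hg
      · obtain ⟨rfl, _⟩ := hg
        simp only [Nat.testBit_or, Bool.or_eq_true] at hp
        rcases hp with (hp | hp) | hp
        · exact old hp
        · have h2 : st.1.testBit (τ g p) = true := hP (τ g p) (by rw [hτ]; exact hp)
          rw [hp, h2, hseen _ h2]
          refine ⟨by simp, by simp, ?_⟩
          simp only [if_true, Bool.false_eq_true, if_false]
          have : w (τ g p) * x g * x g * (w (τ g p))⁻¹ = 1 := by
            rw [mul_assoc (w (τ g p)), hx, mul_one, mul_inv_cancel]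
          rw [this]
          exact K.one_mem
        · rw [hpm] at hp
          have h1 : st.1.testBit p = true := hP p hp
          rw [h1, hp, hseen p h1, hτ]
          refine ⟨by simp, by simp, ?_⟩
          simp only [if_true, Bool.false_eq_true, if_false]
          rw [mul_inv_cancel]
          exact K.one_mem
      · exact old hp
  · exact h

theorem bfsLayer_inv (hpm : ∀ g M p, (pm g M).testBit p = M.testBit (τ g p))
    (hτ : ∀ g p, τ g (τ g p) = p) (hx : ∀ g, x g * x g = 1) (T : List ℕ) (ng F : ℕ)
    (st : ℕ × List ℕ) (h : Inv K x τ st) : Inv K x τ (bfsLayer pm T ng F st) := by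
  unfold bfsLayer
  generalize List.range ng = L
  induction L generalizing st with
  | nil => exact h
  | cons g L ih =>
    rw [List.foldl_cons]
    exact ih _ (addRec_inv hpm hτ hx st g _ h)

theorem bfs_inv (hpm : ∀ g M p, (pm g M).testBit p = M.testBit (τ g p))
    (hτ : ∀ g p, τ g (τ g p) = p) (hx : ∀ g, x g * x g = 1) (T : List ℕ) (ng d F : ℕ)
    (st : ℕ × List ℕ) (h : Inv K x τ st) : Inv K x τ (bfs pm T ng d F st) := by
  induction d generalizing F st with
  | zero => exact h
  | succ d ih =>
    unfold bfs
    exact ih _ _ (bfsLayer_inv hpm hτ hx T ng F st h)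

theorem getE_initSt (ng k g : ℕ) :
    getE (initSt ng k).2 g = if g < ng ∧ g < k then 1 else 0 := by
  unfold getE initSt
  rw [List.getD_eq_getElem?_getD]
  by_cases h : g < ng
  · rw [List.getElem?_map, List.getElem?_range h]
    simp [h]
  · rw [List.getElem?_eq_none (by simpa using h)]
    simp [h]

theorem testBit_one_iff (p : ℕ) : (1 : ℕ).testBit p = true ↔ p = 0 := by
  have := Nat.testBit_two_pow (n := 0) (m := p)
  rw [pow_zero] at this
  rw [this]
  simp [eq_comm]

theorem initSt_inv (hpm : ∀ g M p, (pm g M).testBit p = M.testBit (τ g p)) (ng k : ℕ)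
    (hk : ∀ g < k, x g ∈ K) (h1 : ∀ g < k, pm g 1 = 1) : Inv K x τ (initSt ng k) := by
  have h00 : (initSt ng k).1.testBit 0 = true := by
    show (1 : ℕ).testBit 0 = true
    decide
  refine ⟨h00, fun _ => 1, rfl, ?_⟩
  intro g p hp
  rw [getE_initSt] at hp
  split_ifs at hp with hg
  · rw [testBit_one_iff] at hp
    subst hp
    have h0 : τ g 0 = 0 := by
      have := hpm g 1 0
      rw [h1 g hg.2] at this
      have h2 : (1 : ℕ).testBit (τ g 0) = true := by rw [← this]; rfl
      exact (testBit_one_iff _).1 h2
    rw [h0]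
    refine ⟨h00, h00, ?_⟩
    simpa using hk g hg.2
  · simp at hp

theorem testBit_full {n p : ℕ} : (2 ^ n - 1).testBit p = true ↔ p < n := by
  rw [Nat.testBit_two_pow_sub_one]
  simp

/-- The cover: every element of the subgroup generated by the `x g` lies in one of the cosets
`K * w p`, `p < n`. -/
theorem cover (hpm : ∀ g M p, (pm g M).testBit p = M.testBit (τ g p))
    (hτ : ∀ g p, τ g (τ g p) = p) (hx : ∀ g, x g * x g = 1) (n ng k : ℕ)
    (rels : List (List ℕ)) (hrel : ∀ r ∈ rels, (r.map x).prod = 1)
    (htab : ∀ r ∈ rels, ∀ c, walk τ r c = c) (hk : ∀ g < k, x g ∈ K) (T : List ℕ)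
    (depth nrounds : ℕ) (hn : 0 < n)
    (hc : check pm n ng k rels T depth nrounds = true) :
    ∃ w : ℕ → G, ∀ h ∈ Subgroup.closure (x '' {g | g < ng}), ∃ p < n, h * (w p)⁻¹ ∈ K := by
  unfold check at hc
  rw [Bool.and_eq_true, Bool.and_eq_true] at hc
  obtain ⟨⟨hc1, hc2⟩, hc3⟩ := hc
  have h1 : ∀ g < k, pm g 1 = 1 := by
    intro g hg
    have := List.all_eq_true.1 hc1 g (List.mem_range.2 hg)
    simpa using this
  have h2 : ∀ g < ng, ∀ p < n, τ g p < n := by
    intro g hg p hp
    have := List.all_eq_true.1 hc2 g (List.mem_range.2 hg)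
    rw [beq_iff_eq] at this
    have h3 := hpm g (2 ^ n - 1) p
    rw [this] at h3
    rw [← testBit_full, ← h3, testBit_full]
    exact hp
  obtain ⟨-, w, hw0, hw⟩ := bfs_inv hpm hτ hx T ng depth 1 _ (initSt_inv hpm ng k hk h1)
  have hV : Valid K x τ w (bfs pm T ng depth 1 (initSt ng k)).2 := fun g p hp => (hw g p hp).2.2
  have hV2 := rounds_valid hpm hτ hx (2 ^ n - 1) rels hrel htab nrounds _ hV
  have hedge : ∀ g < ng, ∀ p < n, w p * x g * (w (τ g p))⁻¹ ∈ K := by
    intro g hg p hp
    apply hV2 g p
    have := List.all_eq_true.1 hc3 g (List.mem_range.2 hg)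
    rw [beq_iff_eq] at this
    have h3 : ((getE (rounds pm (2 ^ n - 1) rels nrounds
        (bfs pm T ng depth 1 (initSt ng k)).2) g) &&& (2 ^ n - 1)).testBit p = true := by
      rw [this, testBit_full]
      exact hp
    rw [Nat.testBit_and, Bool.and_eq_true] at h3
    exact h3.1
  refine ⟨w, fun h hh => ?_⟩
  induction hh using Subgroup.closure_induction_right with
  | one =>
    refine ⟨0, hn, ?_⟩
    rw [hw0]
    simp
  | mul_right a ha b hb ih =>
    obtain ⟨g, hg, rfl⟩ := hb
    obtain ⟨p, hp, hk⟩ := ih
    refine ⟨τ g p, h2 g hg p hp, ?_⟩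
    have := K.mul_mem hk (hedge g hg p hp)
    convert this using 1
    group
  | mul_inv_cancel a ha b hb ih =>
    obtain ⟨g, hg, rfl⟩ := hb
    obtain ⟨p, hp, hk⟩ := ih
    refine ⟨τ g p, h2 g hg p hp, ?_⟩
    have hy : (x g)⁻¹ = x g := inv_eq_of_mul_eq_one_right (hx g)
    rw [hy]
    have := K.mul_mem hk (hedge g hg p hp)
    convert this using 1
    group

/-- The bound on the order that follows from a cover. -/
theorem card_le_of_cover (K H : Subgroup G) [Finite K] (n : ℕ) (w : ℕ → G)
    (hcov : ∀ h ∈ H, ∃ p < n, h * (w p)⁻¹ ∈ K) :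
    Finite H ∧ Nat.card H ≤ n * Nat.card K := by
  classical
  choose! p hp hk using hcov
  let f : H → Fin (n + 1) × K := fun h =>
    (⟨p h.1, Nat.lt_succ_of_lt (hp h.1 h.2)⟩, ⟨h.1 * (w (p h.1))⁻¹, hk h.1 h.2⟩)
  have hf : Function.Injective f := by
    intro a b hab
    have h1 : p a.1 = p b.1 := by
      have := congrArg (fun z => (z.1 : ℕ)) hab
      exact this
    have h2 : a.1 * (w (p a.1))⁻¹ = b.1 * (w (p b.1))⁻¹ := by
      have := congrArg (fun z => (z.2 : G)) hab
      exact this
    rw [h1] at h2
    exact Subtype.ext (mul_right_cancel h2)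
  have hfin : Finite H := Finite.of_injective f hf
  refine ⟨hfin, ?_⟩
  let f' : H → Fin n × K := fun h =>
    (⟨p h.1, hp h.1 h.2⟩, ⟨h.1 * (w (p h.1))⁻¹, hk h.1 h.2⟩)
  have hf' : Function.Injective f' := by
    intro a b hab
    have h1 : p a.1 = p b.1 := by
      have := congrArg (fun z => (z.1 : ℕ)) hab
      exact this
    have h2 : a.1 * (w (p a.1))⁻¹ = b.1 * (w (p b.1))⁻¹ := by
      have := congrArg (fun z => (z.2 : G)) hab
      exact this
    rw [h1] at h2
    exact Subtype.ext (mul_right_cancel h2)
  have := Nat.card_le_card_of_injective f' hf'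
  rwa [Nat.card_prod, Nat.card_fin] at this

end sound

end Cfsg.Agent.Helper72.TCC
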