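import Mathlib
import Cfsg.Agent.Lib.Helper72.SuzPresLog0
import Cfsg.Agent.Lib.Helper72.SuzPresLog1
import Cfsg.Agent.Lib.Helper72.SuzPresLog2
import Cfsg.Agent.Lib.Helper72.SuzPresLog3
import Cfsg.Agent.Lib.Helper72.SuzPresLog4

/-!
# The coset enumeration tower of the Suzuki presentation on `a .. f`, for an arbitrary group

(Piece TOW of the lemma server G24 of helper92.)
-/

set_option autoImplicit false

namespace Cfsg.Agent.Helper72.G24

open Cfsg.Agent.Helper72.TCC Cfsg.Agent.Helper72.SuzPres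

set_option maxRecDepth 100000 in
theorem hb0 : ∀ r ∈ base0, r ∈ base4 := by decide

set_option maxRecDepth 100000 in
theorem hb1 : ∀ r ∈ base1, r ∈ base4 := by decide

set_option maxRecDepth 100000 in
theorem hb2 : ∀ r ∈ base2, r ∈ base4 := by decide

set_option maxRecDepth 100000 in
theorem hb3 : ∀ r ∈ base3, r ∈ base4 := by decide

/-- (TOW) -/
theorem tower_bound {G : Type*} [Group G] (x : ℕ → G) (hx : ∀ g, x g * x g = 1)
    (hrel : ∀ r ∈ Cfsg.Agent.Helper72.SuzPres.base4, (r.map x).prod = 1) :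
    Finite ↥(Subgroup.closure (x '' {g | g < 6})) ∧
      Nat.card ↥(Subgroup.closure (x '' {g | g < 6})) ≤ 251596800 := by
  have hsub : ∀ k : ℕ, ∀ g < k, x g ∈ Subgroup.closure (x '' {g | g < k}) :=
    fun k g hg => Subgroup.subset_closure ⟨g, hg, rfl⟩
  have f0 : Finite ↥(Subgroup.closure (x '' {g | g < 0})) ∧
      Nat.card ↥(Subgroup.closure (x '' {g | g < 0})) ≤ 1 := by
    have : {g : ℕ | g < 0} = ∅ := by ext g; simp
    rw [this, Set.image_empty, Subgroup.closure_empty]
    exact ⟨inferInstance, by simp⟩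
  have f1 : Finite ↥(Subgroup.closure (x '' {g | g < 1})) ∧
      Nat.card ↥(Subgroup.closure (x '' {g | g < 1})) ≤ 2 := by
    have := f0.1
    obtain ⟨w, hw⟩ := lv0_cover (Subgroup.closure (x '' {g | g < 0})) x hx
      (fun r hr => hrel r (hb0 r hr)) (hsub 0)
    obtain ⟨h1, h2⟩ := card_le_of_cover (Subgroup.closure (x '' {g | g < 0}))
      (Subgroup.closure (x '' {g | g < 1})) 2 w hw
    exact ⟨h1, h2.trans (by have := f0.2; omega)⟩
  have f2 : Finite ↥(Subgroup.closure (x '' {g | g < 2})) ∧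
      Nat.card ↥(Subgroup.closure (x '' {g | g < 2})) ≤ 10 := by
    have := f1.1
    obtain ⟨w, hw⟩ := lv1_cover (Subgroup.closure (x '' {g | g < 1})) x hx
      (fun r hr => hrel r (hb1 r hr)) (hsub 1)
    obtain ⟨h1, h2⟩ := card_le_of_cover (Subgroup.closure (x '' {g | g < 1}))
      (Subgroup.closure (x '' {g | g < 2})) 5 w hw
    exact ⟨h1, h2.trans (by have := f1.2; omega)⟩
  have f4 : Finite ↥(Subgroup.closure (x '' {g | g < 4})) ∧
      Nat.card ↥(Subgroup.closure (x '' {g | g < 4})) ≤ 2160 := by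
    have := f2.1
    obtain ⟨w, hw⟩ := lv2_cover (Subgroup.closure (x '' {g | g < 2})) x hx
      (fun r hr => hrel r (hb2 r hr)) (hsub 2)
    obtain ⟨h1, h2⟩ := card_le_of_cover (Subgroup.closure (x '' {g | g < 2}))
      (Subgroup.closure (x '' {g | g < 4})) 216 w hw
    exact ⟨h1, h2.trans (by have := f2.2; omega)⟩
  have f5 : Finite ↥(Subgroup.closure (x '' {g | g < 5})) ∧
      Nat.card ↥(Subgroup.closure (x '' {g | g < 5})) ≤ 604800 := by
    have := f4.1
    obtain ⟨w, hw⟩ := lv3_cover (Subgroup.closure (x '' {g | g < 4})) x hx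
      (fun r hr => hrel r (hb3 r hr)) (hsub 4)
    obtain ⟨h1, h2⟩ := card_le_of_cover (Subgroup.closure (x '' {g | g < 4}))
      (Subgroup.closure (x '' {g | g < 5})) 280 w hw
    exact ⟨h1, h2.trans (by have := f4.2; omega)⟩
  have := f5.1
  obtain ⟨w, hw⟩ := lv4_cover (Subgroup.closure (x '' {g | g < 5})) x hx hrel (hsub 5)
  obtain ⟨h1, h2⟩ := card_le_of_cover (Subgroup.closure (x '' {g | g < 5}))
    (Subgroup.closure (x '' {g | g < 6})) 416 w hw
  exact ⟨h1, h2.trans (by have := f5.2; omega)⟩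

end Cfsg.Agent.Helper72.G24
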