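import Cfsg.Agent.Lib.Helper72.PermChainNet

/-!
# Tables of a chain of stabilizers for a permutation group of degree 85 isomorphic to the symplectic group of degree 4 over the field with 4 elements

Generated data; the tables of level `i` are stored in blocks of `64` entries.
-/

set_option autoImplicit false

namespace Cfsg.Agent.Helper72.He85

open Cfsg.Agent.Helper72.PermNet

/-- Entry `k` of a table stored in blocks. -/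
def get2 {α : Type} (t : List (List α)) (d : α) (k : ℕ) : α := (t.getD (k / 64) []).getD (k % 64) d

def gensTab : List (List ℕ) := [[0, 1], [15, 16], [20, 21, 22], [23, 24, 25, 26], [28, 29, 30], [31, 32, 33]]
def nTab : List ℕ := [85, 20, 3, 16, 3, 4]
def baseTab : List ℕ := [0, 1, 2, 5, 6, 21]
def lvlTab : List ℕ := [0, 0, 0, 0, 0, 0, 0, 0, 0, 0, 0, 0, 0, 0, 0, 1, 1, 1, 1, 1, 2, 2, 2, 3, 3, 3, 3, 3, 4, 4, 4, 5, 5, 5]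
def kindTab : List ℕ := [0, 0, 1, 1, 1, 1, 1, 1, 1, 1, 1, 1, 1, 1, 1, 0, 0, 1, 1, 1, 0, 0, 0, 0, 0, 0, 0, 1, 0, 0, 0, 0, 0, 0]
def ordTab : List ℕ := [15, 3, 0, 0, 0, 0, 0, 0, 0, 0, 0, 0, 0, 0, 0, 6, 5, 0, 0, 0, 6, 3, 6, 3, 3, 2, 2, 0, 3, 3, 3, 2, 2, 2]
def certJTab : List ℕ := [0, 0, 0, 0, 0, 0, 0, 0, 0, 0, 0, 0, 0, 0, 0, 81, 20, 0, 0, 0, 19, 19, 19, 2, 0, 2, 2, 0, 5, 2, 10, 2, 2, 2]
def certWTab : List (List ℕ) := [[], [], [0, 1, 1, 0, 1, 0, 1, 1, 0], [0, 1, 1, 1, 1, 1, 0, 1, 0, 0, 0, 1], [1, 1, 1, 1, 0, 0, 0, 0, 1, 0, 0], [1, 0, 1, 0, 1, 0, 0, 1, 1, 1], [0, 0, 1, 0, 1, 0, 0], [1, 1, 0, 1, 1, 1], [1, 0, 1, 0, 1, 0, 0, 0, 1, 1], [0, 1, 1, 0, 1, 1, 1, 0, 1], [0, 1, 0, 0, 0, 0, 0], [1, 0, 1, 1, 0, 1, 1, 0, 1], [1, 1, 0, 0, 1, 1, 1, 1], [1, 0, 0, 0, 0, 1, 0, 1, 0, 0], [0, 0, 0, 1, 0, 0,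 1, 1], [0, 1, 0, 0, 1, 0, 0, 1, 0, 1, 1, 1, 0], [1, 0, 1, 1, 1, 1, 0, 0, 1, 0, 1, 1, 1], [15, 16, 15, 16, 16, 16], [15, 15, 16, 15, 15, 16, 15], [15, 16, 16, 15, 16, 15], [15, 15, 16, 16, 15, 16, 15, 15, 16, 15], [16, 15, 15, 16, 15, 16, 15, 15, 16, 16, 16, 16, 15, 15, 15, 16, 16, 15], [16, 16, 16, 15, 16, 16, 15, 16, 16, 15, 15, 16, 16, 16], [21, 21, 22, 22, 22, 20, 20, 20, 21, 21, 21, 21, 22, 20, 20, 20, 21, 20, 22], [21, 20, 20, 22, 21, 21, 20, 22, 21, 20, 22, 20, 20, 21, 20, 20, 20, 22], [21, 22, 21, 20, 21, 21, 21, 20, 20, 20, 22, 20], [21, 20, 22, 22, 22, 21, 20, 21, 22, 22, 20, 22, 22, 22, 22, 21, 22], [25, 24, 24, 23, 25, 25], [23, 24, 24, 25, 23, 23, 26, 23, 23, 26, 24, 25, 23], [24, 25, 25, 24, 26, 26, 24, 26, 26, 25, 25, 25, 23, 25, 24], [23, 23, 26, 25, 24, 23, 25, 26, 23,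 24, 25, 26, 23, 23, 24, 24], [29, 30, 28, 29, 28, 29, 30, 28, 28, 30, 28, 28, 29, 28, 30, 30], [29, 28, 28, 28, 28, 28, 29, 30, 29, 28, 30, 30, 28, 29, 28, 28, 28, 29, 28], [29, 30, 29, 30, 30, 28, 28, 30, 29, 30, 29, 28, 28]]

set_option maxRecDepth 1000000 in
set_option maxHeartbeats 0 in
/-- The transversals: level, block, entry. -/
def pathTab : List (List (List (List ℕ))) := [
  [
    [[], [8, 0], [8, 5], [11, 0], [1, 4], [7, 3], [8, 2], [1], [0, 1], [14, 4], [1, 0], [6], [4, 3], [12, 0], [14, 3], [3, 1], [6, 3], [4, 5], [7, 9], [2, 12], [7], [11, 4], [2, 9], [7, 7], [11, 6], [2, 11], [7, 0], [11], [4, 0], [6, 0], [13, 6], [9, 2], [9, 7], [8, 7], [0, 3], [1, 3], [2, 2], [9, 6], [2, 6], [8, 10], [3, 2], [2, 4], [4, 1], [5, 2], [3, 3], [6, 2], [9], [7, 4], [12], [0, 2], [5, 4], [6,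 4], [13, 2], [10, 8], [8], [4, 2], [14, 5], [6, 1], [10], [2], [5, 0], [0], [1, 9], [4]],
    [[0, 5], [3], [2, 1], [10, 2], [14], [0, 10], [4, 4], [1, 5], [2, 5], [10, 1], [2, 0], [1, 2], [14, 1], [5], [0, 0], [11, 5], [6, 5], [9, 0], [3, 0], [7, 1], [5, 7]]],
  [
    [[], [16, 18], [18, 18], [16, 17], [15, 15], [16], [17, 18], [17, 17], [18], [15, 17], [15, 18], [17], [16, 15], [19, 15], [17, 19], [17, 15], [16, 16], [18, 15], [19], [15]]],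
  [
    [[], [21], [20]]],
  [
    [[], [23], [26, 23], [26], [24, 27], [27, 24], [24, 24], [23, 24], [24, 25], [26, 25], [25], [25, 23], [27, 26], [24], [27], [24, 26]]],
  [
    [[], [28, 28], [28]]],
  [
    [[], [31], [32], [32, 31]]]]

set_option maxRecDepth 1000000 in
set_option maxHeartbeats 0 in
/-- The orbits: level, block, entry. -/
def ptsTab : List (List (List ℕ)) := [
  [[0, 1, 2, 3, 4, 5, 6, 7, 8, 9, 10, 11, 12, 13, 14, 15, 16, 17, 18, 19, 20, 21, 22, 23, 24, 25, 26, 27, 28, 29, 30, 31, 32, 33, 34, 35, 36, 37, 38, 39, 40, 41, 42, 43, 44, 45, 46, 47, 48, 49, 50, 51, 52, 53, 54, 55, 56, 57, 58, 59, 60, 61, 62, 63], [64, 65, 66, 67, 68, 69, 70, 71, 72, 73, 74, 75, 76, 77, 78, 79, 80, 81, 82, 83, 84]],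
  [[1, 2, 3, 4, 21, 22, 23, 24, 25, 26, 27, 28, 29, 30, 31, 32, 33, 34, 35, 36]],
  [[2, 3, 4]],
  [[5, 6, 7, 8, 9, 10, 11, 12, 13, 14, 15, 16, 17, 18, 19, 20]],
  [[6, 7, 8]],
  [[21, 25, 29, 33]]]

set_option maxRecDepth 1000000 in
set_option maxHeartbeats 0 in
/-- The factorizations: level, block, entry. -/
def covTab : List (List (List (List ℕ))) := [
  [
    [[61, 0, 0, 0, 0, 0], [7, 0, 0, 0, 0, 0], [54, 5, 2, 3, 1, 3], [70, 13, 2, 1, 0, 3], [68, 8, 2, 2, 0, 0], [39, 9, 2, 14, 1, 1], [4, 6, 2, 14, 0, 2], [21, 1, 1, 14, 0, 3], [59, 2, 1, 4, 0, 0], [56, 19, 0, 2, 0, 0], [47, 8, 2, 10, 2, 1], [34, 0, 0, 0, 0, 0], [30, 15, 0, 11, 2, 3], [67, 10, 1, 2, 1, 2], [8, 0, 0, 0, 0, 0], [81, 17, 1, 5, 0, 0], [80, 2, 2, 10, 0, 2], [52, 2, 0, 8, 0, 0], [18, 18, 0, 1, 1, 3], [9, 14, 2, 13, 2, 2],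 [74, 15, 1, 7, 1, 1], [20, 0, 0, 0, 0, 0], [40, 5, 1, 2, 2, 0], [3, 8, 1, 1, 1, 2], [35, 17, 2, 4, 2, 2], [14, 8, 0, 2, 1, 1], [81, 0, 0, 0, 0, 0], [58, 2, 0, 12, 1, 1], [9, 4, 2, 8, 1, 3], [41, 9, 1, 6, 2, 0], [21, 1, 2, 3, 1, 3], [76, 15, 2, 7, 1, 2], [41, 2, 1, 3, 2, 1], [27, 12, 1, 11, 0, 0], [28, 14, 2, 4, 0, 1], [46, 0, 1, 7, 2, 3], [50, 14, 0, 0, 2, 0], [32, 2, 1, 2, 2, 0], [71, 10, 0, 7, 2, 3], [79, 17, 0, 10, 0, 1], [15, 16, 2, 5, 1, 2], [61, 0, 0, 0, 0, 0], [52, 18, 1, 4, 2, 1], [11, 19, 0, 3, 2, 3], [14, 19, 1, 4, 2, 1], [1, 12, 1, 9, 1, 3], [70, 2, 1, 12, 0, 1], [15, 16, 2, 5, 1, 2], [27, 19, 0, 10, 0, 0], [19, 1, 2, 15, 0, 1], [75, 3, 1, 0, 0, 2], [47, 7, 0, 3, 2, 0], [36, 18, 2, 3, 1, 1], [78, 0, 0, 0, 0, 0], [38, 3, 0, 13, 0, 1], [64, 16, 0, 14, 1, 3], [19, 18, 1, 10, 0,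 2], [29, 3, 2, 13, 1, 3], [29, 19, 1, 7, 2, 2], [60, 19, 1, 7, 2, 2], [77, 2, 0, 5, 1, 2], [74, 1, 1, 8, 0, 3], [5, 4, 1, 9, 2, 1], [25, 14, 2, 13, 0, 3]],
    [[45, 2, 0, 8, 0, 0], [43, 2, 0, 8, 0, 0], [12, 13, 2, 6, 2, 3], [33, 3, 0, 13, 0, 0], [43, 12, 1, 9, 1, 2], [82, 16, 1, 5, 0, 3], [22, 14, 1, 7, 0, 1], [51, 3, 0, 14, 1, 2], [84, 9, 0, 5, 1, 2], [68, 1, 2, 11, 0, 2], [37, 16, 0, 1, 0, 0], [59, 6, 0, 5, 2, 3], [73, 7, 1, 2, 0, 2], [26, 8, 2, 4, 1, 0], [33, 9, 2, 2, 2, 0], [44, 3, 1, 14, 1, 2], [17, 19, 1, 11, 1, 0], [73, 6, 1, 1, 1, 2], [23, 15, 1, 13, 1, 1], [12, 3, 1, 3, 0, 2], [10, 13, 2, 4, 0, 1], [13, 18, 2, 3, 0, 1], [44, 18, 1, 3, 1, 3], [18, 1, 1, 14, 1, 3], [82, 11, 0, 3, 1, 2], [2, 11, 1, 6, 0, 3], [7, 1, 0, 9, 1, 2], [45, 0, 2, 1, 1, 2], [32, 2, 1, 2, 2, 0], [62, 0, 0,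 0, 0, 0], [79, 7, 2, 7, 1, 2], [31, 6, 2, 5, 0, 3], [46, 0, 0, 0, 0, 0], [80, 2, 2, 10, 0, 2], [72, 16, 2, 13, 2, 3], [36, 11, 1, 5, 2, 2], [51, 2, 1, 12, 2, 1], [50, 2, 1, 12, 2, 1], [16, 19, 2, 10, 1, 3], [65, 1, 2, 15, 1, 1], [26, 18, 1, 7, 0, 2], [83, 1, 0, 9, 1, 2], [42, 6, 1, 5, 2, 0], [48, 13, 0, 12, 2, 0], [24, 1, 1, 8, 1, 2], [30, 5, 1, 9, 0, 1], [11, 13, 1, 9, 2, 0], [77, 13, 1, 9, 2, 0], [83, 2, 1, 15, 0, 2], [63, 19, 0, 2, 0, 0], [13, 3, 1, 14, 0, 1], [57, 3, 2, 14, 2, 2], [69, 0, 0, 0, 0, 0], [42, 8, 0, 13, 0, 1], [49, 0, 0, 0, 0, 0], [75, 0, 0, 0, 0, 0], [25, 11, 0, 4, 2, 3], [28, 9, 1, 4, 0, 2], [78, 0, 0, 0, 0, 0], [10, 0, 0, 0, 0, 0], [6, 4, 1, 9, 0, 2], [17, 0, 2, 7, 2, 2], [31, 6, 2, 5, 0, 3], [4, 0, 0, 0, 0, 0]],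
    [[48, 12, 1, 15, 1, 1], [16, 17, 0, 12, 0, 2], [34, 0, 0, 0, 0, 0], [35, 0, 0, 0, 0, 0], [39, 16, 0, 1, 0, 1], [66, 1, 2, 9, 0, 3], [76, 16, 2, 5, 0, 0], [84, 9, 2, 11, 2, 0], [20, 7, 0, 11, 2, 1], [49, 12, 1, 4, 0, 2], [2, 8, 2, 8, 1, 1], [69, 14, 2, 8, 2, 2], [66, 16, 1, 12, 2, 3], [22, 14, 0, 8, 1, 0], [60, 13, 1, 11, 0, 2], [55, 7, 1, 4, 0, 1], [55, 11, 2, 4, 1, 2], [40, 4, 1, 9, 2, 3], [67, 0, 0, 0, 1, 2], [72, 1, 2, 8, 2, 2], [58, 11, 0, 1, 1, 3], [54, 14, 1, 10, 2, 1], [3, 8, 0, 5, 1, 3], [37, 7, 1, 2, 0, 0], [56, 19, 0, 2, 0, 0], [23, 2, 1, 4, 0, 0], [64, 0, 0, 0, 0, 0], [71, 0, 0, 0, 0, 0], [62, 3, 2, 15, 2, 3], [38, 10, 1, 11, 0, 3], [63, 8, 1, 0, 0, 0], [24, 17, 0, 8, 0, 1], [0, 19, 1, 13, 1, 1], [53, 4, 2, 9, 1, 2], [57, 16, 1, 15, 2, 3], [0, 9, 1, 13, 1, 3], [1, 19, 2,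 1, 0, 1], [5, 9, 1, 8, 1, 3], [65, 15, 1, 7, 2, 1], [8, 0, 0, 0, 0, 0], [53, 9, 0, 6, 1, 3], [6, 3, 1, 10, 0, 3]]],
  [
    [[19, 0, 0, 0, 0], [5, 0, 0, 0, 0], [18, 2, 6, 1, 1], [7, 2, 2, 0, 3], [17, 2, 0, 0, 2], [6, 1, 11, 1, 3], [16, 0, 0, 0, 0], [4, 2, 1, 1, 1], [3, 1, 12, 2, 3], [18, 2, 2, 2, 2], [0, 0, 11, 1, 2], [16, 0, 0, 0, 0], [2, 2, 13, 2, 3], [17, 0, 11, 1, 1], [1, 1, 4, 1, 0], [19, 2, 1, 1, 1], [10, 0, 0, 0, 0], [1, 0, 0, 0, 0], [11, 0, 2, 0, 2], [2, 1, 7, 0, 1], [8, 0, 13, 2, 3], [0, 2, 6, 1, 1], [9, 0, 0, 0, 0], [3, 0, 0, 0, 0], [12, 2, 0, 1, 3], [8, 2, 4, 2, 3], [15, 2, 3, 0, 3], [11, 2, 4, 2, 3], [13, 2, 8, 1, 2], [9, 2, 3, 0, 1], [14, 2, 1, 2, 2], [10, 2, 12, 0, 3], [5, 2, 9, 1, 1], [15, 2, 3, 2, 0], [7, 2, 4, 1, 0], [14, 2, 13, 2, 3], [6, 0, 15, 1, 1], [13, 0, 3, 1, 1],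 [4, 0, 0, 0, 0], [12, 0, 0, 0, 0]]],
  [
    [[2, 0, 0, 0], [1, 0, 0, 0], [1, 14, 0, 3], [0, 5, 1, 3], [2, 10, 1, 0], [2, 15, 1, 3], [1, 10, 1, 2], [0, 5, 1, 1], [0, 3, 1, 1]]],
  [
    [[1, 0, 0], [13, 0, 0], [10, 0, 0], [3, 0, 0], [3, 2, 1], [14, 1, 2], [11, 0, 0], [2, 0, 0], [2, 1, 3], [12, 1, 2], [8, 2, 0], [1, 0, 0], [0, 1, 3], [15, 0, 0], [9, 0, 0], [0, 0, 0], [9, 2, 1], [1, 2, 3], [14, 2, 3], [7, 1, 1], [11, 1, 2], [2, 2, 2], [15, 2, 1], [6, 0, 3], [10, 2, 3], [0, 0, 0], [12, 2, 1], [5, 0, 3], [8, 2, 3], [3, 2, 1], [13, 1, 2], [4, 2, 2], [13, 1, 2], [9, 1, 1], [2, 1, 0], [11, 1, 0], [15, 2, 0], [10, 2, 2], [3, 0, 0], [10, 0, 0], [14, 2, 3], [8, 0, 0], [0, 0, 0], [9, 0, 0], [12, 0, 1], [11, 2, 3], [1, 0, 0], [8, 2, 0], [5, 2, 2], [5, 0, 1], [6, 1, 3], [15, 0, 2], [7, 0, 0], [6, 0,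 0], [7, 2, 3], [14, 0, 2], [6, 2, 3], [4, 0, 0], [4, 1, 2], [13, 0, 2], [4, 2, 2], [7, 1, 3], [5, 1, 3], [12, 0, 2]]],
  [
    [[2, 0], [2, 2], [2, 2], [0, 0], [0, 1], [0, 1], [1, 0], [1, 3], [1, 3]]],
  [
    [[1], [2], [2], [0], [3], [3], [3], [0], [0], [2], [1], [1]]]]


/-- The tables. -/
def T : Tables where
  K := 6
  nLet := 34
  gens := fun i => gensTab.getD i []
  n := fun i => nTab.getD i 0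
  base := fun i => baseTab.getD i 0
  path := fun i k => get2 (pathTab.getD i []) [] k
  pts := fun i k => get2 (ptsTab.getD i []) 0 k
  cov := fun i q => get2 (covTab.getD i []) [] q
  ord := fun a => ordTab.getD a 0
  lvl := fun a => lvlTab.getD a 0
  kind := fun a => kindTab.getD a 0
  certW := fun a => certWTab.getD a []
  certJ := fun a => certJTab.getD a 0

end Cfsg.Agent.Helper72.He85
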