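import Cfsg.Agent.Lib.Helper72.He85NW
import Cfsg.Agent.Lib.Helper72.He85Tab

/-!
# Checks of the chain for a permutation group of degree 85 isomorphic to the symplectic group of degree 4 over the field with 4 elements: products of generators and transversal elements, part 0
-/

set_option autoImplicit false

namespace Cfsg.Agent.Helper72.He85

open Cfsg.Agent.Helper72.PermNet

set_option maxRecDepth 1000000 in
set_option maxHeartbeats 0 in
theorem cov_0_0 : (List.range' 0 100).all (fun q => chkCov R X0 NW T 0 q) = true := by
  decide +kernel

set_option maxRecDepth 1000000 in
set_option maxHeartbeats 0 in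
theorem cov_0_1 : (List.range' 100 70).all (fun q => chkCov R X0 NW T 0 q) = true := by
  decide +kernel

set_option maxRecDepth 1000000 in
set_option maxHeartbeats 0 in
theorem cov_1_0 : (List.range' 0 40).all (fun q => chkCov R X0 NW T 1 q) = true := by
  decide +kernel

set_option maxRecDepth 1000000 in
set_option maxHeartbeats 0 in
theorem cov_2_0 : (List.range' 0 9).all (fun q => chkCov R X0 NW T 2 q) = true := by
  decide +kernel

set_option maxRecDepth 1000000 in
set_option maxHeartbeats 0 in
theorem cov_3_0 : (List.range' 0 64).all (fun q => chkCov R X0 NW T 3 q) = true := by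
  decide +kernel

set_option maxRecDepth 1000000 in
set_option maxHeartbeats 0 in
theorem cov_4_0 : (List.range' 0 9).all (fun q => chkCov R X0 NW T 4 q) = true := by
  decide +kernel

end Cfsg.Agent.Helper72.He85
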