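import Cfsg.Agent.Lib.Helper72.He85NW
import Cfsg.Agent.Lib.Helper72.He85Tab

/-!
# Checks of the chain for a permutation group of degree 85 isomorphic to the symplectic group of degree 4 over the field with 4 elements: paths, orbits, letters
-/

set_option autoImplicit false

namespace Cfsg.Agent.Helper72.He85

open Cfsg.Agent.Helper72.PermNet

set_option maxRecDepth 1000000 in
set_option maxHeartbeats 0 in
theorem hpath_all : (List.range 6).all (fun i => (List.range (T.n i)).all (fun k =>
    chkPath T i k)) = true := by decide +kernel

set_option maxRecDepth 1000000 in
set_option maxHeartbeats 0 in
theorem hpts_all : (List.range 6).all (fun i => (List.range (T.n i)).all (fun k =>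
    chkPts NW T i k)) = true := by decide +kernel

set_option maxRecDepth 1000000 in
set_option maxHeartbeats 0 in
theorem hlet_0 : (List.range' 0 34).all (fun a => chkLetter R X0 NW T a) = true := by
  decide +kernel

theorem hgens_all : (List.range 6).all (fun i => (T.gens i).all (fun a =>
    decide (a < T.nLet) && T.lvl a == i && T.kind a == 0)) = true := by decide +kernel

theorem hn_all : (List.range 6).all (fun i => decide (0 < T.n i)) = true := by decide +kernel

end Cfsg.Agent.Helper72.He85
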