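import Cfsg.Agent.Lib.Helper72.PermChainNet

/-!
# Tables of a chain of stabilizers for the subgroup of index 2 of a point stabilizer of the Held group of degree 2058

Generated data; the tables of level `i` are stored in blocks of `64` entries.
-/

set_option autoImplicit false

namespace Cfsg.Agent.Helper72.HeN

open Cfsg.Agent.Helper72.PermNet

/-- Entry `k` of a table stored in blocks. -/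
def get2 {α : Type} (t : List (List α)) (d : α) (k : ℕ) : α := (t.getD (k / 64) []).getD (k % 64) d

def gensTab : List (List ℕ) := [[0, 1], [37, 38, 39], [40, 41, 42], [43, 44, 45, 46], [47, 48, 49], [50, 51, 52, 53], [54, 55, 56], [57, 58, 59]]
def nTab : List ℕ := [425, 4, 3, 4, 3, 4, 2, 2]
def baseTab : List ℕ := [273, 274, 275, 13, 33, 14, 150, 1]
def lvlTab : List ℕ := [0, 0, 0, 0, 0, 0, 0, 0, 0, 0, 0, 0, 0, 0, 0, 0, 0, 0, 0, 0, 0, 0, 0, 0, 0, 0, 0, 0, 0, 0, 0, 0, 0, 0, 0, 0, 0, 1, 1, 1, 2, 2, 2, 3, 3, 3, 3, 4, 4, 4, 5, 5, 5, 5, 6, 6, 6, 7, 7, 7]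
def kindTab : List ℕ := [0, 0, 1, 1, 1, 1, 1, 1, 1, 1, 1, 1, 1, 1, 1, 1, 1, 1, 1, 1, 1, 1, 1, 1, 1, 1, 1, 1, 1, 1, 1, 1, 1, 1, 1, 1, 1, 0, 0, 0, 0, 0, 0, 0, 0, 0, 0, 0, 0, 0, 0, 0, 0, 0, 0, 0, 0, 0, 0, 0]
def ordTab : List ℕ := [15, 3, 0, 0, 0, 0, 0, 0, 0, 0, 0, 0, 0, 0, 0, 0, 0, 0, 0, 0, 0, 0, 0, 0, 0, 0, 0, 0, 0, 0, 0, 0, 0, 0, 0, 0, 0, 4, 3, 3, 3, 6, 3, 2, 3, 3, 2, 3, 2, 3, 2, 2, 2, 2, 2, 2, 2, 2, 2, 2]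
def certJTab : List ℕ := [0, 0, 0, 0, 0, 0, 0, 0, 0, 0, 0, 0, 0, 0, 0, 0, 0, 0, 0, 0, 0, 0, 0, 0, 0, 0, 0, 0, 0, 0, 0, 0, 0, 0, 0, 0, 0, 176, 225, 36, 3, 0, 3, 0, 2, 2, 0, 0, 0, 3, 2, 1, 2, 2, 2, 0, 2, 0, 1, 1]
def certWTab : List (List ℕ) := [[], [], [1, 0, 0, 0, 0, 0, 0, 1, 1, 1, 0], [0, 0, 1, 1, 1, 0, 1], [0, 1, 1, 0, 0, 0, 1, 1, 1], [0, 0, 1, 0, 0, 1, 1, 0], [0, 1, 0, 0, 1, 0, 0, 1, 0, 1], [1, 1, 0, 1, 0, 1, 0, 0, 1, 0, 1, 1], [1, 0, 0, 0, 1, 0, 0], [0, 1, 0, 0, 0, 0], [0, 0, 0, 0, 0, 1, 0, 0, 1, 1, 1], [1, 1, 1, 1, 0, 1, 1, 0, 1, 1, 0], [0, 0, 0, 0, 1, 0, 0, 1, 1, 0], [1, 0, 0, 0, 0, 1], [1, 0, 0, 0, 1, 1, 1, 0, 1, 0, 1, 0], [0, 1, 1, 0, 1, 0, 0, 1, 0, 0, 1, 0], [1, 0, 1, 0, 0, 1, 1, 1, 1, 0], [0, 1, 0, 1, 0, 0, 1, 1, 1, 0, 1, 1],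 [1, 1, 0, 0, 0, 1, 0, 1, 1], [1, 0, 1, 0, 1, 1, 1, 0, 1, 0, 0, 1, 1], [1, 1, 1, 1, 1, 0, 0, 1, 0, 1, 1, 1], [1, 1, 0, 1, 1, 0, 1, 0, 0, 1, 1, 0], [0, 1, 0, 0, 1, 1, 0], [1, 1, 0, 1, 0, 1, 1, 0, 0, 1, 1, 1], [1, 0, 0, 0, 1, 0, 1, 0, 0], [0, 1, 0, 0, 1, 0, 1, 0], [1, 0, 0, 0, 1, 1, 0, 1, 1, 0], [1, 1, 0, 1, 1, 0, 0, 1, 1, 1, 1], [0, 1, 1, 0, 1, 1, 0, 1, 1, 1], [1, 1, 0, 0, 0, 1, 1], [1, 0, 0, 0, 1, 0, 1, 1, 0, 1, 0, 1, 1], [1, 1, 0, 1, 0, 0, 0, 1, 1, 0], [1, 0, 1, 1, 0, 1, 1, 1], [1, 0, 1, 0, 1, 0, 0, 0, 1, 1, 1, 0], [0, 1, 1, 0, 0, 1, 1, 1, 1, 1, 1], [0, 0, 0, 1, 0, 1, 0, 1], [1, 0, 0, 0, 1, 1, 0, 0, 1], [0, 1, 0, 1, 0, 0, 0, 1, 0, 0, 0, 1, 0, 1], [1, 1, 0, 1, 1, 1, 0, 1, 1, 0, 1, 0, 1, 0, 1], [1, 1, 0, 1, 1, 0, 1, 0, 1, 0, 0, 1, 1, 0,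 0], [38, 39, 38, 37, 37, 38, 39, 37, 38, 37, 39, 37, 37, 39, 38], [39, 38, 38, 37, 39, 39, 38, 39, 38, 38, 39, 39, 39, 37, 37], [38, 38, 38, 37, 39, 38, 38, 37, 38, 37, 39, 37, 39, 38], [42, 42, 42, 41, 40, 41, 41, 40, 40, 40, 41, 40, 42, 42, 41, 42, 40, 41], [41, 42, 42, 41, 41, 41, 42, 40, 42, 40, 42, 42, 42, 41, 42, 40, 42, 40, 42], [42, 41, 42, 41, 41, 40, 42, 41, 41, 40, 42], [41, 42, 41, 42, 41, 42, 40, 40, 42, 41, 41, 40, 42, 42, 41], [46, 45, 45, 46, 46, 46, 44, 43, 45, 43, 45, 45, 46, 46, 44, 45, 43], [43, 43, 45, 44, 45, 46, 43, 44, 46, 46], [46, 44, 44, 43, 43, 43, 45, 43, 43, 46], [49, 48, 49, 49, 47, 47, 47, 48, 49, 48, 47, 48, 49], [49, 48, 48, 47, 49, 49, 49, 47, 47, 48, 47, 49, 48, 47, 49, 49], [48, 48, 47, 47, 49, 47,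 47, 47, 49, 49, 49, 48, 47, 48, 48], [47, 47, 47, 49, 47, 48, 47, 47, 48, 47, 47, 48, 47, 48, 47, 49, 47, 49], [51, 53, 53, 50, 51, 51, 50, 53, 53, 50], [52, 50, 50, 50, 50, 52, 52, 52, 52, 50, 50, 50, 51], [52, 52, 53, 51, 50, 50, 51, 51, 52, 51], [54, 56, 55, 55, 54, 55, 56, 56, 54, 56, 56, 56, 54], [56, 56, 54, 55, 54, 55, 54, 54, 55, 56, 56, 54, 56, 55], [56, 55, 54, 54, 56, 54, 56, 55, 54, 54, 54, 55, 55, 55, 54, 54]]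

set_option maxRecDepth 1000000 in
set_option maxHeartbeats 0 in
/-- The transversals: level, block, entry. -/
def pathTab : List (List (List (List ℕ))) := [
  [
    [[], [3], [21, 2], [3, 3], [8, 4], [3, 4], [2, 8], [20, 11], [22, 1], [9, 9], [27, 9], [4, 13], [33, 14], [34, 17], [3, 7], [11, 13], [15, 5], [25, 12], [11, 23], [26, 0], [19, 13], [29, 14], [33, 5], [1, 15], [25, 0], [28, 5], [2, 9], [4, 12], [33, 2], [36, 4], [6, 0], [20, 0], [7, 20], [9, 7], [3, 16], [1, 3], [3, 5], [27, 0], [1], [29], [15, 0], [17, 17], [6, 13], [29, 0], [1, 10], [12, 10], [8, 6], [6, 18], [32, 2], [21, 13], [13], [13, 3], [23], [8, 9], [1, 0], [35, 4], [25, 7], [28, 13], [19, 17], [36, 15], [9, 8], [2, 11], [21, 1], [0, 19]],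
    [[20, 30], [20], [0, 18], [20, 3], [35, 10], [4, 18], [2, 2], [9, 31], [0, 11], [18, 4], [8, 8], [1, 8], [35, 5], [26, 1], [19, 15], [25, 6], [2, 3], [2], [28, 29], [34, 6], [29, 28], [5, 3], [27], [5], [3, 21], [29, 21], [2, 24], [28, 2], [18, 12], [16, 9], [31, 7], [3, 14], [12, 3], [12], [17, 5], [33, 1], [1, 13], [23, 13], [32, 18], [16, 3], [16], [2, 5], [10, 17], [25, 14], [35, 2], [36, 14], [27, 6], [14, 2], [11], [8, 7], [33], [7, 1], [13, 2], [8, 3], [32, 34], [8], [16, 7], [26, 5], [32, 15], [13, 6], [16, 35], [36, 12], [28, 25], [22, 21]],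
    [[18, 8], [10, 0], [18, 2], [14, 10], [22, 4], [20, 20], [3, 8], [12, 1], [21, 8], [11, 1], [6, 5], [6, 27], [0, 5], [6, 4], [0, 27], [21, 24], [20, 5], [34, 12], [33, 16], [17, 1], [30, 5], [32, 25], [35], [23, 4], [7], [16, 2], [22, 0], [23, 12], [18, 7], [20, 35], [20, 7], [0, 15], [4], [9, 14], [17, 6], [11, 2], [4, 3], [23, 17], [9, 13], [19], [13, 9], [19, 3], [28, 11], [23, 8], [8, 5], [35, 21], [11, 5], [12, 16], [35, 20], [15, 10], [22, 10], [32, 1], [34, 3], [34], [36, 13], [30, 28], [33, 12], [25, 27], [15, 7], [22, 5], [12, 5], [30, 1], [29, 9], [34, 7]],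
    [[2, 4], [12, 11], [28, 12], [19, 5], [34, 8], [23, 0], [13, 0], [3, 9], [22], [21, 4], [6, 10], [22, 3], [11, 0], [10, 11], [22, 13], [0, 2], [24, 7], [18, 11], [15, 17], [36, 1], [9, 4], [19, 2], [4, 7], [19, 0], [25, 16], [1, 4], [26, 10], [26, 30], [27, 7], [15, 11], [4, 11], [26, 3], [26], [36, 3], [4, 10], [36], [11, 26], [22, 2], [14, 0], [23, 9], [26, 13], [1, 5], [29, 1], [32, 5], [23, 2], [34, 10], [3, 6], [16, 5], [2, 16], [12, 0], [25], [15, 28], [25, 3], [23, 7], [11, 28], [5, 15], [20, 1], [20, 29], [10, 6], [31, 29], [9, 6], [31, 1], [19, 4], [24, 17]],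
    [[31, 3], [9, 11], [31], [18, 0], [18, 5], [13, 5], [28, 7], [35, 7], [12, 6], [12, 4], [31, 8], [23, 5], [36, 5], [4, 0], [8, 1], [4, 2], [5, 1], [24, 9], [28, 16], [4, 14], [2, 14], [0, 14], [8, 0], [29, 5], [6, 3], [0, 9], [6], [34, 2], [21, 18], [27, 10], [13, 1], [4, 1], [29, 18], [18], [31, 4], [9, 0], [36, 0], [17, 10], [7, 0], [14, 15], [7, 27], [7, 5], [15, 1], [35, 12], [18, 9], [5, 8], [11, 14], [24, 0], [6, 2], [27, 1], [3, 10], [18, 14], [0], [16, 1], [9, 16], [19, 6], [12, 12], [27, 2], [6, 6], [5, 14], [19, 10], [27, 13], [15, 3], [15]],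
    [[4, 5], [30, 4], [15, 2], [29, 4], [24, 6], [33, 6], [26, 2], [28, 20], [8, 11], [0, 10], [14, 14], [35, 9], [23, 15], [33, 9], [19, 11], [22, 7], [2, 1], [3, 2], [26, 18], [29, 10], [35, 1], [14, 33], [9, 10], [32, 0], [12, 22], [25, 4], [21, 20], [3, 0], [18, 1], [10, 1], [20, 2], [28], [30, 30], [2, 6], [28, 3], [28, 15], [30, 15], [14, 1], [21], [25, 10], [14], [28, 0], [11, 6], [3, 15], [14, 3], [6, 1], [24, 3], [12, 18], [15, 22], [24], [15, 4], [9, 1], [0, 23], [17, 3], [17], [14, 9], [30, 0], [10, 12], [25, 21], [12, 8], [32], [25, 1], [17, 21], [9]],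
    [[5, 7], [16, 31], [15, 14], [5, 0], [21, 14], [0, 7], [8, 2], [0, 0], [32, 6], [23, 6], [14, 17], [10, 5], [1, 12], [21, 0], [7, 2], [22, 14], [2, 0], [4, 16], [16, 13], [12, 2], [11, 10], [1, 1], [2, 7], [20, 6], [30, 13], [3, 1], [4, 17], [20, 9], [11, 11], [23, 10], [0, 26], [30], [10], [24, 13], [10, 3], [0, 6], [31, 12], [22, 9], [10, 2], [22, 32], [23, 1]]],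
  [
    [[], [37], [37, 39], [39]]],
  [
    [[], [42], [41]]],
  [
    [[], [43, 45], [45], [43]]],
  [
    [[], [47], [49]]],
  [
    [[], [50], [52], [51]]],
  [
    [[], [56]]],
  [
    [[], [57]]]]

set_option maxRecDepth 1000000 in
set_option maxHeartbeats 0 in
/-- The orbits: level, block, entry. -/
def ptsTab : List (List (List ℕ)) := [
  [[273, 274, 275, 276, 277, 278, 279, 280, 281, 282, 283, 284, 285, 286, 287, 288, 289, 290, 291, 292, 293, 294, 295, 296, 297, 298, 299, 300, 301, 302, 303, 304, 305, 306, 307, 308, 309, 310, 311, 312, 313, 314, 315, 316, 317, 318, 319, 320, 321, 322, 323, 324, 325, 326, 327, 328, 329, 330, 331, 332, 333, 334, 335, 336], [337, 338, 339, 340, 341, 342, 343, 344, 345, 346, 347, 348, 349, 350, 351,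 352, 353, 354, 355, 356, 357, 358, 359, 360, 361, 362, 363, 364, 365, 366, 367, 368, 369, 370, 371, 372, 373, 374, 375, 376, 377, 378, 379, 380, 381, 382, 383, 384, 385, 386, 387, 388, 389, 390, 391, 392, 393, 394, 395, 396, 397, 398, 399, 400], [401, 402, 403, 404, 405, 406, 407, 408, 409, 410, 411, 412, 413, 414, 415, 416, 417, 418, 419, 420, 421, 422, 423, 424, 425, 426, 427, 428, 429, 430, 431, 432, 433, 434, 435, 436, 437, 438, 439, 440, 441, 442, 443, 444, 445, 446, 447, 448, 449, 450, 451, 452, 453, 454, 455, 456, 457, 458, 459, 460, 461, 462, 463, 464], [465, 466, 467, 468, 469, 470, 471, 472, 473, 474, 475, 476, 477, 478, 479, 480, 481, 482, 483, 484, 485, 486, 487, 488, 489, 490, 491, 492, 493, 494, 495, 496, 497, 498, 499,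 500, 501, 502, 503, 504, 505, 506, 507, 508, 509, 510, 511, 512, 513, 514, 515, 516, 517, 518, 519, 520, 521, 522, 523, 524, 525, 526, 527, 528], [529, 530, 531, 532, 533, 534, 535, 536, 537, 538, 539, 540, 541, 542, 543, 544, 545, 546, 547, 548, 549, 550, 551, 552, 553, 554, 555, 556, 557, 558, 559, 560, 561, 562, 563, 564, 565, 566, 567, 568, 569, 570, 571, 572, 573, 574, 575, 576, 577, 578, 579, 580, 581, 582, 583, 584, 585, 586, 587, 588, 589, 590, 591, 592], [593, 594, 595, 596, 597, 598, 599, 600, 601, 602, 603, 604, 605, 606, 607, 608, 609, 610, 611, 612, 613, 614, 615, 616, 617, 618, 619, 620, 621, 622, 623, 624, 625, 626, 627, 628, 629, 630, 631, 632, 633, 634, 635, 636, 637, 638, 639, 640, 641, 642, 643, 644, 645, 646, 647,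 648, 649, 650, 651, 652, 653, 654, 655, 656], [657, 658, 659, 660, 661, 662, 663, 664, 665, 666, 667, 668, 669, 670, 671, 672, 673, 674, 675, 676, 677, 678, 679, 680, 681, 682, 683, 684, 685, 686, 687, 688, 689, 690, 691, 692, 693, 694, 695, 696, 697]],
  [[274, 275, 276, 277]],
  [[275, 276, 277]],
  [[13, 33, 78, 95]],
  [[33, 78, 95]],
  [[14, 32, 75, 76]],
  [[150, 154]],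
  [[1, 56]]]

set_option maxRecDepth 1000000 in
set_option maxHeartbeats 0 in
/-- The factorizations: level, block, entry. -/
def covTab : List (List (List (List ℕ))) := [
  [
    [[308, 0, 0, 0, 0, 0, 0, 0], [38, 0, 0, 0, 0, 0, 0, 0], [305, 3, 0, 2, 0, 3, 1, 1], [35, 0, 0, 0, 0, 0, 0, 0], [306, 3, 2, 3, 0, 0, 0, 0], [37, 0, 1, 1, 2, 0, 1, 1], [309, 3, 2, 3, 2, 1, 0, 0], [36, 1, 1, 3, 1, 1, 1, 0], [307, 1, 2, 2, 0, 3, 1, 1], [39, 0, 0, 0, 0, 0, 0, 0], [270, 0, 2, 1, 1, 2, 0, 0], [352, 0, 1, 2, 0, 1, 1, 1], [271, 1, 0, 3, 1, 0, 0, 1], [354, 0, 1, 3, 2, 2, 0, 1], [274, 1, 1, 1, 0, 3, 0, 1], [350, 1, 0, 1, 0, 0, 1, 0], [272, 0, 0, 0, 0, 0, 0, 0], [353, 2, 0, 3, 0, 2, 1, 0], [273, 2, 1, 1, 0, 0, 1, 0], [351, 3, 1, 1, 2, 0, 0, 1], [343, 1,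 2, 2, 0, 0, 1, 1], [199, 0, 0, 3, 2, 0, 0, 1], [341, 2, 1, 0, 0, 3, 0, 1], [197, 0, 1, 3, 2, 1, 1, 0], [340, 1, 1, 3, 1, 2, 0, 0], [196, 0, 2, 3, 1, 3, 1, 1], [342, 1, 2, 2, 0, 2, 0, 0], [198, 1, 2, 3, 0, 0, 1, 1], [344, 2, 1, 3, 1, 1, 0, 1], [195, 3, 2, 2, 0, 0, 0, 0], [21, 0, 2, 2, 2, 2, 0, 0], [108, 1, 0, 0, 1, 3, 1, 0], [20, 1, 2, 3, 0, 2, 0, 1], [109, 3, 1, 2, 0, 0, 1, 1], [23, 0, 1, 3, 1, 1, 1, 1], [107, 1, 2, 1, 0, 3, 1, 1], [24, 1, 1, 1, 2, 1, 1, 0], [105, 3, 2, 3, 0, 2, 1, 0], [22, 0, 1, 3, 2, 1, 1, 0], [106, 2, 2, 1, 0, 0, 1, 1], [298, 0, 0, 1, 1, 1, 0, 1], [282, 0, 0, 1, 1, 1, 0, 1], [297, 2, 2, 2, 1, 0, 1, 0], [284, 3, 1, 1, 0, 3, 0, 0], [299, 0, 0, 2, 2, 3, 1, 0], [283, 3, 2, 2, 1, 2, 0, 0], [296, 2, 2, 0, 1, 2, 1, 1], [280,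 3, 2, 1, 1, 0, 1, 1], [295, 1, 2, 0, 0, 0, 1, 0], [281, 2, 2, 3, 0, 3, 0, 1], [239, 0, 1, 1, 0, 2, 0, 1], [174, 0, 0, 0, 0, 0, 0, 0], [237, 2, 1, 0, 1, 1, 1, 1], [171, 0, 0, 3, 0, 3, 1, 0], [238, 2, 2, 3, 0, 0, 1, 1], [173, 1, 2, 1, 2, 2, 1, 1], [235, 3, 1, 0, 0, 2, 1, 0], [170, 1, 2, 3, 2, 3, 1, 1], [236, 0, 0, 1, 2, 1, 1, 1], [172, 1, 1, 3, 0, 0, 1, 0], [154, 3, 2, 2, 1, 0, 1, 0], [338, 2, 0, 3, 0, 1, 1, 1], [153, 0, 0, 0, 0, 1, 1, 0], [339, 0, 0, 0, 0, 0, 0, 0]],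
    [[151, 3, 1, 1, 0, 3, 0, 1], [337, 3, 1, 0, 2, 3, 0, 1], [150, 2, 0, 2, 1, 0, 1, 0], [336, 2, 0, 3, 0, 0, 0, 1], [152, 0, 0, 3, 2, 3, 1, 1], [335, 1, 0, 3, 1, 0, 0, 1], [42, 0, 1, 0, 1, 3, 1, 0], [406, 3, 2, 2, 0, 1, 1, 1], [44, 2, 0, 2, 2, 0, 0, 1], [407, 2, 0, 2, 1, 3, 0, 1], [41, 3, 2, 2, 2, 1, 1, 0], [408, 3, 0, 3, 1, 2, 1, 1], [40, 3, 1, 0, 2, 3, 0, 0], [405, 0, 0, 0, 0, 0, 0, 0], [43, 0, 0, 0, 0, 0, 0, 0], [409, 0, 0, 0, 0, 0, 0, 0], [402, 1, 1, 0, 1, 2, 0, 0], [263, 3, 0, 0, 2, 1, 0, 0], [400, 1, 1, 0, 1, 2, 0, 0], [264, 3, 0, 1, 0, 3, 0, 0], [401, 3, 1, 3, 1, 0, 1, 1], [260, 2, 2, 2, 1, 2, 0, 1], [403, 0, 0, 0, 1, 2, 1, 1], [262, 2, 1, 1, 2, 0, 1, 0], [404, 1, 0, 3, 0, 1, 1, 0], [261, 3, 2, 0, 1, 1, 0, 1], [93, 2, 0, 3, 2,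 3, 0, 1], [49, 3, 0, 1, 1, 2, 0, 1], [94, 3, 2, 3, 0, 2, 0, 1], [46, 3, 0, 2, 1, 0, 1, 1], [90, 1, 0, 3, 2, 3, 1, 0], [45, 1, 2, 2, 2, 3, 1, 1], [91, 2, 0, 1, 1, 0, 0, 1], [48, 3, 2, 0, 2, 3, 0, 1], [92, 3, 2, 0, 2, 3, 0, 1], [47, 0, 2, 2, 2, 1, 1, 0], [371, 0, 0, 0, 0, 0, 0, 0], [100, 0, 0, 0, 0, 0, 0, 0], [370, 1, 2, 3, 0, 3, 0, 0], [104, 3, 2, 3, 2, 1, 0, 0], [372, 0, 0, 0, 0, 0, 0, 0], [102, 0, 2, 3, 1, 2, 0, 0], [374, 2, 2, 0, 2, 2, 0, 1], [103, 0, 1, 1, 2, 1, 0, 1], [373, 0, 0, 0, 0, 0, 0, 0], [101, 1, 1, 1, 0, 3, 1, 1], [201, 3, 1, 0, 1, 0, 0, 1], [18, 1, 1, 3, 0, 3, 1, 1], [202, 1, 0, 0, 2, 1, 1, 1], [16, 1, 0, 0, 1, 2, 1, 0], [203, 3, 0, 2, 0, 0, 0, 1], [15, 0, 0, 0, 0, 0, 0, 0], [200, 0, 2, 0, 2, 0, 0, 1], [19, 0, 2, 3, 0, 0,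 1, 1], [204, 1, 1, 3, 0, 2, 1, 0], [17, 0, 2, 1, 1, 1, 1, 0], [179, 0, 2, 2, 0, 2, 1, 1], [70, 1, 0, 3, 1, 0, 0, 1], [175, 1, 1, 1, 0, 2, 0, 0], [72, 0, 0, 2, 1, 0, 1, 1], [177, 3, 2, 0, 0, 2, 1, 0], [71, 3, 2, 0, 2, 0, 1, 0], [178, 2, 2, 0, 2, 1, 1, 0], [74, 2, 2, 2, 2, 3, 1, 1]],
    [[176, 0, 2, 3, 2, 0, 1, 0], [73, 3, 2, 2, 1, 1, 1, 0], [408, 3, 0, 3, 1, 2, 1, 1], [291, 0, 0, 2, 0, 3, 0, 1], [406, 0, 1, 0, 2, 0, 1, 1], [293, 1, 0, 3, 1, 1, 0, 0], [405, 3, 0, 2, 0, 3, 1, 1], [294, 0, 2, 0, 2, 2, 0, 0], [409, 3, 1, 0, 1, 2, 1, 1], [290, 0, 1, 2, 0, 1, 0, 1], [407, 3, 0, 1, 2, 3, 1, 1], [292, 0, 2, 0, 1, 3, 0, 0], [48, 2, 0, 3, 0, 3, 0, 1], [207, 0, 0, 3, 1, 0, 1, 1], [49, 0, 1, 0, 0, 1, 0, 0], [208, 0, 2, 3, 0, 2, 0, 0], [46, 0, 0,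 3, 0, 2, 1, 1], [205, 1, 1, 2, 0, 3, 1, 1], [47, 0, 2, 1, 0, 3, 0, 0], [206, 0, 0, 3, 1, 3, 0, 1], [45, 0, 0, 0, 2, 3, 0, 1], [209, 0, 0, 2, 1, 2, 1, 1], [106, 2, 2, 1, 0, 0, 1, 1], [380, 0, 0, 2, 1, 2, 1, 1], [109, 1, 2, 1, 0, 2, 1, 0], [382, 3, 2, 1, 1, 2, 1, 1], [108, 0, 2, 2, 2, 2, 0, 0], [381, 0, 2, 2, 1, 2, 1, 0], [105, 0, 2, 1, 0, 0, 1, 1], [383, 2, 1, 1, 1, 3, 1, 1], [107, 3, 2, 0, 1, 0, 0, 1], [384, 0, 1, 1, 0, 2, 0, 1], [206, 0, 0, 2, 1, 3, 1, 0], [136, 2, 0, 2, 1, 3, 1, 1], [207, 0, 0, 0, 0, 0, 0, 0], [137, 1, 0, 2, 2, 3, 0, 0], [208, 1, 0, 0, 2, 1, 1, 0], [135, 2, 0, 3, 2, 3, 0, 0], [205, 0, 0, 3, 0, 2, 1, 1], [139, 1, 1, 0, 2, 0, 0, 1], [209, 0, 0, 2, 0, 2, 1, 0], [138, 1, 0, 3, 0, 0, 0, 0], [141, 2, 0, 0, 0, 1, 1, 1], [232,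 1, 1, 1, 0, 0, 0, 1], [142, 0, 0, 0, 0, 0, 0, 0], [234, 0, 2, 0, 0, 3, 1, 1], [140, 0, 0, 0, 0, 0, 0, 0], [233, 0, 0, 0, 0, 0, 0, 0], [143, 2, 1, 0, 2, 1, 1, 1], [231, 0, 0, 2, 0, 3, 1, 1], [144, 2, 2, 1, 2, 3, 0, 1], [230, 0, 1, 0, 2, 3, 1, 1], [253, 2, 2, 0, 2, 3, 0, 0], [160, 2, 2, 2, 2, 3, 1, 1], [251, 2, 0, 3, 0, 2, 1, 1], [163, 0, 0, 0, 0, 0, 0, 0], [252, 1, 2, 1, 0, 2, 1, 0], [164, 0, 2, 3, 0, 3, 0, 1], [254, 2, 1, 3, 0, 0, 1, 0], [161, 3, 0, 2, 0, 3, 1, 1], [250, 2, 2, 1, 0, 0, 1, 0], [162, 3, 2, 3, 2, 2, 0, 1], [357, 1, 1, 0, 0, 1, 1, 1], [399, 1, 2, 3, 0, 0, 0, 0]],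
    [[356, 2, 2, 0, 2, 0, 1, 0], [398, 3, 2, 0, 0, 2, 1, 0], [359, 0, 2, 1, 1, 2, 1, 1], [396, 0, 0, 0, 0, 0, 0, 0], [355, 3, 1, 2, 2, 0, 1, 0], [397, 2, 2, 0, 2, 0, 0, 0], [358, 3, 1, 2, 0, 1, 0, 0], [395, 0, 0, 2, 1, 1, 1, 1], [77, 0, 2, 1, 1, 1, 1, 1], [305, 3, 0, 2, 0, 3, 1, 1], [75, 3, 0, 0, 2, 1, 0, 0], [308, 3, 0, 2, 0, 3, 1, 1], [78, 0, 2, 1, 2, 0, 0, 1], [306, 2, 0, 1, 1, 3, 0, 1], [76, 3, 1, 3, 2, 3, 1, 1], [307, 0, 2, 2, 0, 3, 1, 0], [79, 1, 1, 2, 1, 2, 0, 0], [309, 0, 0, 0, 0, 0, 0, 0], [261, 0, 2, 2, 0, 3, 0, 0], [55, 2, 2, 1, 0, 3, 1, 0], [262, 3, 0, 0, 0, 0, 0, 1], [58, 2, 1, 0, 0, 3, 0, 0], [260, 0, 2, 3, 0, 1, 0, 1], [59, 3, 0, 2, 1, 0, 0, 0], [263, 1, 1, 2, 0, 0, 0, 0], [57, 1, 0, 0, 2, 2, 0, 0], [264, 0, 1, 1, 2, 1,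 1, 1], [56, 2, 1, 3, 2, 0, 1, 0], [70, 2, 1, 3, 1, 3, 1, 1], [7, 3, 1, 0, 1, 3, 1, 0], [74, 3, 0, 1, 1, 1, 0, 1], [6, 3, 0, 1, 2, 0, 0, 0], [72, 0, 0, 0, 0, 0, 0, 0], [9, 3, 1, 0, 1, 0, 1, 0], [71, 1, 0, 3, 1, 0, 1, 1], [8, 1, 2, 2, 0, 3, 1, 1], [73, 1, 0, 0, 2, 0, 0, 0], [5, 1, 0, 1, 2, 3, 0, 1], [350, 2, 0, 1, 1, 3, 0, 0], [79, 1, 1, 2, 1, 2, 0, 0], [352, 2, 2, 0, 0, 3, 0, 1], [78, 2, 1, 1, 1, 3, 1, 1], [354, 0, 0, 1, 1, 1, 0, 1], [77, 0, 2, 2, 0, 2, 1, 1], [353, 3, 2, 3, 2, 3, 1, 0], [76, 3, 2, 3, 2, 2, 1, 0], [351, 0, 0, 2, 1, 2, 1, 1], [75, 0, 0, 0, 0, 0, 0, 0], [136, 0, 1, 0, 2, 1, 0, 1], [99, 2, 2, 0, 2, 2, 0, 1], [138, 0, 1, 1, 0, 2, 0, 1], [95, 0, 1, 1, 0, 1, 1, 0], [137, 2, 2, 2, 0, 2, 1, 0], [98, 3, 1, 2, 0, 2, 0, 1], [135,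 0, 1, 3, 2, 3, 1, 0], [97, 1, 2, 0, 2, 0, 0, 1], [139, 0, 1, 2, 1, 3, 1, 1], [96, 2, 2, 2, 0, 0, 1, 1], [375, 0, 1, 1, 2, 0, 0, 1], [238, 2, 2, 3, 0, 0, 1, 1], [378, 2, 1, 2, 1, 1, 1, 0], [239, 2, 2, 1, 2, 1, 0, 0], [376, 2, 0, 3, 2, 0, 0, 1], [236, 1, 0, 1, 1, 3, 0, 0]],
    [[377, 2, 1, 2, 2, 2, 1, 1], [237, 2, 0, 0, 2, 1, 0, 0], [379, 2, 0, 2, 1, 3, 1, 1], [235, 2, 2, 2, 2, 3, 1, 0], [184, 1, 2, 1, 2, 0, 0, 0], [393, 3, 2, 0, 1, 3, 1, 0], [183, 3, 2, 0, 2, 3, 0, 0], [392, 3, 2, 1, 1, 0, 1, 1], [180, 0, 1, 0, 1, 2, 0, 0], [390, 1, 0, 0, 2, 3, 0, 0], [182, 2, 0, 1, 2, 0, 0, 1], [394, 3, 0, 3, 0, 3, 0, 0], [181, 0, 0, 0, 0, 0, 0, 0], [391, 0, 0, 0, 0, 0, 0, 0], [191, 2, 2, 0, 1, 2, 1, 0], [322, 1, 0, 3, 2, 3, 0, 1], [192, 2, 1, 0, 1,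 2, 1, 1], [323, 3, 2, 2, 1, 0, 0, 1], [190, 1, 0, 1, 2, 0, 0, 1], [321, 3, 0, 2, 2, 2, 1, 1], [193, 1, 0, 0, 0, 2, 0, 0], [324, 0, 2, 1, 2, 3, 0, 0], [194, 3, 0, 1, 2, 0, 0, 1], [320, 3, 0, 1, 2, 0, 0, 1], [97, 0, 0, 0, 0, 0, 0, 0], [146, 2, 1, 2, 2, 3, 0, 1], [96, 3, 2, 2, 0, 1, 0, 1], [147, 0, 0, 0, 0, 2, 1, 0], [95, 3, 2, 0, 1, 3, 0, 0], [145, 2, 1, 1, 1, 3, 0, 0], [98, 0, 0, 2, 2, 3, 1, 1], [148, 2, 1, 2, 1, 3, 1, 0], [99, 2, 0, 1, 1, 0, 1, 1], [149, 1, 2, 1, 1, 1, 1, 1], [147, 1, 2, 3, 0, 0, 1, 1], [302, 1, 2, 1, 0, 3, 1, 1], [148, 3, 0, 2, 1, 2, 0, 1], [301, 2, 2, 3, 0, 3, 1, 0], [146, 0, 1, 3, 1, 3, 0, 0], [304, 0, 0, 0, 0, 1, 1, 1], [149, 3, 1, 2, 2, 0, 1, 0], [303, 3, 1, 2, 0, 0, 1, 0], [145, 2, 2, 2, 1, 0, 0, 0], [300, 1, 2,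 0, 2, 3, 1, 0], [388, 3, 2, 0, 2, 2, 1, 1], [371, 0, 0, 3, 0, 1, 1, 0], [386, 3, 1, 1, 0, 3, 0, 0], [373, 0, 0, 0, 0, 0, 0, 0], [389, 0, 0, 0, 0, 0, 0, 0], [370, 0, 1, 2, 2, 2, 1, 1], [385, 2, 1, 3, 1, 3, 0, 1], [374, 2, 2, 3, 2, 0, 1, 0], [387, 0, 0, 0, 0, 0, 0, 0], [372, 1, 2, 3, 2, 3, 1, 0], [26, 1, 1, 2, 0, 3, 0, 0], [125, 3, 0, 1, 2, 3, 1, 0], [27, 0, 2, 2, 1, 2, 0, 1], [126, 1, 1, 1, 1, 3, 0, 1], [25, 2, 2, 0, 1, 3, 0, 0], [129, 0, 0, 2, 0, 2, 0, 0], [28, 1, 1, 1, 0, 0, 1, 0], [127, 3, 1, 3, 2, 0, 0, 0], [29, 3, 2, 1, 0, 2, 1, 0], [128, 1, 0, 1, 0, 0, 1, 1]],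
    [[227, 0, 2, 0, 0, 3, 1, 1], [217, 0, 0, 0, 0, 0, 0, 0], [228, 2, 0, 1, 0, 3, 1, 1], [218, 1, 2, 0, 0, 2, 1, 0], [226, 2, 2, 3, 2, 3, 1, 0], [215, 0, 2, 2, 1, 3, 0, 0], [229, 2, 0, 1, 1, 0, 0, 1], [216, 2, 0, 1, 1, 1, 0, 1], [225, 2, 2, 3, 2, 0, 1, 0], [219, 3, 0, 2, 0, 0, 1, 1], [62, 1, 1, 3, 2, 3, 1, 1], [165, 2, 2, 2, 1, 2, 0, 1], [60, 0, 0, 3, 1, 1, 0, 0], [169, 3, 0, 2, 0, 3, 1, 1], [63, 0, 0, 0, 0, 0, 0, 0], [166, 2, 2, 2, 2, 3, 0, 1], [64, 3, 1, 0, 1, 1, 1, 1], [168, 2, 0, 1, 1, 0, 0, 1], [61, 1, 1, 2, 1, 3, 1, 0], [167, 2, 1, 2, 1, 3, 1, 0], [219, 2, 2, 3, 0, 0, 0, 0], [412, 0, 0, 0, 0, 0, 0, 0], [215, 0, 1, 1, 0, 2, 1, 1], [414, 0, 0, 0, 1, 3, 0, 0], [217, 3, 0, 3, 2, 1, 0, 1], [413, 1, 0, 1, 1, 0, 0, 0], [216, 1, 2, 2, 0,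 2, 1, 1], [410, 3, 1, 3, 0, 1, 0, 1], [218, 1, 0, 2, 1, 3, 1, 1], [411, 1, 2, 3, 0, 0, 1, 1], [112, 3, 0, 3, 0, 2, 1, 0], [257, 0, 0, 0, 2, 1, 0, 0], [114, 2, 0, 0, 1, 1, 0, 1], [258, 0, 0, 1, 1, 3, 0, 1], [113, 1, 0, 1, 0, 0, 0, 0], [259, 1, 2, 1, 2, 3, 0, 0], [111, 1, 1, 0, 1, 0, 0, 1], [255, 2, 2, 0, 0, 1, 0, 0], [110, 3, 2, 3, 0, 3, 0, 0], [256, 0, 0, 0, 0, 0, 0, 0], [422, 1, 2, 3, 1, 1, 0, 1], [344, 3, 2, 0, 0, 3, 1, 0], [421, 1, 1, 1, 1, 2, 0, 1], [343, 0, 0, 0, 0, 0, 0, 0], [423, 3, 1, 1, 2, 0, 0, 1], [341, 2, 1, 0, 0, 3, 0, 1], [420, 1, 2, 3, 0, 1, 0, 0], [342, 3, 0, 3, 2, 2, 0, 1], [424, 3, 0, 0, 1, 3, 1, 1], [340, 3, 0, 3, 0, 2, 1, 1], [187, 1, 1, 2, 0, 1, 1, 0], [296, 3, 2, 1, 2, 3, 1, 1], [188, 0, 1, 3, 1, 2, 1, 1], [295,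 2, 1, 1, 1, 1, 1, 0], [189, 1, 2, 3, 2, 1, 1, 0], [297, 3, 1, 0, 2, 1, 0, 0], [185, 3, 0, 3, 2, 3, 1, 0], [298, 3, 0, 0, 2, 2, 0, 0], [186, 1, 0, 0, 0, 3, 1, 1], [299, 3, 0, 2, 0, 1, 1, 0], [367, 3, 2, 1, 1, 0, 0, 1], [133, 3, 1, 2, 1, 1, 0, 1], [365, 1, 1, 1, 2, 1, 0, 1], [131, 2, 0, 0, 2, 3, 0, 0]],
    [[369, 1, 1, 1, 2, 2, 1, 1], [132, 0, 2, 1, 1, 0, 0, 0], [366, 0, 2, 0, 1, 3, 0, 0], [134, 1, 0, 0, 1, 0, 1, 0], [368, 0, 0, 3, 1, 0, 0, 1], [130, 2, 0, 2, 2, 0, 1, 1], [169, 2, 0, 1, 1, 1, 0, 1], [220, 2, 2, 3, 0, 1, 1, 1], [167, 1, 2, 3, 0, 2, 1, 1], [224, 0, 0, 0, 1, 3, 0, 0], [166, 0, 1, 2, 0, 1, 1, 1], [223, 0, 2, 2, 0, 1, 0, 0], [165, 1, 2, 1, 2, 0, 1, 0], [222, 1, 0, 2, 2, 0, 0, 1], [168, 3, 2, 0, 2, 3, 0, 1], [221, 3, 0, 2, 1,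 1, 1, 0], [87, 0, 0, 0, 0, 0, 0, 0], [365, 0, 1, 3, 2, 1, 0, 0], [89, 3, 2, 3, 1, 0, 1, 1], [369, 1, 2, 3, 1, 3, 0, 1], [86, 0, 2, 0, 2, 1, 1, 1], [366, 1, 2, 1, 1, 2, 0, 0], [85, 0, 0, 0, 0, 0, 0, 0], [368, 2, 0, 0, 1, 3, 1, 1], [88, 0, 0, 2, 1, 2, 1, 1], [367, 1, 2, 0, 2, 1, 0, 1], [115, 0, 0, 3, 0, 2, 1, 1], [61, 3, 0, 2, 1, 1, 0, 0], [116, 1, 1, 0, 1, 1, 1, 1], [64, 2, 0, 3, 1, 3, 1, 1], [117, 2, 2, 3, 1, 0, 1, 0], [60, 1, 0, 1, 0, 0, 0, 0], [118, 1, 0, 2, 1, 0, 1, 0], [62, 2, 1, 2, 1, 1, 0, 0], [119, 0, 0, 1, 2, 1, 0, 1], [63, 1, 2, 2, 2, 3, 1, 1], [54, 2, 2, 1, 2, 0, 1, 1], [69, 3, 0, 3, 2, 3, 1, 1], [53, 3, 1, 3, 0, 3, 1, 1], [67, 1, 1, 1, 0, 3, 1, 1], [50, 0, 2, 0, 2, 0, 0, 1], [68, 0, 1, 1, 1, 3, 1, 1], [52, 0, 0, 2, 2, 2, 0,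 1], [66, 0, 2, 0, 1, 2, 0, 1], [51, 2, 0, 0, 2, 3, 0, 1], [65, 0, 0, 0, 0, 0, 0, 0], [222, 3, 0, 2, 1, 1, 0, 0], [94, 2, 1, 1, 2, 0, 1, 0], [221, 3, 0, 2, 0, 0, 0, 0], [91, 3, 2, 3, 2, 3, 1, 0], [223, 0, 2, 2, 0, 1, 0, 0], [90, 1, 2, 0, 2, 0, 1, 1], [224, 1, 0, 2, 1, 1, 0, 0], [93, 2, 0, 0, 0, 0, 1, 1], [220, 3, 1, 1, 0, 3, 0, 1], [92, 2, 0, 2, 2, 2, 1, 1], [413, 2, 1, 3, 0, 1, 0, 0], [14, 1, 1, 1, 2, 2, 0, 1], [410, 0, 2, 2, 0, 0, 0, 1], [10, 1, 1, 0, 1, 2, 0, 0], [411, 3, 0, 0, 1, 1, 0, 1], [13, 0, 1, 1, 2, 0, 0, 0], [412, 2, 2, 3, 2, 1, 1, 1], [11, 0, 0, 0, 0, 0, 0, 0]],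
    [[414, 0, 0, 0, 0, 0, 0, 0], [12, 0, 1, 2, 0, 0, 0, 0], [35, 1, 2, 1, 2, 0, 1, 0], [225, 2, 2, 3, 2, 0, 1, 0], [36, 3, 2, 0, 1, 1, 0, 1], [228, 2, 1, 2, 0, 3, 1, 1], [38, 0, 1, 2, 2, 2, 1, 1], [227, 0, 2, 0, 0, 3, 1, 1], [37, 3, 2, 1, 1, 0, 0, 0], [229, 2, 1, 1, 1, 3, 0, 0], [39, 0, 0, 0, 2, 2, 1, 0], [226, 0, 0, 0, 1, 1, 1, 1], [161, 0, 0, 1, 1, 3, 0, 1], [314, 3, 1, 3, 2, 0, 0, 1], [163, 0, 2, 3, 2, 2, 0, 1], [313, 1, 1, 2, 1, 3, 0, 0], [164, 0, 0, 3, 1, 1, 0, 0], [311, 3, 1, 3, 0, 0, 0, 1], [162, 0, 1, 3, 1, 3, 0, 1], [310, 2, 1, 2, 2, 3, 0, 1], [160, 0, 0, 0, 0, 0, 0, 0], [312, 3, 2, 0, 0, 3, 1, 0], [398, 3, 2, 1, 2, 0, 0, 1], [157, 1, 2, 2, 0, 1, 1, 0], [395, 1, 1, 2, 2, 1, 0, 1], [158, 2, 1, 3, 0, 2, 1, 1], [397, 0, 2, 3, 1,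 0, 0, 1], [159, 2, 2, 3, 1, 2, 1, 1], [396, 1, 2, 0, 2, 0, 0, 1], [155, 3, 1, 3, 0, 1, 0, 0], [399, 1, 2, 3, 0, 3, 1, 0], [156, 0, 1, 3, 0, 0, 0, 0], [232, 1, 0, 2, 2, 2, 0, 1], [401, 0, 0, 1, 0, 2, 0, 0], [233, 3, 2, 1, 1, 3, 0, 0], [403, 0, 0, 2, 2, 2, 1, 0], [230, 0, 1, 0, 2, 1, 1, 0], [404, 1, 0, 0, 1, 1, 0, 1], [231, 2, 2, 1, 0, 3, 0, 1], [400, 1, 2, 3, 0, 3, 1, 0], [234, 0, 1, 3, 2, 0, 0, 1], [402, 0, 0, 0, 0, 0, 0, 0], [362, 1, 0, 1, 0, 3, 0, 1], [183, 0, 0, 1, 2, 0, 0, 0], [364, 3, 1, 1, 1, 0, 1, 1], [184, 3, 1, 1, 1, 2, 1, 0], [360, 1, 2, 1, 2, 0, 1, 1], [182, 2, 0, 0, 1, 3, 0, 1], [363, 0, 1, 2, 0, 1, 1, 0], [180, 0, 0, 2, 0, 2, 0, 0], [361, 0, 0, 3, 1, 2, 0, 1], [181, 0, 0, 3, 1, 2, 0, 1], [257, 1, 1, 3, 1, 2, 0, 0], [250,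 0, 0, 3, 2, 3, 0, 1], [256, 1, 0, 2, 0, 3, 1, 0], [251, 0, 0, 0, 2, 2, 1, 0], [258, 0, 1, 3, 2, 3, 1, 1], [252, 0, 0, 3, 2, 0, 1, 1], [255, 0, 2, 2, 1, 3, 0, 0], [253, 0, 0, 2, 1, 1, 1, 1], [259, 0, 1, 0, 0, 1, 0, 0], [254, 0, 0, 2, 1, 1, 1, 1], [80, 0, 1, 1, 1, 2, 1, 0], [327, 2, 1, 1, 1, 2, 1, 1]],
    [[81, 1, 0, 1, 2, 0, 0, 1], [326, 1, 1, 2, 0, 1, 0, 1], [83, 1, 1, 0, 2, 1, 1, 0], [328, 1, 1, 3, 2, 1, 1, 1], [82, 0, 0, 0, 0, 0, 0, 0], [325, 0, 2, 2, 1, 3, 1, 1], [84, 0, 0, 0, 0, 0, 0, 0], [329, 0, 0, 3, 1, 2, 0, 1], [131, 3, 1, 0, 2, 2, 0, 0], [419, 2, 2, 2, 1, 0, 0, 1], [133, 1, 2, 3, 1, 2, 1, 1], [416, 2, 0, 2, 2, 0, 0, 1], [134, 2, 1, 1, 1, 1, 0, 0], [415, 3, 2, 0, 0, 1, 1, 1], [132, 1, 0, 1, 2, 2, 1, 0], [418, 3, 0, 3, 1, 2,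 1, 1], [130, 3, 0, 0, 2, 0, 1, 0], [417, 1, 0, 0, 2, 3, 0, 1], [212, 0, 1, 0, 1, 2, 0, 0], [244, 0, 2, 1, 1, 0, 0, 0], [211, 2, 1, 2, 0, 2, 0, 1], [242, 1, 0, 1, 1, 3, 0, 1], [214, 3, 1, 0, 1, 2, 0, 0], [240, 1, 2, 2, 1, 2, 1, 1], [213, 0, 1, 3, 2, 3, 0, 0], [241, 2, 0, 2, 1, 0, 1, 0], [210, 1, 2, 1, 1, 0, 0, 0], [243, 2, 2, 3, 0, 2, 1, 1], [120, 1, 1, 0, 2, 1, 0, 1], [150, 0, 2, 1, 1, 2, 0, 0], [122, 2, 0, 2, 2, 3, 0, 0], [154, 0, 0, 0, 0, 2, 1, 0], [123, 0, 2, 3, 1, 0, 1, 1], [152, 2, 0, 2, 2, 0, 0, 0], [121, 0, 2, 3, 1, 1, 1, 0], [151, 0, 0, 2, 1, 1, 1, 1], [124, 3, 1, 1, 1, 2, 0, 0], [153, 2, 0, 1, 1, 3, 0, 0], [56, 2, 1, 3, 2, 0, 1, 0], [386, 2, 2, 0, 1, 3, 0, 1], [59, 3, 2, 3, 2, 1, 0, 0], [385, 2, 0, 3, 1, 1, 0, 0], [55, 1, 1,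 1, 0, 1, 0, 1], [387, 3, 1, 1, 0, 3, 0, 1], [57, 0, 0, 2, 1, 3, 1, 0], [388, 3, 2, 3, 1, 1, 0, 0], [58, 0, 1, 1, 0, 3, 0, 1], [389, 2, 1, 1, 2, 0, 1, 0], [415, 0, 0, 1, 0, 1, 0, 1], [319, 2, 0, 0, 2, 3, 1, 1], [417, 0, 1, 1, 2, 1, 0, 1], [315, 1, 0, 0, 1, 2, 0, 1], [419, 0, 0, 0, 0, 0, 0, 0], [318, 3, 2, 3, 2, 3, 1, 0], [418, 2, 2, 3, 1, 0, 1, 0], [316, 3, 0, 3, 2, 3, 0, 1], [416, 3, 1, 2, 0, 0, 1, 1], [317, 0, 0, 1, 2, 0, 0, 0], [68, 2, 2, 2, 0, 1, 1, 0], [288, 3, 1, 1, 2, 3, 1, 1], [65, 1, 1, 2, 0, 2, 0, 1], [286, 3, 2, 3, 2, 1, 0, 0], [67, 1, 1, 1, 0, 3, 1, 1], [285, 2, 0, 0, 1, 2, 0, 0]],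
    [[69, 0, 1, 1, 2, 1, 0, 1], [287, 2, 2, 0, 2, 2, 0, 1], [66, 0, 0, 0, 0, 0, 0, 0], [289, 0, 2, 1, 2, 1, 0, 0], [345, 1, 0, 1, 0, 2, 0, 0], [212, 0, 1, 2, 2, 2, 1, 1], [347, 0, 0, 1, 1, 3, 0, 1], [214, 0, 0, 1, 1, 3, 0, 1], [348, 2, 0, 0, 2, 3, 0, 1], [210, 1, 2, 1, 1, 0, 0, 0], [346, 1, 2, 1, 1, 3, 0, 1], [213, 2, 2, 2, 2, 3, 1, 1], [349, 0, 2, 1, 1, 0, 1, 1], [211, 3, 1, 1, 1, 2, 1, 0], [249, 0, 1, 1, 0, 2, 0, 0], [376, 1, 0, 1, 1, 0, 1, 0], [248, 3, 2, 2, 1, 2, 1, 0], [379, 2, 2, 2, 0, 2, 1, 0], [247, 0, 0, 2, 2, 3, 0, 1], [378, 3, 0, 2, 0, 0, 0, 0], [245, 2, 0, 1, 1, 2, 1, 1], [377, 2, 1, 2, 0, 1, 0, 0], [246, 0, 2, 3, 1, 1, 0, 0], [375, 1, 1, 1, 2, 0, 0, 0], [126, 2, 2, 0, 0, 0, 1, 0], [144, 1, 2, 2, 1, 0, 0, 1], [129, 3, 2, 2,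 1, 0, 0, 1], [140, 3, 0, 1, 2, 0, 1, 0], [125, 2, 1, 0, 2, 0, 0, 1], [142, 0, 1, 2, 1, 2, 1, 1], [127, 0, 0, 1, 1, 0, 1, 0], [143, 1, 0, 2, 0, 3, 1, 0], [128, 0, 1, 3, 1, 3, 1, 0], [141, 0, 0, 0, 0, 3, 0, 0], [390, 2, 1, 2, 0, 3, 1, 1], [50, 1, 1, 1, 0, 3, 1, 1], [394, 1, 2, 3, 0, 2, 0, 1], [52, 1, 2, 0, 2, 2, 0, 0], [393, 3, 2, 2, 2, 3, 1, 0], [53, 0, 0, 0, 2, 2, 1, 0], [391, 0, 0, 0, 0, 0, 0, 0], [54, 0, 0, 0, 0, 0, 0, 0], [392, 3, 0, 2, 1, 3, 1, 0], [51, 2, 0, 0, 2, 3, 0, 1], [34, 0, 0, 1, 0, 2, 0, 0], [87, 2, 1, 3, 1, 0, 0, 1], [33, 2, 2, 2, 0, 0, 1, 1], [85, 1, 2, 2, 0, 1, 1, 0], [32, 1, 2, 1, 1, 3, 0, 0], [86, 3, 1, 3, 1, 0, 0, 1], [31, 3, 0, 1, 2, 0, 0, 0], [88, 3, 0, 3, 2, 2, 1, 1], [30, 2, 0, 3, 0, 2, 1, 1], [89, 2, 0, 3, 0,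 1, 0, 0], [157, 1, 0, 1, 2, 2, 1, 0], [24, 2, 0, 2, 2, 1, 0, 1], [158, 3, 2, 0, 0, 0, 0, 0], [22, 1, 0, 1, 2, 3, 1, 1], [155, 2, 2, 1, 0, 3, 1, 0], [21, 3, 1, 1, 2, 3, 0, 1], [156, 0, 2, 1, 2, 3, 1, 1], [20, 2, 0, 2, 2, 3, 1, 1], [159, 0, 0, 0, 0, 0, 0, 0], [23, 0, 0, 0, 0, 0, 0, 0]],
    [[241, 2, 0, 2, 1, 0, 1, 0], [83, 0, 0, 3, 0, 2, 1, 1], [243, 2, 0, 0, 1, 1, 1, 1], [81, 0, 1, 3, 2, 0, 0, 1], [240, 3, 1, 1, 1, 0, 0, 1], [82, 1, 1, 3, 1, 1, 1, 1], [244, 0, 2, 2, 0, 3, 0, 1], [80, 0, 0, 0, 0, 0, 0, 0], [242, 0, 1, 2, 2, 0, 1, 0], [84, 1, 1, 2, 2, 3, 1, 0], [173, 2, 0, 3, 0, 2, 0, 1], [176, 0, 1, 2, 1, 2, 0, 0], [172, 0, 0, 0, 2, 2, 1, 0], [179, 3, 0, 3, 1, 3, 0, 1], [174, 0, 2, 1, 1, 1, 0, 0], [178, 0, 2, 3, 2, 1, 0, 0], [170, 1, 1,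 1, 2, 0, 0, 1], [175, 3, 0, 1, 0, 2, 0, 1], [171, 2, 1, 1, 2, 2, 0, 0], [177, 2, 2, 2, 0, 1, 0, 1], [195, 0, 0, 0, 2, 1, 0, 1], [330, 0, 0, 3, 1, 3, 0, 0], [199, 3, 2, 1, 2, 1, 1, 0], [331, 0, 0, 3, 1, 2, 0, 1], [198, 2, 0, 1, 0, 0, 0, 1], [332, 0, 0, 1, 0, 0, 0, 1], [196, 3, 1, 0, 0, 1, 0, 1], [333, 0, 0, 0, 1, 3, 1, 0], [197, 3, 0, 2, 1, 1, 0, 1], [334, 0, 0, 2, 0, 2, 1, 0], [384, 0, 0, 0, 0, 0, 0, 0], [420, 3, 1, 2, 1, 0, 1, 0], [381, 0, 0, 1, 1, 1, 0, 1], [422, 1, 0, 2, 1, 0, 0, 1], [383, 0, 0, 0, 0, 0, 0, 0], [424, 0, 1, 2, 2, 2, 1, 1], [382, 3, 2, 3, 1, 0, 0, 0], [421, 2, 1, 2, 2, 2, 0, 1], [380, 0, 0, 2, 1, 2, 1, 1], [423, 3, 0, 0, 1, 1, 1, 0], [101, 2, 0, 0, 1, 0, 1, 0], [246, 2, 2, 0, 1, 3, 0, 1], [100, 2, 1, 0, 1, 3, 1, 0],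 [247, 0, 1, 3, 0, 1, 0, 1], [103, 0, 1, 0, 2, 2, 1, 0], [245, 1, 1, 2, 2, 3, 0, 0], [102, 0, 2, 3, 1, 2, 0, 0], [249, 0, 0, 2, 1, 2, 1, 1], [104, 2, 0, 3, 0, 2, 0, 1], [248, 2, 0, 3, 0, 2, 0, 1], [14, 2, 0, 0, 0, 0, 0, 0], [345, 0, 2, 0, 0, 3, 1, 1], [10, 2, 2, 2, 2, 1, 0, 0], [348, 2, 2, 2, 2, 3, 1, 0], [13, 2, 2, 0, 2, 2, 0, 1], [346, 1, 2, 2, 1, 0, 0, 1], [12, 0, 1, 2, 0, 0, 0, 0], [347, 0, 0, 0, 0, 0, 0, 0], [11, 0, 0, 1, 1, 1, 0, 1], [349, 0, 1, 3, 0, 2, 0, 1], [330, 3, 1, 1, 1, 3, 1, 1], [110, 2, 1, 2, 1, 3, 1, 1], [333, 3, 1, 2, 2, 2, 1, 1], [112, 0, 0, 0, 0, 0, 0, 0]],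
    [[331, 1, 1, 0, 1, 3, 1, 0], [114, 1, 2, 2, 1, 0, 1, 0], [332, 0, 0, 1, 0, 1, 0, 1], [113, 3, 0, 1, 2, 1, 0, 1], [334, 1, 2, 2, 1, 0, 0, 1], [111, 1, 0, 1, 2, 2, 0, 1], [302, 2, 1, 0, 1, 2, 0, 0], [275, 3, 1, 1, 1, 1, 0, 1], [303, 1, 1, 0, 2, 1, 0, 1], [279, 0, 1, 2, 2, 3, 1, 1], [301, 2, 0, 3, 0, 1, 0, 1], [278, 0, 0, 2, 0, 2, 0, 0], [304, 0, 0, 2, 0, 2, 0, 0], [276, 0, 1, 0, 1, 3, 1, 0], [300, 2, 0, 3, 2, 1, 0, 0], [277, 1, 0, 1, 1, 3, 0, 1], [277, 0, 0, 0, 0, 0, 0, 0], [202, 3, 1, 0, 1, 2, 1, 0], [279, 0, 0, 2, 1, 2, 1, 1], [204, 0, 0, 0, 0, 0, 0, 0], [276, 1, 1, 3, 2, 2, 1, 1], [200, 3, 1, 0, 0, 0, 1, 0], [278, 1, 0, 1, 0, 0, 1, 1], [203, 3, 0, 0, 1, 0, 1, 0], [275, 1, 1, 2, 2, 3, 1, 0], [201, 0, 2, 3, 0, 2, 0, 0], [335, 2, 0,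 1, 0, 1, 0, 1], [362, 3, 0, 2, 1, 3, 1, 0], [339, 1, 1, 1, 2, 2, 1, 1], [360, 1, 1, 0, 2, 1, 0, 1], [337, 2, 0, 3, 2, 1, 0, 0], [361, 2, 2, 1, 2, 1, 1, 1], [338, 0, 0, 2, 2, 3, 0, 0], [363, 0, 2, 1, 1, 0, 0, 1], [336, 1, 0, 0, 1, 2, 0, 1], [364, 3, 0, 3, 1, 3, 1, 0], [290, 2, 1, 1, 2, 0, 1, 0], [272, 3, 1, 2, 0, 3, 0, 0], [294, 0, 2, 0, 2, 2, 0, 0], [270, 0, 1, 1, 0, 3, 0, 1], [292, 0, 2, 3, 2, 3, 1, 0], [271, 2, 2, 1, 2, 1, 0, 1], [291, 0, 0, 2, 0, 3, 0, 1], [273, 0, 0, 3, 1, 0, 1, 1], [293, 1, 2, 3, 0, 1, 0, 1], [274, 1, 0, 0, 0, 3, 0, 1], [16, 1, 1, 2, 1, 0, 1, 0], [189, 0, 0, 0, 1, 2, 0, 1], [17, 2, 0, 0, 1, 2, 1, 0], [186, 3, 1, 0, 0, 3, 1, 0], [15, 3, 2, 0, 0, 2, 1, 1], [188, 2, 2, 0, 0, 2, 0, 1], [18, 1, 0, 2, 1, 3, 0, 0], [187,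 2, 2, 1, 2, 3, 0, 1], [19, 3, 0, 1, 0, 2, 0, 1], [185, 1, 1, 0, 0, 0, 0, 1], [284, 3, 1, 0, 1, 2, 0, 0], [119, 0, 0, 3, 1, 2, 0, 1], [283, 1, 1, 2, 0, 1, 0, 1], [117, 0, 2, 2, 2, 3, 0, 0], [280, 1, 2, 3, 0, 2, 0, 1], [118, 3, 2, 2, 1, 2, 1, 0], [281, 0, 0, 0, 0, 0, 0, 0], [116, 0, 0, 0, 0, 0, 0, 0]],
    [[282, 3, 2, 3, 2, 2, 0, 1], [115, 3, 2, 3, 2, 2, 0, 1], [324, 1, 2, 1, 2, 1, 0, 1], [358, 2, 1, 2, 1, 3, 0, 0], [321, 2, 0, 0, 2, 3, 1, 0], [355, 2, 0, 3, 0, 3, 0, 0], [320, 3, 2, 1, 1, 3, 0, 0], [359, 2, 1, 0, 1, 3, 0, 0], [323, 2, 0, 2, 2, 1, 0, 1], [357, 2, 0, 1, 1, 3, 1, 1], [322, 0, 2, 3, 0, 0, 1, 1], [356, 1, 2, 2, 1, 2, 0, 1], [311, 1, 1, 1, 1, 1, 0, 1], [192, 2, 2, 3, 1, 0, 1, 0], [312, 3, 2, 0, 0, 3, 1, 0], [193, 1, 0, 1, 1,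 1, 0, 0], [310, 1, 1, 2, 1, 0, 0, 0], [191, 0, 0, 0, 0, 0, 1, 1], [313, 2, 1, 3, 1, 1, 0, 1], [194, 0, 0, 3, 0, 2, 1, 1], [314, 2, 2, 3, 0, 0, 1, 1], [190, 2, 2, 0, 1, 0, 1, 1], [316, 2, 2, 0, 2, 1, 1, 1], [120, 1, 2, 0, 1, 0, 0, 1], [319, 0, 1, 1, 0, 1, 1, 0], [123, 2, 2, 3, 0, 0, 1, 1], [317, 3, 2, 3, 2, 3, 1, 1], [122, 2, 0, 2, 2, 1, 1, 1], [318, 0, 1, 0, 0, 1, 1, 0], [124, 0, 1, 2, 2, 3, 0, 0], [315, 0, 0, 0, 0, 0, 0, 0], [121, 1, 0, 3, 2, 1, 1, 0], [4, 2, 2, 3, 2, 0, 1, 0], [269, 0, 0, 1, 1, 3, 0, 1], [3, 2, 0, 0, 2, 3, 0, 1], [267, 2, 2, 0, 2, 2, 1, 1], [1, 0, 2, 1, 1, 1, 1, 1], [265, 0, 1, 0, 1, 2, 0, 0], [0, 0, 0, 0, 2, 2, 1, 0], [268, 3, 2, 0, 2, 3, 0, 0], [2, 1, 2, 0, 2, 0, 0, 1], [266, 0, 0, 0, 0, 0, 0, 0], [285, 3, 0, 3, 1,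 2, 0, 1], [0, 0, 0, 0, 0, 0, 0, 0], [287, 2, 0, 3, 0, 0, 0, 1], [1, 2, 0, 3, 0, 0, 0, 1], [289, 3, 1, 1, 0, 2, 1, 0], [3, 1, 0, 0, 2, 3, 0, 1], [288, 1, 1, 1, 2, 0, 1, 0], [2, 3, 1, 2, 2, 3, 0, 0], [286, 2, 0, 0, 2, 3, 0, 1], [4, 0, 0, 0, 0, 0, 0, 0], [7, 0, 2, 0, 2, 3, 0, 0], [27, 3, 2, 1, 0, 2, 0, 0], [9, 2, 2, 1, 1, 1, 0, 1], [25, 2, 2, 0, 2, 2, 0, 1], [5, 2, 1, 1, 0, 1, 1, 1], [28, 2, 2, 3, 0, 3, 1, 1], [8, 0, 2, 3, 1, 2, 0, 1], [29, 0, 2, 3, 1, 2, 0, 1], [6, 1, 0, 2, 0, 0, 1, 0], [26, 0, 0, 3, 2, 1, 1, 1], [325, 0, 1, 0, 0, 3, 0, 1], [43, 0, 2, 0, 1, 3, 0, 0]],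
    [[329, 0, 0, 0, 0, 0, 0, 0], [44, 0, 0, 0, 0, 0, 0, 0], [327, 0, 0, 3, 1, 3, 0, 0], [41, 3, 2, 1, 0, 3, 0, 1], [326, 1, 0, 1, 1, 3, 0, 1], [40, 3, 0, 2, 2, 0, 0, 0], [328, 0, 0, 3, 0, 2, 1, 1], [42, 2, 2, 2, 1, 3, 1, 1], [267, 1, 0, 1, 2, 1, 0, 1], [34, 2, 1, 1, 0, 0, 0, 1], [268, 2, 1, 1, 0, 3, 0, 0], [30, 0, 1, 0, 1, 0, 0, 1], [265, 1, 0, 1, 0, 1, 1, 1], [33, 1, 1, 2, 2, 1, 0, 1], [266, 0, 1, 0, 2, 0, 0, 0], [31, 1, 1, 0, 1, 0, 0, 1], [269, 0, 2, 0, 0, 3, 1, 1], [32, 3, 0, 2, 1, 2, 1, 0]]],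
  [
    [[1, 0, 0, 0, 0, 0, 0], [0, 0, 2, 0, 2, 0, 0], [3, 0, 0, 0, 0, 0, 0], [0, 0, 3, 0, 3, 0, 1], [1, 0, 2, 0, 3, 0, 0], [0, 2, 3, 1, 3, 0, 1], [3, 0, 2, 2, 2, 1, 0], [2, 0, 0, 1, 3, 1, 1], [2, 2, 2, 0, 3, 0, 1], [2, 0, 0, 0, 0, 0, 0], [3, 0, 0, 1, 0, 1, 1], [1, 1, 3, 2, 1, 1, 1]]],
  [
    [[0, 0, 2, 2, 1, 1], [2, 0, 0, 0, 0, 0], [1, 0, 0, 0, 0, 0], [1, 1, 1, 2, 1, 0], [0, 1, 2, 0, 1, 1], [2, 3, 0, 2, 0, 0], [2, 3, 2, 2, 1, 0], [1, 3, 0, 1, 1, 0], [0, 3, 0, 2, 0, 0]]],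
  [
    [[3, 0, 0, 0, 0], [0, 2, 3, 0, 0], [2, 0, 0, 0, 0], [3, 0, 0, 0, 1], [2, 0, 0, 0, 0], [3, 0, 3, 1, 1], [0, 2, 2, 0, 0], [2, 0, 0, 1, 1], [1, 0, 0, 0, 0], [1, 2, 1, 1, 0], [1, 1, 2, 1, 0], [1, 0, 0, 1, 1], [0, 0, 0, 0, 0], [2, 1, 3, 1, 0], [3, 1, 2, 1, 0], [0, 0, 0, 0, 1]]],
  [
    [[1, 0, 0, 0], [0, 0, 1, 0], [2, 0, 0, 0], [2, 1, 0, 0], [1, 0, 0, 1], [0, 3, 0, 0], [0, 1, 0, 0], [2, 0, 1, 1], [1, 3, 0, 0]]],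
  [
    [[1, 0, 0], [3, 0, 0], [2, 0, 0], [0, 1, 0], [0, 0, 0], [2, 0, 1], [3, 0, 1], [1, 1, 0], [3, 0, 1], [1, 0, 1], [0, 0, 0], [2, 1, 0], [2, 0, 1], [0, 0, 0], [1, 0, 1], [3, 1, 0]]],
  [
    [[0, 1], [0, 1], [1, 0], [1, 1], [1, 1], [0, 0]]],
  [
    [[1], [1], [1], [0], [0], [0]]]]


/-- The tables. -/
def T : Tables where
  K := 8
  nLet := 60
  gens := fun i => gensTab.getD i []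
  n := fun i => nTab.getD i 0
  base := fun i => baseTab.getD i 0
  path := fun i k => get2 (pathTab.getD i []) [] k
  pts := fun i k => get2 (ptsTab.getD i []) 0 k
  cov := fun i q => get2 (covTab.getD i []) [] q
  ord := fun a => ordTab.getD a 0
  lvl := fun a => lvlTab.getD a 0
  kind := fun a => kindTab.getD a 0
  certW := fun a => certWTab.getD a []
  certJ := fun a => certJTab.getD a 0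

end Cfsg.Agent.Helper72.HeN
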