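import Cfsg.Agent.Lib.Helper72.HeNChkA0
import Cfsg.Agent.Lib.Helper72.HeNChkA1
import Cfsg.Agent.Lib.Helper72.HeNChkA2
import Cfsg.Agent.Lib.Helper72.HeNChkB

/-!
# The chain for the subgroup of index 2 of a point stabilizer of the Held group of degree 2058: the checks combined
-/

set_option autoImplicit false

namespace Cfsg.Agent.Helper72.HeN

open Cfsg.Agent.Helper72.PermNet

theorem all_range' {f : ℕ → Bool} {lo len : ℕ} (h : (List.range' lo len).all f = true) {q : ℕ}
    (h1 : lo ≤ q) (h2 : q < lo + len) : f q = true :=
  List.all_eq_true.1 h q (List.mem_range'_1.2 ⟨h1, h2⟩)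

theorem cov_lvl_0 : ∀ q < 850, chkCov R X0 NW T 0 q = true := by
  intro q hq
  by_cases h0 : q < 100
  · exact all_range' cov_0_0 (by omega) (by omega)
  by_cases h1 : q < 200
  · exact all_range' cov_0_1 (by omega) (by omega)
  by_cases h2 : q < 300
  · exact all_range' cov_0_2 (by omega) (by omega)
  by_cases h3 : q < 400
  · exact all_range' cov_0_3 (by omega) (by omega)
  by_cases h4 : q < 500
  · exact all_range' cov_0_4 (by omega) (by omega)
  by_cases h5 : q < 600
  · exact all_range' cov_0_5 (by omega) (by omega)
  by_cases h6 : q < 700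
  · exact all_range' cov_0_6 (by omega) (by omega)
  by_cases h7 : q < 800
  · exact all_range' cov_0_7 (by omega) (by omega)
  exact all_range' cov_0_8 (by omega) (by omega)

theorem cov_lvl_1 : ∀ q < 12, chkCov R X0 NW T 1 q = true := by
  intro q hq
  exact all_range' cov_1_0 (by omega) (by omega)

theorem cov_lvl_2 : ∀ q < 9, chkCov R X0 NW T 2 q = true := by
  intro q hq
  exact all_range' cov_2_0 (by omega) (by omega)

theorem cov_lvl_3 : ∀ q < 16, chkCov R X0 NW T 3 q = true := by
  intro q hq
  exact all_range' cov_3_0 (by omega) (by omega)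

theorem cov_lvl_4 : ∀ q < 9, chkCov R X0 NW T 4 q = true := by
  intro q hq
  exact all_range' cov_4_0 (by omega) (by omega)

theorem cov_lvl_5 : ∀ q < 16, chkCov R X0 NW T 5 q = true := by
  intro q hq
  exact all_range' cov_5_0 (by omega) (by omega)

theorem cov_lvl_6 : ∀ q < 6, chkCov R X0 NW T 6 q = true := by
  intro q hq
  exact all_range' cov_6_0 (by omega) (by omega)

theorem cov_lvl_7 : ∀ q < 6, chkCov R X0 NW T 7 q = true := by
  intro q hq
  exact all_range' cov_7_0 (by omega) (by omega)

theorem hK : T.K = 8 := rfl

theorem hnLet : T.nLet = 60 := rfl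

/-- All the checks of the chain. -/
theorem checked : Checked 4096 12 R X0 NW T where
  good := good
  hcov := by
    intro i hi q hq
    rw [hK] at hi
    interval_cases i
    · exact cov_lvl_0 q hq
    · exact cov_lvl_1 q hq
    · exact cov_lvl_2 q hq
    · exact cov_lvl_3 q hq
    · exact cov_lvl_4 q hq
    · exact cov_lvl_5 q hq
    · exact cov_lvl_6 q hq
    · exact cov_lvl_7 q hq
  hpath := by
    intro i hi k hk
    exact List.all_eq_true.1 (List.all_eq_true.1 hpath_all i (List.mem_range.2 hi)) k
      (List.mem_range.2 hk)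
  hpts := by
    intro i hi k hk
    exact List.all_eq_true.1 (List.all_eq_true.1 hpts_all i (List.mem_range.2 hi)) k
      (List.mem_range.2 hk)
  hlet := by
    intro a ha
    rw [hnLet] at ha
    by_cases h0 : a < 50
    · exact all_range' hlet_0 (by omega) (by omega)
    exact all_range' hlet_1 (by omega) (by omega)
  hgens := by
    intro i hi a ha
    have h := List.all_eq_true.1 (List.all_eq_true.1 hgens_all i (List.mem_range.2 hi)) a ha
    simp only [Bool.and_eq_true, decide_eq_true_eq, beq_iff_eq] at h
    exact ⟨h.1.1, h.1.2, h.2⟩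
  hgens' := by
    intro i hi
    exact List.getD_eq_default _ _ hi
  hn := by
    intro i hi
    have h := List.all_eq_true.1 hn_all i (List.mem_range.2 hi)
    simpa using h
  hn' := by
    intro i hi
    exact List.getD_eq_default _ _ hi

end Cfsg.Agent.Helper72.HeN
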