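import Mathlib
import Cfsg.Agent.Lib.Helper72.J1Simple

/-!
# Orders of groups from a chain of transversals, and a simplicity criterion

* `level_card`: one step of a verified Schreier–Sims chain.
* `simple_of_primitive`: a finite group acting primitively and faithfully on an orbit of size `n`,
  generated by elements of order `p`, where `p` divides `n` and `p ^ 2` does not divide the order
  of the group, is simple.
-/

set_option autoImplicit false

namespace Cfsg.Agent.Helper72.PermChain

section level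
variable {G : Type*} [Group G] {X : Type*} [MulAction G X]

/-- Covering lemma for groups: if `S * T ⊆ T * L`, the elements of `S` have finite order and
`1 ∈ T`, then `closure S ⊆ T * L`. -/
theorem cover_group (S : Set G) (L : Subgroup G) (n : ℕ) (t : ℕ → G) (h0 : t 0 = 1) (hn : 0 < n)
    (hcov : ∀ s ∈ S, ∀ k < n, ∃ j < n, ∃ l ∈ L, s * t k = t j * l)
    (hord : ∀ s ∈ S, ∃ m, 0 < m ∧ s ^ m = 1) :
    ∀ g ∈ Subgroup.closure S, ∃ k < n, ∃ l ∈ L, g = t k * l := by
  -- `P g`: left multiplication by `g` maps `T * L` into itself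
  let P : G → Prop := fun g => ∀ k < n, ∃ j < n, ∃ l ∈ L, g * t k = t j * l
  have hP1 : P 1 := fun k hk => ⟨k, hk, 1, L.one_mem, by rw [one_mul, mul_one]⟩
  have hPmul : ∀ g h, P g → P h → P (g * h) := by
    intro g h hg hh k hk
    obtain ⟨j, hj, l, hl, e⟩ := hh k hk
    obtain ⟨j', hj', l', hl', e'⟩ := hg j hj
    exact ⟨j', hj', l' * l, L.mul_mem hl' hl, by rw [mul_assoc, e, ← mul_assoc, e', mul_assoc]⟩
  have hPpow : ∀ g, P g → ∀ m : ℕ, P (g ^ m) := by
    intro g hg m
    induction m with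
    | zero => rw [pow_zero]; exact hP1
    | succ m ih => rw [pow_succ]; exact hPmul _ _ ih hg
  have hPS : ∀ s ∈ S, P s := hcov
  have hPinv : ∀ s ∈ S, P s⁻¹ := by
    intro s hs
    obtain ⟨m, hm, e⟩ := hord s hs
    have : s⁻¹ = s ^ (m - 1) := by
      apply inv_eq_of_mul_eq_one_right
      rw [← pow_succ', Nat.sub_add_cancel hm, e]
    rw [this]
    exact hPpow s (hPS s hs) _
  have hall : ∀ g ∈ Subgroup.closure S, P g := by
    intro g hg
    induction hg using Subgroup.closure_induction'' with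
    | one => exact hP1
    | mem x hx => exact hPS x hx
    | inv_mem x hx => exact hPinv x hx
    | mul x y _ _ hx hy => exact hPmul x y hx hy
  intro g hg
  obtain ⟨j, hj, l, hl, e⟩ := hall g hg 0 hn
  exact ⟨j, hj, l, hl, by rw [← e, h0, mul_one]⟩

/-- One level of a chain: the order of `closure S` is `n` times the order of `L`, and `L` is the
stabilizer of the base point. -/
theorem level_card (S : Set G) (L : Subgroup G) [Finite L] (n : ℕ) (t : ℕ → G) (b : X)
    (h0 : t 0 = 1) (hn : 0 < n)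
    (hcov : ∀ s ∈ S, ∀ k < n, ∃ j < n, ∃ l ∈ L, s * t k = t j * l)
    (hord : ∀ s ∈ S, ∃ m, 0 < m ∧ s ^ m = 1)
    (hmem : ∀ k < n, t k ∈ Subgroup.closure S)
    (hsub : L ≤ Subgroup.closure S)
    (hfix : ∀ l ∈ L, l • b = b)
    (hinj : ∀ k < n, ∀ k' < n, t k • b = t k' • b → k = k') :
    Finite (Subgroup.closure S) ∧ Nat.card (Subgroup.closure S) = n * Nat.card L ∧
      (∀ g ∈ Subgroup.closure S, g • b = b → g ∈ L) ∧
      (∀ g ∈ Subgroup.closure S, ∃ k < n, g • b = t k • b) := by
  have hc := cover_group S L n t h0 hn hcov hord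
  let f : Fin n × L → Subgroup.closure S := fun p =>
    ⟨t p.1.val * p.2.1, (Subgroup.closure S).mul_mem (hmem _ p.1.2) (hsub p.2.2)⟩
  have hf : Function.Bijective f := by
    constructor
    · rintro ⟨k, l⟩ ⟨k', l'⟩ h
      have h1 : t k.val * l.1 = t k'.val * l'.1 := congrArg Subtype.val h
      have h2 : t k.val • b = t k'.val • b := by
        have := congrArg (fun g : G => g • b) h1
        simpa [mul_smul, hfix l.1 l.2, hfix l'.1 l'.2] using this
      have h3 : k = k' := Fin.ext (hinj _ k.2 _ k'.2 h2)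
      subst h3
      have h4 : l.1 = l'.1 := mul_left_cancel h1
      rw [Subtype.ext h4]
    · rintro ⟨g, hg⟩
      obtain ⟨k, hk, l, hl, e⟩ := hc g hg
      exact ⟨(⟨k, hk⟩, ⟨l, hl⟩), Subtype.ext e.symm⟩
  have hfin : Finite (Subgroup.closure S) := Finite.of_surjective f hf.2
  refine ⟨hfin, ?_, ?_, ?_⟩
  · rw [← Nat.card_congr (Equiv.ofBijective f hf), Nat.card_prod, Nat.card_fin]
  · intro g hg hgb
    obtain ⟨k, hk, l, hl, e⟩ := hc g hg
    have h1 : t k • b = t 0 • b := by
      have h5 : t k • b = b := by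
        have := hgb
        rwa [e, mul_smul, hfix l hl] at this
      rw [h0, one_smul, h5]
    have h2 : k = 0 := hinj k hk 0 hn h1
    rw [e, h2, h0, one_mul]
    exact hl
  · intro g hg
    obtain ⟨k, hk, l, hl, e⟩ := hc g hg
    exact ⟨k, hk, by rw [e, mul_smul, hfix l hl]⟩

end level

section simple
variable {G : Type*} [Group G] [Finite G] {X : Type*} [MulAction G X]

omit [Finite G] in
/-- The orbit of a point under a subgroup containing its stabilizer has `#M / #K` elements. -/
theorem ncard_orbit_subgroup (ω : X) (M : Subgroup G) (hM : MulAction.stabilizer G ω ≤ M) :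
    (MulAction.orbit M ω).ncard * Nat.card (MulAction.stabilizer G ω) = Nat.card M := by
  have h1 := MulAction.index_stabilizer M ω
  have h2 := (MulAction.stabilizer M ω).card_mul_index
  have h3 : Nat.card (MulAction.stabilizer M ω) = Nat.card (MulAction.stabilizer G ω) := by
    have : MulAction.stabilizer M ω = (MulAction.stabilizer G ω).subgroupOf M := by
      ext m
      simp [MulAction.mem_stabilizer_iff, Subgroup.mem_subgroupOf, Subgroup.smul_def]
    rw [this]
    exact Nat.card_congr (Subgroup.subgroupOfEquivOfLe hM).toEquiv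
  rw [← h1, ← h3, mul_comm, h2]

/-- The stabilizer of a point is a maximal subgroup when it has exactly two orbits besides the
point, and no union of the point with one of them has a size dividing the size of the orbit. -/
theorem maximal_stabilizer (ω : X) (n1 n2 : ℕ) (O1 O2 : Set X)
    (hfin1 : O1.Finite) (hfin2 : O2.Finite) (hO1 : O1.ncard = n1) (hO2 : O2.ncard = n2)
    (hω1 : ω ∉ O1) (hω2 : ω ∉ O2) (hdisj : Disjoint O1 O2)
    (horb : MulAction.orbit G ω = {ω} ∪ O1 ∪ O2)
    (htr1 : ∀ x ∈ O1, ∀ y ∈ O1, ∃ k : G, k • ω = ω ∧ k • x = y)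
    (htr2 : ∀ x ∈ O2, ∀ y ∈ O2, ∃ k : G, k • ω = ω ∧ k • x = y)
    (har1 : ¬ (1 + n1) ∣ (1 + n1 + n2)) (har2 : ¬ (1 + n2) ∣ (1 + n1 + n2))
    (M : Subgroup G) (hM : MulAction.stabilizer G ω ≤ M) :
    M = MulAction.stabilizer G ω ∨ M = ⊤ := by
  classical
  have hcardM := ncard_orbit_subgroup ω M hM
  have hcardG := ncard_orbit_subgroup ω (⊤ : Subgroup G) le_top
  obtain ⟨K, hK⟩ : ∃ K, K = MulAction.stabilizer G ω := ⟨_, rfl⟩
  obtain ⟨Δ, hΔ⟩ : ∃ Δ : Set X, Δ = MulAction.orbit M ω := ⟨_, rfl⟩
  rw [← hK] at hM hcardM hcardG ⊢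
  rw [← hΔ] at hcardM
  have hKpos : 0 < Nat.card K := Nat.card_pos
  have horbtop : MulAction.orbit (⊤ : Subgroup G) ω = MulAction.orbit G ω := by
    ext x
    constructor
    · rintro ⟨g, rfl⟩; exact ⟨g.1, rfl⟩
    · rintro ⟨g, rfl⟩; exact ⟨⟨g, Subgroup.mem_top g⟩, rfl⟩
  have hωO : ω ∈ Δ := by rw [hΔ]; exact MulAction.mem_orbit_self ω
  have hΔsub : Δ ⊆ {ω} ∪ O1 ∪ O2 := by
    rw [← horb, hΔ]
    rintro x ⟨m, rfl⟩
    exact ⟨m.1, rfl⟩
  -- invariance under `K`
  have hinv : ∀ k : G, k • ω = ω → ∀ x ∈ Δ, k • x ∈ Δ := by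
    intro k hk x hx
    rw [hΔ] at hx ⊢
    obtain ⟨m, rfl⟩ := hx
    have hkM : k ∈ M := hM (by rw [hK]; exact MulAction.mem_stabilizer_iff.2 hk)
    refine ⟨⟨k, hkM⟩ * m, ?_⟩
    show (⟨k, hkM⟩ * m : M) • ω = k • (m • ω)
    rw [mul_smul]
    rfl
  have hall1 : (∃ x ∈ O1, x ∈ Δ) → O1 ⊆ Δ := by
    rintro ⟨x, hx1, hxΔ⟩ y hy
    obtain ⟨k, hk, rfl⟩ := htr1 x hx1 y hy
    exact hinv k hk x hxΔ
  have hall2 : (∃ x ∈ O2, x ∈ Δ) → O2 ⊆ Δ := by
    rintro ⟨x, hx1, hxΔ⟩ y hy
    obtain ⟨k, hk, rfl⟩ := htr2 x hx1 y hy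
    exact hinv k hk x hxΔ
  have hfinΔ : Δ.Finite := (((Set.finite_singleton ω).union hfin1).union hfin2).subset hΔsub
  have hd1 : Disjoint ({ω} : Set X) O1 := Set.disjoint_singleton_left.2 hω1
  have hd2 : Disjoint ({ω} ∪ O1 : Set X) O2 := by
    rw [Set.disjoint_union_left]
    exact ⟨Set.disjoint_singleton_left.2 hω2, hdisj⟩
  have hc1 : ({ω} ∪ O1 : Set X).ncard = 1 + n1 := by
    rw [Set.ncard_union_eq hd1 (Set.finite_singleton ω) hfin1, Set.ncard_singleton, hO1]
  have hcO : ({ω} ∪ O1 ∪ O2 : Set X).ncard = 1 + n1 + n2 := by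
    rw [Set.ncard_union_eq hd2 ((Set.finite_singleton ω).union hfin1) hfin2, hc1, hO2]
  have hGcard : (1 + n1 + n2) * Nat.card K = Nat.card G := by
    rw [← hcO, ← horb, ← horbtop, hcardG]
    exact Nat.card_congr Subgroup.topEquiv.toEquiv
  have hdvd : Δ.ncard ∣ 1 + n1 + n2 := by
    have h1 : Nat.card M ∣ Nat.card G := Subgroup.card_subgroup_dvd_card M
    rw [← hcardM, ← hGcard] at h1
    exact Nat.dvd_of_mul_dvd_mul_right hKpos h1
  by_cases e1 : ∃ x ∈ O1, x ∈ Δ
  · by_cases e2 : ∃ x ∈ O2, x ∈ Δ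
    · -- everything
      right
      have hΔeq : Δ = {ω} ∪ O1 ∪ O2 := by
        apply Set.Subset.antisymm hΔsub
        intro x hx
        rcases hx with (hx | hx) | hx
        · rw [Set.mem_singleton_iff.1 hx]; exact hωO
        · exact hall1 e1 hx
        · exact hall2 e2 hx
      have : Nat.card M = Nat.card G := by rw [← hcardM, ← hGcard, hΔeq, hcO]
      exact Subgroup.card_eq_iff_eq_top M |>.1 this
    · exfalso
      have hΔeq : Δ = {ω} ∪ O1 := by
        apply Set.Subset.antisymm
        · intro x hx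
          rcases hΔsub hx with (h | h) | h
          · exact Or.inl h
          · exact Or.inr h
          · exact absurd ⟨x, h, hx⟩ e2
        · intro x hx
          rcases hx with hx | hx
          · rw [Set.mem_singleton_iff.1 hx]; exact hωO
          · exact hall1 e1 hx
      rw [hΔeq, hc1] at hdvd
      exact har1 hdvd
  · by_cases e2 : ∃ x ∈ O2, x ∈ Δ
    · exfalso
      have hΔeq : Δ = {ω} ∪ O2 := by
        apply Set.Subset.antisymm
        · intro x hx
          rcases hΔsub hx with (h | h) | h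
          · exact Or.inl h
          · exact absurd ⟨x, h, hx⟩ e1
          · exact Or.inr h
        · intro x hx
          rcases hx with hx | hx
          · rw [Set.mem_singleton_iff.1 hx]; exact hωO
          · exact hall2 e2 hx
      have hc2 : ({ω} ∪ O2 : Set X).ncard = 1 + n2 := by
        rw [Set.ncard_union_eq (Set.disjoint_singleton_left.2 hω2) (Set.finite_singleton ω) hfin2,
          Set.ncard_singleton, hO2]
      rw [hΔeq, hc2] at hdvd
      exact har2 hdvd
    · left
      have hΔeq : Δ = {ω} := by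
        apply Set.Subset.antisymm
        · intro x hx
          rcases hΔsub hx with (h | h) | h
          · exact h
          · exact absurd ⟨x, h, hx⟩ e1
          · exact absurd ⟨x, h, hx⟩ e2
        · intro x hx
          rw [Set.mem_singleton_iff.1 hx]; exact hωO
      have hMK : Nat.card M = Nat.card K := by
        rw [← hcardM, hΔeq, Set.ncard_singleton, one_mul]
      exact (Subgroup.eq_of_le_of_card_ge hM (by rw [hMK])).symm

/-- **Simplicity criterion.** -/
theorem simple_of_primitive [Nontrivial G] (ω : X) (n : ℕ)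
    (hn : (MulAction.orbit G ω).ncard = n)
    (hmax : ∀ M : Subgroup G, MulAction.stabilizer G ω ≤ M →
      M = MulAction.stabilizer G ω ∨ M = ⊤)
    (hfaith : ∀ g : G, (∀ h : G, g • (h • ω) = h • ω) → g = 1)
    (p : ℕ) (hp : p.Prime) (hpn : p ∣ n) (hp2 : ¬ p ^ 2 ∣ Nat.card G)
    (gen : Set G) (hgen : Subgroup.closure gen = ⊤) (hgp : ∀ g ∈ gen, g ^ p = 1) :
    IsSimpleGroup G := by
  refine ⟨fun N hN => ?_⟩
  by_cases hbot : N = ⊥
  · exact Or.inl hbot
  right
  set K := MulAction.stabilizer G ω with hK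
  rcases hmax (K ⊔ N) le_sup_left with h | h
  · -- `N ≤ K`: then `N` acts trivially on the orbit
    exfalso
    apply hbot
    have hNK : N ≤ K := by rw [← h]; exact le_sup_right
    rw [Subgroup.eq_bot_iff_forall]
    intro g hg
    apply hfaith
    intro x
    have h1 : x⁻¹ * g * x ∈ K := hNK (by
      have := hN.conj_mem g hg x⁻¹
      rwa [inv_inv] at this)
    rw [hK, MulAction.mem_stabilizer_iff, mul_smul, mul_smul] at h1
    have := congrArg (fun y => x • y) h1
    simpa using this
  · -- `G = N K`: then `N` is transitive on the orbit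
    have hsup : (N ⊔ K : Subgroup G) = ⊤ := by rw [sup_comm]; exact h
    have horb : MulAction.orbit N ω = MulAction.orbit G ω := by
      ext x
      constructor
      · rintro ⟨m, rfl⟩; exact ⟨m.1, rfl⟩
      · rintro ⟨g, rfl⟩
        have hg : g ∈ ((N ⊔ K : Subgroup G) : Set G) := by rw [hsup]; exact Set.mem_univ g
        rw [Subgroup.normal_mul] at hg
        obtain ⟨m, hm, k, hk, rfl⟩ := hg
        refine ⟨⟨m, hm⟩, ?_⟩
        have hk' : k • ω = ω := MulAction.mem_stabilizer_iff.1 hk
        show m • ω = (m * k) • ω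
        rw [mul_smul, hk']
    have hdvd : n ∣ Nat.card N := by
      have h1 := MulAction.index_stabilizer N ω
      have h2 := (MulAction.stabilizer N ω).card_mul_index
      rw [h1, horb, hn] at h2
      exact Dvd.intro_left _ h2
    have hpN : p ∣ Nat.card N := hpn.trans hdvd
    rw [eq_top_iff, ← hgen, Subgroup.closure_le]
    intro g hg
    exact J1.mem_of_prime_dvd_card N hp hpN hp2 (hgp g hg)

end simple

end Cfsg.Agent.Helper72.PermChain
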