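import Mathlib
import Cfsg.Agent.Lib.Helper72.PermChain

/-!
# More tools for permutation groups given by generators

* `mem_of_pow_dvd_card`: a normal subgroup whose order has the full power of `p` contains the
  `p`-elements.
* `simple_of_primitive_pow`: the simplicity criterion of `PermChain`, with a power of a prime.
* `maximal_stabilizer_fin`: maximality of a point stabilizer from the sizes of its orbits.
* `exists_hom_of_rel`: a homomorphism between two groups given by generators, from a relation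
  which is compatible with the products and determines the image.
-/

set_option autoImplicit false

namespace Cfsg.Agent.Helper72.PermChain

section pgroup
variable {Γ : Type*} [Group Γ]

/-- If `p ^ a` divides the order of the normal subgroup `N` and `p ^ (a + 1)` does not divide the
order of the group, then `N` contains every `p`-element. -/
theorem mem_of_pow_dvd_card (N : Subgroup Γ) [N.Normal] {p a : ℕ} (hp : p.Prime)
    (hpN : p ^ a ∣ Nat.card N) (hp2 : ¬ p ^ (a + 1) ∣ Nat.card Γ) {g : Γ} {k : ℕ}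
    (hg : g ^ (p ^ k) = 1) : g ∈ N := by
  have hidx : ¬ p ∣ N.index := by
    intro h
    apply hp2
    rw [← N.card_mul_index, pow_succ]
    exact Nat.mul_dvd_mul hpN h
  have hcop : Nat.Coprime (p ^ k) N.index := Nat.Coprime.pow_left k ((Nat.Prime.coprime_iff_not_dvd hp).2 hidx)
  have h1 : (QuotientGroup.mk g : Γ ⧸ N) ^ (p ^ k) = 1 := by
    rw [← QuotientGroup.mk_pow, hg, QuotientGroup.mk_one]
  have h2 : (QuotientGroup.mk g : Γ ⧸ N) ^ N.index = 1 := by
    have : Nat.card (Γ ⧸ N) = N.index := rfl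
    rw [← this]
    exact pow_card_eq_one'
  have h3 : orderOf (QuotientGroup.mk g : Γ ⧸ N) ∣ Nat.gcd (p ^ k) N.index :=
    Nat.dvd_gcd (orderOf_dvd_of_pow_eq_one h1) (orderOf_dvd_of_pow_eq_one h2)
  rw [hcop.gcd_eq_one, Nat.dvd_one, orderOf_eq_one_iff] at h3
  exact (QuotientGroup.eq_one_iff g).1 h3

end pgroup

section simple
variable {G : Type*} [Group G] [Finite G] {X : Type*} [MulAction G X]

omit [Finite G] in
/-- **Simplicity criterion**, with a power of a prime. -/
theorem simple_of_primitive_pow [Nontrivial G] (ω : X) (n : ℕ)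
    (hn : (MulAction.orbit G ω).ncard = n)
    (hmax : ∀ M : Subgroup G, MulAction.stabilizer G ω ≤ M →
      M = MulAction.stabilizer G ω ∨ M = ⊤)
    (hfaith : ∀ g : G, (∀ h : G, g • (h • ω) = h • ω) → g = 1)
    (p a : ℕ) (hp : p.Prime) (hpn : p ^ a ∣ n) (hp2 : ¬ p ^ (a + 1) ∣ Nat.card G)
    (gen : Set G) (hgen : Subgroup.closure gen = ⊤) (hgp : ∀ g ∈ gen, ∃ k, g ^ (p ^ k) = 1) :
    IsSimpleGroup G := by
  refine ⟨fun N hN => ?_⟩
  by_cases hbot : N = ⊥
  · exact Or.inl hbot
  right
  set K := MulAction.stabilizer G ω with hK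
  rcases hmax (K ⊔ N) le_sup_left with h | h
  · exfalso
    apply hbot
    have hNK : N ≤ K := by rw [← h]; exact le_sup_right
    rw [Subgroup.eq_bot_iff_forall]
    intro g hg
    apply hfaith
    intro x
    have h1 : x⁻¹ * g * x ∈ K := hNK (by
      have := hN.conj_mem g hg x⁻¹
      rwa [inv_inv] at this)
    rw [hK, MulAction.mem_stabilizer_iff, mul_smul, mul_smul] at h1
    have := congrArg (fun y => x • y) h1
    simpa using this
  · have hsup : (N ⊔ K : Subgroup G) = ⊤ := by rw [sup_comm]; exact h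
    have horb : MulAction.orbit N ω = MulAction.orbit G ω := by
      ext x
      constructor
      · rintro ⟨m, rfl⟩; exact ⟨m.1, rfl⟩
      · rintro ⟨g, rfl⟩
        have hg : g ∈ ((N ⊔ K : Subgroup G) : Set G) := by rw [hsup]; exact Set.mem_univ g
        rw [Subgroup.normal_mul] at hg
        obtain ⟨m, hm, k, hk, rfl⟩ := hg
        refine ⟨⟨m, hm⟩, ?_⟩
        have hk' : k • ω = ω := MulAction.mem_stabilizer_iff.1 hk
        show m • ω = (m * k) • ω
        rw [mul_smul, hk']
    have hdvd : n ∣ Nat.card N := by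
      have h1 := MulAction.index_stabilizer N ω
      have h2 := (MulAction.stabilizer N ω).card_mul_index
      rw [h1, horb, hn] at h2
      exact Dvd.intro_left _ h2
    have hpN : p ^ a ∣ Nat.card N := hpn.trans hdvd
    rw [eq_top_iff, ← hgen, Subgroup.closure_le]
    intro g hg
    obtain ⟨k, hk⟩ := hgp g hg
    exact mem_of_pow_dvd_card N hp hpN hp2 hk

/-- The stabilizer of a point is a maximal subgroup when no union of the point with some of the
other orbits of the stabilizer, but not all, has a size dividing the size of the orbit. -/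
theorem maximal_stabilizer_fin (ω : X) (r : ℕ) (O : Fin r → Set X) (sz : Fin r → ℕ)
    (hfin : ∀ i, (O i).Finite) (hsz : ∀ i, (O i).ncard = sz i)
    (hω : ∀ i, ω ∉ O i) (hdisj : ∀ i j, i ≠ j → Disjoint (O i) (O j))
    (horb : MulAction.orbit G ω = {ω} ∪ ⋃ i, O i)
    (htr : ∀ i, ∀ x ∈ O i, ∀ y ∈ O i, ∃ k : G, k • ω = ω ∧ k • x = y)
    (har : ∀ S : Finset (Fin r), (1 + ∑ i ∈ S, sz i) ∣ (1 + ∑ i, sz i) →
      S = ∅ ∨ S = Finset.univ)
    (M : Subgroup G) (hM : MulAction.stabilizer G ω ≤ M) :
    M = MulAction.stabilizer G ω ∨ M = ⊤ := by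
  classical
  have hcardM := ncard_orbit_subgroup ω M hM
  have hcardG := ncard_orbit_subgroup ω (⊤ : Subgroup G) le_top
  obtain ⟨K, hK⟩ : ∃ K, K = MulAction.stabilizer G ω := ⟨_, rfl⟩
  obtain ⟨Δ, hΔ⟩ : ∃ Δ : Set X, Δ = MulAction.orbit M ω := ⟨_, rfl⟩
  rw [← hK] at hM hcardM hcardG ⊢
  rw [← hΔ] at hcardM
  have hKpos : 0 < Nat.card K := Nat.card_pos
  have horbtop : MulAction.orbit (⊤ : Subgroup G) ω = MulAction.orbit G ω := by
    ext x
    constructor
    · rintro ⟨g, rfl⟩; exact ⟨g.1, rfl⟩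
    · rintro ⟨g, rfl⟩; exact ⟨⟨g, Subgroup.mem_top g⟩, rfl⟩
  have hωO : ω ∈ Δ := by rw [hΔ]; exact MulAction.mem_orbit_self ω
  have hΔsub : Δ ⊆ {ω} ∪ ⋃ i, O i := by
    rw [← horb, hΔ]
    rintro x ⟨m, rfl⟩
    exact ⟨m.1, rfl⟩
  have hinv : ∀ k : G, k • ω = ω → ∀ x ∈ Δ, k • x ∈ Δ := by
    intro k hk x hx
    rw [hΔ] at hx ⊢
    obtain ⟨m, rfl⟩ := hx
    have hkM : k ∈ M := hM (by rw [hK]; exact MulAction.mem_stabilizer_iff.2 hk)
    refine ⟨⟨k, hkM⟩ * m, ?_⟩
    show (⟨k, hkM⟩ * m : M) • ω = k • (m • ω)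
    rw [mul_smul]
    rfl
  have hall : ∀ i, (∃ x ∈ O i, x ∈ Δ) → O i ⊆ Δ := by
    rintro i ⟨x, hx1, hxΔ⟩ y hy
    obtain ⟨k, hk, rfl⟩ := htr i x hx1 y hy
    exact hinv k hk x hxΔ
  -- sizes of the unions
  have hunion : ∀ S : Finset (Fin r), (({ω} : Set X) ∪ ⋃ i ∈ S, O i).ncard = 1 + ∑ i ∈ S, sz i := by
    intro S
    have hfinS : (⋃ i ∈ S, O i).Finite := Set.Finite.biUnion S.finite_toSet (fun i _ => hfin i)
    have hdω : Disjoint ({ω} : Set X) (⋃ i ∈ S, O i) := by
      rw [Set.disjoint_singleton_left]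
      simp only [Set.mem_iUnion, not_exists]
      intro i _ hx
      exact hω i hx
    rw [Set.ncard_union_eq hdω (Set.finite_singleton ω) hfinS, Set.ncard_singleton]
    congr 1
    induction S using Finset.induction_on with
    | empty => simp
    | insert i S hi ih =>
      rw [Finset.sum_insert hi, Finset.set_biUnion_insert]
      have hd : Disjoint (O i) (⋃ j ∈ S, O j) := by
        rw [Set.disjoint_iUnion₂_right]
        intro j hj
        exact hdisj i j (by rintro rfl; exact hi hj)
      have hfinS' : (⋃ j ∈ S, O j).Finite :=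
        Set.Finite.biUnion S.finite_toSet (fun i _ => hfin i)
      rw [Set.ncard_union_eq hd (hfin i) hfinS', hsz i]
      congr 1
      apply ih hfinS'
      rw [Set.disjoint_singleton_left]
      simp only [Set.mem_iUnion, not_exists]
      intro j _ hx
      exact hω j hx
  let S : Finset (Fin r) := Finset.univ.filter (fun i => ∃ x ∈ O i, x ∈ Δ)
  have hΔeq : Δ = {ω} ∪ ⋃ i ∈ S, O i := by
    apply Set.Subset.antisymm
    · intro x hx
      rcases hΔsub hx with h | h
      · exact Or.inl h
      · right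
        obtain ⟨i, hi⟩ := Set.mem_iUnion.1 h
        simp only [Set.mem_iUnion]
        exact ⟨i, Finset.mem_filter.2 ⟨Finset.mem_univ i, x, hi, hx⟩, hi⟩
    · intro x hx
      rcases hx with hx | hx
      · rw [Set.mem_singleton_iff.1 hx]; exact hωO
      · simp only [Set.mem_iUnion] at hx
        obtain ⟨i, hiS, hxi⟩ := hx
        exact hall i (Finset.mem_filter.1 hiS).2 hxi
  have hunivU : (({ω} : Set X) ∪ ⋃ i, O i) = {ω} ∪ ⋃ i ∈ (Finset.univ : Finset (Fin r)), O i := by
    simp
  have hGcard : (1 + ∑ i, sz i) * Nat.card K = Nat.card G := by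
    rw [← hunion Finset.univ, ← hunivU, ← horb, ← horbtop, hcardG]
    exact Nat.card_congr Subgroup.topEquiv.toEquiv
  have hdvd : (1 + ∑ i ∈ S, sz i) ∣ 1 + ∑ i, sz i := by
    have h1 : Nat.card M ∣ Nat.card G := Subgroup.card_subgroup_dvd_card M
    rw [← hcardM, ← hGcard, hΔeq, hunion S] at h1
    exact Nat.dvd_of_mul_dvd_mul_right hKpos h1
  rcases har S hdvd with hS | hS
  · left
    have hMK : Nat.card M = Nat.card K := by
      rw [← hcardM, hΔeq, hunion S, hS, Finset.sum_empty, add_zero, one_mul]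
    exact (Subgroup.eq_of_le_of_card_ge hM (by rw [hMK])).symm
  · right
    have : Nat.card M = Nat.card G := by
      rw [← hcardM, ← hGcard, hΔeq, hunion S, hS]
    exact Subgroup.card_eq_iff_eq_top M |>.1 this

end simple

section pairing
variable {A B : Type*} [Group A] [Group B]

/-- A homomorphism between two groups given by generators, from a relation which is compatible
with the products and determines the image. -/
theorem exists_hom_of_rel (Rel : A → B → Prop) (h1 : Rel 1 1)
    (hmul : ∀ a a' b b', Rel a b → Rel a' b' → Rel (a * a') (b * b'))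
    (hinv : ∀ a b, Rel a b → Rel a⁻¹ b⁻¹)
    (huniq : ∀ a b b', Rel a b → Rel a b' → b = b')
    (gens : Set (A × B)) (hgens : ∀ p ∈ gens, Rel p.1 p.2) :
    ∃ f : Subgroup.closure (Prod.fst '' gens) →* Subgroup.closure (Prod.snd '' gens),
      Function.Surjective f ∧ ∀ a, Rel a.1 (f a).1 := by
  classical
  set Γ : Subgroup (A × B) := Subgroup.closure gens with hΓ
  have hrel : ∀ p ∈ Γ, Rel p.1 p.2 := by
    intro p hp
    induction hp using Subgroup.closure_induction with
    | mem x hx => exact hgens x hx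
    | one => exact h1
    | mul x y _ _ hx hy => exact hmul _ _ _ _ hx hy
    | inv x _ hx => exact hinv _ _ hx
  have hfst : Γ.map (MonoidHom.fst A B) = Subgroup.closure (Prod.fst '' gens) := by
    rw [hΓ, MonoidHom.map_closure]
    rfl
  have hsnd : Γ.map (MonoidHom.snd A B) = Subgroup.closure (Prod.snd '' gens) := by
    rw [hΓ, MonoidHom.map_closure]
    rfl
  have hex : ∀ a : Subgroup.closure (Prod.fst '' gens), ∃ b : B, ((a : A), b) ∈ Γ := by
    intro a
    have ha : (a : A) ∈ Γ.map (MonoidHom.fst A B) := by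
      rw [hfst]
      exact a.2
    obtain ⟨p, hp, hpa⟩ := ha
    refine ⟨p.2, ?_⟩
    have : ((a : A), p.2) = p := by
      rw [← hpa]
      rfl
    rw [this]
    exact hp
  choose φ hφ using hex
  have hφmem : ∀ a, φ a ∈ Subgroup.closure (Prod.snd '' gens) := by
    intro a
    rw [← hsnd]
    exact ⟨_, hφ a, rfl⟩
  have hφuniq : ∀ (a : Subgroup.closure (Prod.fst '' gens)) (b : B), ((a : A), b) ∈ Γ →
      φ a = b := by
    intro a b hb
    exact huniq _ _ _ (hrel _ (hφ a)) (hrel _ hb)
  refine ⟨{ toFun := fun a => ⟨φ a, hφmem a⟩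
            map_one' := ?_
            map_mul' := ?_ }, ?_, ?_⟩
  · apply Subtype.ext
    exact hφuniq 1 1 (Subgroup.one_mem Γ)
  · intro a a'
    apply Subtype.ext
    exact hφuniq (a * a') (φ a * φ a') (Γ.mul_mem (hφ a) (hφ a'))
  · rintro ⟨b, hb⟩
    rw [← hsnd] at hb
    obtain ⟨p, hp, hpb⟩ := hb
    have hp1 : p.1 ∈ Subgroup.closure (Prod.fst '' gens) := by
      rw [← hfst]
      exact ⟨p, hp, rfl⟩
    refine ⟨⟨p.1, hp1⟩, ?_⟩
    apply Subtype.ext
    show φ ⟨p.1, hp1⟩ = b
    apply hφuniq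
    have : (p.1, b) = p := by
      rw [← hpb]
      rfl
    show (p.1, b) ∈ Γ
    rw [this]
    exact hp
  · intro a
    exact hrel _ (hφ a)

end pairing

end Cfsg.Agent.Helper72.PermChain
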