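import Cfsg.Agent.Lib.Helper72.HeData85
import Cfsg.Agent.Lib.Helper72.He85Cov
import Cfsg.Agent.Lib.Helper72.PermChain2
import Cfsg.Agent.Lib.Lead.SpCard

/-!
# The symplectic group of degree 4 over the field with 4 elements as a permutation group

The group of degree `85` generated by two permutations is isomorphic to
`Matrix.symplecticGroup (Fin 2) F4`: the two groups have the same order, and two symplectic
matrices act on the `85` points of the projective space as the two permutations.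
-/

set_option autoImplicit false

namespace Cfsg.Agent.Helper72.HeSp

open Cfsg.Agent.Helper72.PermNet Cfsg.Agent.Helper72.HeData

/-- The symplectic group. -/
abbrev Sp : Submonoid (Matrix I4 I4 F4) := Matrix.symplecticGroup (Fin 2) F4

/-- The group of degree `85`. -/
abbrev G85 : Subgroup (Equiv.Perm ℕ) := Lv He85.NW He85.T 0

instance finiteG85 : Finite G85 := (card_Lv He85.checked 0).1

theorem prod85 : prodFrom He85.T 0 = 979200 := by decide +kernel

theorem card_G85 : Nat.card G85 = 979200 := by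
  rw [← prod85]
  exact (card_Lv He85.checked 0).2

theorem card_Sp : Nat.card Sp = 979200 := by
  have h := Cfsg.Agent.Lead.card_symplecticGroup (F := F4) 2
  rw [Nat.card_eq_fintype_card (α := F4), F4.card_F4] at h
  rw [h]
  decide

/-- The relation between a matrix and a permutation of the points. -/
def RelM (M : Sp) (σ : Equiv.Perm ℕ) : Prop :=
  (∀ i, 85 ≤ i → σ i = i) ∧
    ∀ i < 85, ∃ c : F4, c ≠ 0 ∧ (M : Matrix I4 I4 F4).mulVec (pt i) = c • pt (σ i)

theorem lt_of_fix {σ : Equiv.Perm ℕ} (h : ∀ i, 85 ≤ i → σ i = i) {i : ℕ} (hi : i < 85) :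
    σ i < 85 := by
  by_contra hcon
  have h1 := h (σ i) (by omega)
  have h2 := σ.injective h1
  omega

theorem fix_inv {σ : Equiv.Perm ℕ} (h : ∀ i, 85 ≤ i → σ i = i) : ∀ i, 85 ≤ i → σ⁻¹ i = i := by
  intro i hi
  rw [Equiv.Perm.inv_eq_iff_eq]
  exact (h i hi).symm

theorem nonprop {i j : ℕ} (hi : i < 85) (hj : j < 85) {c : F4} (hc : c ≠ 0)
    (h : pt i = c • pt j) : i = j := by
  have key : ∀ d ∈ List.range' 1 3, pt i = F4.ofCode d • pt j → i = j := by
    intro d hd hp
    have h1 := List.all_eq_true.1 (List.all_eq_true.1 (List.all_eq_true.1 hprop i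
      (List.mem_range.2 hi)) j (List.mem_range.2 hj)) d hd
    simp only [Bool.or_eq_true, Bool.not_eq_true', decide_eq_false_iff_not, beq_iff_eq] at h1
    rcases h1 with h1 | h1
    · exact absurd hp h1
    · exact h1
  rcases hcode c hc with rfl | rfl | rfl
  · exact key 1 (by decide) h
  · exact key 2 (by decide) h
  · exact key 3 (by decide) h

theorem relM_one : RelM 1 1 := by
  refine ⟨fun i _ => rfl, fun i _ => ⟨1, one_ne_zero, ?_⟩⟩
  rw [Submonoid.coe_one, Matrix.one_mulVec, one_smul, Equiv.Perm.one_apply]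

theorem relM_mul (M M' : Sp) (σ σ' : Equiv.Perm ℕ) (h : RelM M σ) (h' : RelM M' σ') :
    RelM (M * M') (σ * σ') := by
  refine ⟨fun i hi => ?_, fun i hi => ?_⟩
  · rw [Equiv.Perm.mul_apply, h'.1 i hi, h.1 i hi]
  · obtain ⟨c', hc', e'⟩ := h'.2 i hi
    obtain ⟨c, hc, e⟩ := h.2 (σ' i) (lt_of_fix h'.1 hi)
    refine ⟨c' * c, mul_ne_zero hc' hc, ?_⟩
    rw [Submonoid.coe_mul, ← Matrix.mulVec_mulVec, e', Matrix.mulVec_smul, e, smul_smul,
      Equiv.Perm.mul_apply]

theorem relM_inv (M : Sp) (σ : Equiv.Perm ℕ) (h : RelM M σ) : RelM M⁻¹ σ⁻¹ := by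
  refine ⟨fix_inv h.1, fun i hi => ?_⟩
  have hj : σ⁻¹ i < 85 := lt_of_fix (fix_inv h.1) hi
  obtain ⟨c, hc, e⟩ := h.2 (σ⁻¹ i) hj
  have hσ : σ (σ⁻¹ i) = i := Equiv.Perm.eq_inv_iff_eq.1 rfl
  rw [hσ] at e
  refine ⟨c⁻¹, inv_ne_zero hc, ?_⟩
  have h1 : ((M⁻¹ : Sp) : Matrix I4 I4 F4) * (M : Matrix I4 I4 F4) = 1 := by
    rw [← Submonoid.coe_mul, inv_mul_cancel, Submonoid.coe_one]
  have h2 : ((M⁻¹ : Sp) : Matrix I4 I4 F4).mulVec (c • pt i) = pt (σ⁻¹ i) := by
    rw [← e, Matrix.mulVec_mulVec, h1, Matrix.one_mulVec]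
  rw [Matrix.mulVec_smul] at h2
  rw [← h2, smul_smul, inv_mul_cancel₀ hc, one_smul]

theorem relM_uniq (M : Sp) (σ σ' : Equiv.Perm ℕ) (h : RelM M σ) (h' : RelM M σ') : σ = σ' := by
  apply Equiv.ext
  intro i
  rcases Nat.lt_or_ge i 85 with hi | hi
  · obtain ⟨c, hc, e⟩ := h.2 i hi
    obtain ⟨c', hc', e'⟩ := h'.2 i hi
    have h1 : pt (σ i) = (c⁻¹ * c') • pt (σ' i) := by
      rw [← smul_smul, ← e', e, smul_smul, inv_mul_cancel₀ hc, one_smul]
    exact nonprop (lt_of_fix h.1 hi) (lt_of_fix h'.1 hi) (mul_ne_zero (inv_ne_zero hc) hc') h1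
  · rw [h.1 i hi, h'.1 i hi]

/-- The two matrices as elements of the symplectic group. -/
noncomputable def Mk (k : ℕ) : Sp :=
  if h : k < 2 then ⟨mat k, SymplecticGroup.mem_iff.2 (hsymp k h)⟩ else 1

theorem Mk_coe {k : ℕ} (h : k < 2) : ((Mk k : Sp) : Matrix I4 I4 F4) = mat k := by
  unfold Mk
  rw [dif_pos h]

theorem gens85 : He85.T.gens 0 = [0, 1] := rfl

theorem lt_two_of_mem {s : ℕ} (hs : s ∈ He85.T.gens 0) : s < 2 := by
  rw [gens85] at hs
  simp only [List.mem_cons, List.not_mem_nil, or_false] at hs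
  omega

/-- The generators of degree `85` fix the numbers from `85` on. -/
theorem el85_fix {s : ℕ} (hs : s < 2) {i : ℕ} (hi : 85 ≤ i) : el He85.NW [s] i = i := by
  rcases Nat.lt_or_ge i 128 with h | h
  · have h1 := List.all_eq_true.1 (List.all_eq_true.1 hsigfix s (List.mem_range.2 hs)) i
      (List.mem_range'_1.2 ⟨hi, by omega⟩)
    rw [beq_iff_eq] at h1
    exact el_apply_of_applyWs He85.good h1
  · exact el_apply_ge He85.good _ h

/-- The generators of degree `85` as functions. -/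
theorem el85_apply {s : ℕ} (hs : s < 2) {i : ℕ} (hi : i < 85) : el He85.NW [s] i = sig s i := by
  have h1 := List.all_eq_true.1 (List.all_eq_true.1 hsig s (List.mem_range.2 hs)) i
    (List.mem_range.2 hi)
  rw [beq_iff_eq] at h1
  exact el_apply_of_applyWs He85.good h1

theorem relM_gen {s : ℕ} (hs : s ∈ He85.T.gens 0) : RelM (Mk s) (el He85.NW [s]) := by
  have hs2 : s < 2 := lt_two_of_mem hs
  refine ⟨fun i hi => el85_fix hs2 hi, fun i hi => ?_⟩
  have h3 := List.all_eq_true.1 (List.all_eq_true.1 hmat s (List.mem_range.2 hs2)) i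
    (List.mem_range.2 hi)
  simp only [Bool.and_eq_true, decide_eq_true_eq] at h3
  refine ⟨cf s i, h3.1.2, ?_⟩
  rw [Mk_coe hs2, el85_apply hs2 hi]
  exact h3.1.1

/-- The pairs of generators. -/
def gensM : Set (Sp × Equiv.Perm ℕ) := {p | ∃ s ∈ He85.T.gens 0, p = (Mk s, el He85.NW [s])}

theorem snd_gensM : Prod.snd '' gensM = {g | ∃ s ∈ He85.T.gens 0, g = el He85.NW [s]} := by
  ext g
  constructor
  · rintro ⟨p, ⟨s, hs, rfl⟩, rfl⟩
    exact ⟨s, hs, rfl⟩
  · rintro ⟨s, hs, rfl⟩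
    exact ⟨(Mk s, el He85.NW [s]), ⟨s, hs, rfl⟩, rfl⟩

/-- The symplectic group is isomorphic to the group of degree `85`. -/
theorem nonempty_mulEquiv : Nonempty (G85 ≃* Sp) := by
  obtain ⟨f, hf, -⟩ := PermChain.exists_hom_of_rel RelM relM_one relM_mul relM_inv relM_uniq gensM
    (by
      rintro p ⟨s, hs, rfl⟩
      exact relM_gen hs)
  have hB : Subgroup.closure (Prod.snd '' gensM) = G85 := by
    rw [snd_gensM]
    rfl
  have hcB : Nat.card (Subgroup.closure (Prod.snd '' gensM)) = 979200 := by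
    rw [hB]
    exact card_G85
  have hle1 : Nat.card (Subgroup.closure (Prod.fst '' gensM)) ≤ 979200 := by
    rw [← card_Sp]
    exact Subgroup.card_le_card_group _
  have hle2 : 979200 ≤ Nat.card (Subgroup.closure (Prod.fst '' gensM)) := by
    rw [← hcB]
    exact Nat.card_le_card_of_surjective f hf
  have hcA : Nat.card (Subgroup.closure (Prod.fst '' gensM)) = 979200 := le_antisymm hle1 hle2
  have htop : Subgroup.closure (Prod.fst '' gensM) = ⊤ := by
    rw [← Subgroup.card_eq_iff_eq_top, hcA, card_Sp]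
  have hbij : Function.Bijective f := hf.bijective_of_nat_card_le (by rw [hcA, hcB])
  have e1 : Subgroup.closure (Prod.fst '' gensM) ≃* Subgroup.closure (Prod.snd '' gensM) :=
    MulEquiv.ofBijective f hbij
  have e2 : Subgroup.closure (Prod.fst '' gensM) ≃* Sp :=
    (MulEquiv.subgroupCongr htop).trans Subgroup.topEquiv
  have e3 : Subgroup.closure (Prod.snd '' gensM) ≃* G85 := MulEquiv.subgroupCongr hB
  exact ⟨e3.symm.trans (e1.symm.trans e2)⟩

end Cfsg.Agent.Helper72.HeSp
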