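import Cfsg.Agent.Lib.Helper72.HeDataN
import Cfsg.Agent.Lib.Helper72.HeNCov
import Cfsg.Agent.Lib.Helper72.HeSp

/-!
# The subgroup of index 2 of the point stabilizer of the Held group of degree 2058

The group `N0` of degree `2058` generated by two permutations acts on the `85` blocks of `5` points
of `[273, 698)` as the group of degree `85`; the two groups have the same order, so they are
isomorphic.
-/

set_option autoImplicit false

namespace Cfsg.Agent.Helper72.HeBlk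

open Cfsg.Agent.Helper72.PermNet Cfsg.Agent.Helper72.HeData Cfsg.Agent.Helper72.HeSp

/-- The group of degree `2058`. -/
abbrev N0 : Subgroup (Equiv.Perm ℕ) := Lv HeN.NW HeN.T 0

instance finiteN0 : Finite N0 := (card_Lv HeN.checked 0).1

theorem prodN : prodFrom HeN.T 0 = 979200 := by decide +kernel

theorem card_N0 : Nat.card N0 = 979200 := by
  rw [← prodN]
  exact (card_Lv HeN.checked 0).2

/-- The relation between a permutation of the points and a permutation of the blocks. -/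
def RelB (g σ : Equiv.Perm ℕ) : Prop :=
  (∀ i, 85 ≤ i → σ i = i) ∧
    ∀ x, 273 ≤ x → x < 698 → 273 ≤ g x ∧ g x < 698 ∧ (g x - 273) / 5 = σ ((x - 273) / 5)

theorem inv_mem_Ico {g : Equiv.Perm ℕ} {a b : ℕ} (h : ∀ x, a ≤ x → x < b → a ≤ g x ∧ g x < b) :
    ∀ x, a ≤ x → x < b → a ≤ g⁻¹ x ∧ g⁻¹ x < b := by
  intro x hx1 hx2
  obtain ⟨y, hy, e⟩ := Finset.surj_on_of_inj_on_of_card_le (s := Finset.Ico a b)
    (t := Finset.Ico a b) (fun y _ => g y)
    (by
      intro y hy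
      rw [Finset.mem_Ico] at hy ⊢
      exact h y hy.1 hy.2)
    (by
      intro y1 y2 _ _ e
      exact g.injective e)
    le_rfl x (Finset.mem_Ico.2 ⟨hx1, hx2⟩)
  have h1 : g⁻¹ x = y := by
    rw [e]
    exact Equiv.Perm.inv_eq_iff_eq.2 rfl
  rw [h1]
  exact Finset.mem_Ico.1 hy

theorem relB_one : RelB 1 1 := by
  refine ⟨fun i _ => rfl, fun x h1 h2 => ⟨h1, h2, rfl⟩⟩

theorem relB_mul (g g' σ σ' : Equiv.Perm ℕ) (h : RelB g σ) (h' : RelB g' σ') :
    RelB (g * g') (σ * σ') := by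
  refine ⟨fun i hi => ?_, fun x h1 h2 => ?_⟩
  · rw [Equiv.Perm.mul_apply, h'.1 i hi, h.1 i hi]
  · obtain ⟨a1, a2, a3⟩ := h'.2 x h1 h2
    obtain ⟨b1, b2, b3⟩ := h.2 (g' x) a1 a2
    refine ⟨b1, b2, ?_⟩
    rw [Equiv.Perm.mul_apply, Equiv.Perm.mul_apply, b3, a3]

theorem relB_inv (g σ : Equiv.Perm ℕ) (h : RelB g σ) : RelB g⁻¹ σ⁻¹ := by
  refine ⟨fix_inv h.1, fun x h1 h2 => ?_⟩
  obtain ⟨a1, a2⟩ := inv_mem_Ico (fun y hy1 hy2 => ⟨(h.2 y hy1 hy2).1, (h.2 y hy1 hy2).2.1⟩)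
    x h1 h2
  refine ⟨a1, a2, ?_⟩
  obtain ⟨-, -, b3⟩ := h.2 (g⁻¹ x) a1 a2
  have hg : g (g⁻¹ x) = x := Equiv.Perm.eq_inv_iff_eq.1 rfl
  rw [hg] at b3
  rw [b3]
  exact (Equiv.Perm.inv_eq_iff_eq.2 rfl).symm

theorem relB_uniq (g σ σ' : Equiv.Perm ℕ) (h : RelB g σ) (h' : RelB g σ') : σ = σ' := by
  apply Equiv.ext
  intro i
  rcases Nat.lt_or_ge i 85 with hi | hi
  · obtain ⟨-, -, a3⟩ := h.2 (273 + 5 * i) (by omega) (by omega)
    obtain ⟨-, -, b3⟩ := h'.2 (273 + 5 * i) (by omega) (by omega)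
    have e : (273 + 5 * i - 273) / 5 = i := by
      rw [Nat.add_sub_cancel_left, Nat.mul_div_cancel_left _ (by norm_num : 0 < 5)]
    rw [e] at a3 b3
    rw [← a3, ← b3]
  · rw [h.1 i hi, h'.1 i hi]

theorem gensN : HeN.T.gens 0 = [0, 1] := rfl

theorem relB_gen {s : ℕ} (hs : s ∈ HeN.T.gens 0) : RelB (el HeN.NW [s]) (el He85.NW [s]) := by
  have hs2 : s < 2 := by
    rw [gensN] at hs
    simp only [List.mem_cons, List.not_mem_nil, or_false] at hs
    omega
  refine ⟨fun i hi => el85_fix hs2 hi, fun x h1 h2 => ?_⟩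
  have hj : x - 273 < 425 := by omega
  have h3 := List.all_eq_true.1 (List.all_eq_true.1 himg s (List.mem_range.2 hs2)) (x - 273)
    (List.mem_range.2 hj)
  simp only [Bool.and_eq_true, decide_eq_true_eq, beq_iff_eq] at h3
  obtain ⟨⟨⟨c1, c2⟩, c3⟩, c4⟩ := h3
  have hx : 273 + (x - 273) = x := by omega
  rw [hx] at c1
  have h4 : el HeN.NW [s] x = img s (x - 273) := el_apply_of_applyWs HeN.good c1
  rw [h4, el85_apply hs2 (by omega : (x - 273) / 5 < 85)]
  exact ⟨c2, c3, c4⟩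

/-- The pairs of generators. -/
def gensB : Set (Equiv.Perm ℕ × Equiv.Perm ℕ) :=
  {p | ∃ s ∈ HeN.T.gens 0, p = (el HeN.NW [s], el He85.NW [s])}

theorem fst_gensB : Prod.fst '' gensB = {g | ∃ s ∈ HeN.T.gens 0, g = el HeN.NW [s]} := by
  ext g
  constructor
  · rintro ⟨p, ⟨s, hs, rfl⟩, rfl⟩
    exact ⟨s, hs, rfl⟩
  · rintro ⟨s, hs, rfl⟩
    exact ⟨(el HeN.NW [s], el He85.NW [s]), ⟨s, hs, rfl⟩, rfl⟩

theorem snd_gensB : Prod.snd '' gensB = {g | ∃ s ∈ He85.T.gens 0, g = el He85.NW [s]} := by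
  ext g
  constructor
  · rintro ⟨p, ⟨s, hs, rfl⟩, rfl⟩
    exact ⟨s, hs, rfl⟩
  · rintro ⟨s, hs, rfl⟩
    exact ⟨(el HeN.NW [s], el He85.NW [s]), ⟨s, hs, rfl⟩, rfl⟩

/-- The group `N0` is isomorphic to the group of degree `85`. -/
theorem nonempty_mulEquiv : Nonempty (N0 ≃* G85) := by
  obtain ⟨f, hf, -⟩ := PermChain.exists_hom_of_rel RelB relB_one relB_mul relB_inv relB_uniq gensB
    (by
      rintro p ⟨s, hs, rfl⟩
      exact relB_gen hs)
  have hA : Subgroup.closure (Prod.fst '' gensB) = N0 := by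
    rw [fst_gensB]
    rfl
  have hB : Subgroup.closure (Prod.snd '' gensB) = G85 := by
    rw [snd_gensB]
    rfl
  have hcA : Nat.card (Subgroup.closure (Prod.fst '' gensB)) = 979200 := by
    rw [hA]
    exact card_N0
  have hcB : Nat.card (Subgroup.closure (Prod.snd '' gensB)) = 979200 := by
    rw [hB]
    exact card_G85
  have : Finite (Subgroup.closure (Prod.fst '' gensB)) := by
    rw [hA]
    exact finiteN0
  have hbij : Function.Bijective f := hf.bijective_of_nat_card_le (by rw [hcA, hcB])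
  have e1 : Subgroup.closure (Prod.fst '' gensB) ≃* Subgroup.closure (Prod.snd '' gensB) :=
    MulEquiv.ofBijective f hbij
  exact ⟨(MulEquiv.subgroupCongr hA).symm.trans (e1.trans (MulEquiv.subgroupCongr hB))⟩

end Cfsg.Agent.Helper72.HeBlk
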