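import Cfsg.Agent.Lib.Helper72.HeCentData

/-!
# Kernel check (chunk M1) for the centraliser of an involution in the Held group
-/

set_option autoImplicit false
set_option maxRecDepth 1000000
set_option maxHeartbeats 0

namespace Cfsg.Agent.Helper72.HeCentChk

open Cfsg.Agent.Helper72.PermNet Cfsg.Agent.Helper72.TCNet Cfsg.Agent.Helper72.HeCentData

theorem hm_1 : (mchunks.getD 1 []).map sigOf = msigL.getD 1 [] := by decide +kernel

end Cfsg.Agent.Helper72.HeCentChk
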