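import Cfsg.Agent.Lib.Helper72.HeCentChkA
import Cfsg.Agent.Lib.Helper72.HeCentChkM0
import Cfsg.Agent.Lib.Helper72.HeCentChkM3
import Cfsg.Agent.Lib.Helper72.HeCentChkM6
import Cfsg.Agent.Lib.Helper72.HeCentChkM9
import Cfsg.Agent.Lib.Helper72.HeCentChkM12
import Cfsg.Agent.Lib.Helper72.HeCentChkM15
import Cfsg.Agent.Lib.Helper72.HeCentChkC1
import Cfsg.Agent.Lib.Helper72.HeCentChkC4
import Cfsg.Agent.Lib.Helper72.HeCentChkC7
import Cfsg.Agent.Lib.Helper72.HeCentChkM1
import Cfsg.Agent.Lib.Helper72.HeCentChkM4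
import Cfsg.Agent.Lib.Helper72.HeCentChkM7
import Cfsg.Agent.Lib.Helper72.HeCentChkM10
import Cfsg.Agent.Lib.Helper72.HeCentChkM13
import Cfsg.Agent.Lib.Helper72.HeCentChkM16
import Cfsg.Agent.Lib.Helper72.HeCentChkC2
import Cfsg.Agent.Lib.Helper72.HeCentChkC5
import Cfsg.Agent.Lib.Helper72.HeCentChkM2
import Cfsg.Agent.Lib.Helper72.HeCentChkM5
import Cfsg.Agent.Lib.Helper72.HeCentChkM8
import Cfsg.Agent.Lib.Helper72.HeCentChkM11
import Cfsg.Agent.Lib.Helper72.HeCentChkM14
import Cfsg.Agent.Lib.Helper72.HeCentChkC0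
import Cfsg.Agent.Lib.Helper72.HeCentChkC3
import Cfsg.Agent.Lib.Helper72.HeCentChkC6

/-!
# All the kernel checks for the centraliser of an involution in the Held group
-/

set_option autoImplicit false
set_option maxRecDepth 1000000
set_option maxHeartbeats 0

namespace Cfsg.Agent.Helper72.HeCentChk

open Cfsg.Agent.Helper72.PermNet Cfsg.Agent.Helper72.TCNet Cfsg.Agent.Helper72.HeCentData

theorem hmAll : ∀ i < 17, (mchunks.getD i []).map sigOf = msigL.getD i [] := by
  intro i hi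
  interval_cases i
  · exact hm_0
  · exact hm_1
  · exact hm_2
  · exact hm_3
  · exact hm_4
  · exact hm_5
  · exact hm_6
  · exact hm_7
  · exact hm_8
  · exact hm_9
  · exact hm_10
  · exact hm_11
  · exact hm_12
  · exact hm_13
  · exact hm_14
  · exact hm_15
  · exact hm_16

theorem hcAll : ∀ i < 8, (cchunks.getD i []).map (fun w => fpW (conjW w 3)) = csigL.getD i [] := by
  intro i hi
  interval_cases i
  · exact hc_0
  · exact hc_1
  · exact hc_2
  · exact hc_3
  · exact hc_4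
  · exact hc_5
  · exact hc_6
  · exact hc_7

end Cfsg.Agent.Helper72.HeCentChk
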