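import Cfsg.Agent.Lib.Helper72.HePres
import Cfsg.Agent.Lib.Helper72.HeCentChk
import Cfsg.Agent.Lib.Helper72.HeCentMLog0
import Cfsg.Agent.Lib.Helper5.HECDATA
import Cfsg.Agent.Lib.Helper5.HECU16
import Cfsg.Agent.Lib.Helper86.HECCNT
import Cfsg.Agent.Lib.Helper89.HECISO

/-!
# The centraliser of an involution in the presented Held group

The involution is the generator `e` of the presentation.  Its centraliser is identified with the centraliser
of a transvection in `SL5(2)` from computed data in the permutation representation on `2058` points: an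
elementary abelian subgroup `U` of order `16`, a complement `M` of order `1344` acting faithfully on `U`,
and a count of conjugates which bounds the order of the centraliser by `21504`.
-/

set_option autoImplicit false

namespace Cfsg.Agent.Helper72.HeCent

open Cfsg.Agent.Helper72.PermNet Cfsg.Agent.Helper72.TCC Cfsg.Agent.Helper72.TCNet
open Cfsg.Agent.Helper72.HePresPerm Cfsg.Agent.Helper72.HeCentData Cfsg.Agent.Helper72.HeCentChk
open Cfsg.Agent.Helper72.HePres Cfsg.Spor

/-! ### Generalities on lists -/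

theorem chainLt_pairwise : ∀ l : List ℕ, chainLt l = true → l.Pairwise (· < ·)
  | [], _ => List.Pairwise.nil
  | [a], _ => List.pairwise_singleton _ _
  | a :: b :: l, h => by
    rw [chainLt, Bool.and_eq_true, decide_eq_true_eq] at h
    have ih := chainLt_pairwise (b :: l) h.2
    refine List.pairwise_cons.2 ⟨?_, ih⟩
    intro c hc
    rcases List.mem_cons.1 hc with rfl | hc
    · exact h.1
    · exact lt_trans h.1 ((List.pairwise_cons.1 ih).1 c hc)

theorem getD_inj_of_chainLt {l : List ℕ} (h : chainLt l = true) {i j : ℕ} (hi : i < l.length)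
    (hj : j < l.length) (e : l.getD i 0 = l.getD j 0) : i = j := by
  have hp := List.pairwise_iff_getElem.1 (chainLt_pairwise l h)
  rw [List.getD_eq_getElem _ _ hi, List.getD_eq_getElem _ _ hj] at e
  rcases lt_trichotomy i j with hij | hij | hij
  · exact absurd e (ne_of_lt (hp i j hi hj hij))
  · exact hij
  · exact absurd e.symm (ne_of_lt (hp j i hj hi hij))

theorem flatten_map_eq {α β : Type*} (f : α → β) : ∀ (L : List (List α)) (R : List (List β)),
    L.length = R.length → (∀ i < L.length, (L.getD i []).map f = R.getD i []) →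
    L.flatten.map f = R.flatten
  | [], R, hlen, _ => by
    have : R = [] := List.length_eq_zero_iff.1 hlen.symm
    subst this
    rfl
  | a :: L, [], hlen, _ => by simp at hlen
  | a :: L, b :: R, hlen, h => by
    have h0 := h 0 (by simp)
    simp only [List.getD_cons_zero] at h0
    have ih := flatten_map_eq f L R (by simpa using hlen) (fun i hi => by
      have := h (i + 1) (by simpa using hi)
      simpa only [List.getD_cons_succ] using this)
    rw [List.flatten_cons, List.flatten_cons, List.map_append, h0, ih]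

theorem testBit_foldl_or (g : ℕ → ℕ) (p : ℕ) : ∀ (l : List ℕ) (acc : ℕ),
    (l.foldl (fun acc j => acc ||| g j) acc).testBit p =
      (acc.testBit p || l.any (fun j => (g j).testBit p))
  | [], acc => by simp
  | a :: l, acc => by
    rw [List.foldl_cons, testBit_foldl_or g p l, Nat.testBit_or, List.any_cons, Bool.or_assoc]

/-! ### The two lists of networks -/

theorem hNWcLen : NWc.length = 9 := by decide +kernel

theorem getD_NWd {a : ℕ} (ha : a < 9) : NWd.getD a [] = NWc.getD a [] := by
  unfold NWd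
  rw [List.getD_append _ _ _ _ (by rw [hNWcLen]; exact ha)]

theorem el_NWd_one {a : ℕ} (ha : a < 9) : el NWd [a] = el NWc [a] := by
  unfold el wordSt wordSt
  rw [getD_NWd ha]

theorem el_NWd {w : List ℕ} (hw : ∀ a ∈ w, a < 9) : el NWd w = el NWc w := by
  induction w with
  | nil => rfl
  | cons a w ih =>
    rw [el_cons, el_cons (NW := NWc), el_NWd_one (hw a List.mem_cons_self),
      ih (fun b hb => hw b (List.mem_cons_of_mem _ hb))]

/-! ### The presented group and the permutation group -/

theorem card_range : Nat.card Φ.range = 4030387200 := by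
  have hfinR : Finite Φ.range := Finite.of_surjective _ Φ.rangeRestrict_surjective
  have h1 : Nat.card Φ.range ≤ Nat.card Spor.He :=
    Nat.card_le_card_of_surjective _ Φ.rangeRestrict_surjective
  have h2 : Nat.card HeMain.G ≤ Nat.card Φ.range := Subgroup.card_le_of_le G_le
  rw [HeMain.card_G] at h2
  exact le_antisymm (h1.trans card_le) h2

theorem range_eq : Φ.range = HeMain.G := by
  have hfinR : Finite Φ.range := Finite.of_surjective _ Φ.rangeRestrict_surjective
  exact (Subgroup.eq_of_le_of_card_ge G_le (by rw [HeMain.card_G, card_range])).symm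

theorem Φ_injective : Function.Injective Φ := by
  have hbij : Function.Bijective Φ.rangeRestrict :=
    Φ.rangeRestrict_surjective.bijective_of_nat_card_le (by rw [HePres.main.2, card_range])
  intro a b hab
  exact hbij.1 (Subtype.ext hab)

theorem Φ_mem (g : Spor.He) : Φ g ∈ HeMain.G := by
  rw [← range_eq]
  exact ⟨g, rfl⟩

/-! ### Letters and words -/

/-- The letters in use: the seven generators and the twenty new letters. -/
def okL (a : ℕ) : Prop := a < 7 ∨ (9 ≤ a ∧ a < 29)

/-- The element of a word in the seven generators. -/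
noncomputable def ofW (w : List ℕ) : Spor.He := (w.map x).prod

/-- The element of a letter. -/
noncomputable def y (a : ℕ) : Spor.He := if a < 9 then x a else ofW (linkW.getD (a - 9) [])

/-- The element of a word. -/
noncomputable def ofY (w : List ℕ) : Spor.He := (w.map y).prod

theorem ofY_nil : ofY [] = 1 := rfl

theorem ofY_cons (a : ℕ) (w : List ℕ) : ofY (a :: w) = y a * ofY w := by
  unfold ofY
  rw [List.map_cons, List.prod_cons]

theorem ofY_append (w1 w2 : List ℕ) : ofY (w1 ++ w2) = ofY w1 * ofY w2 := by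
  unfold ofY
  rw [List.map_append, List.prod_append]

theorem ofY_one (a : ℕ) : ofY [a] = y a := by rw [ofY_cons, ofY_nil, mul_one]

theorem hlink {i : ℕ} (hi : i < 20) : isOne 12 NWd ((9 + i) :: linkW.getD i []) = true := by
  rcases Nat.lt_or_ge i 5 with h | h
  · exact List.all_eq_true.1 HeCentChk.hlinkA i (by rw [List.mem_range'_1]; omega)
  rcases Nat.lt_or_ge i 13 with h' | h'
  · exact List.all_eq_true.1 HeCentChk.hlinkB i (by rw [List.mem_range'_1]; omega)
  · exact List.all_eq_true.1 HeCentChk.hlinkC i (by rw [List.mem_range'_1]; omega)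

theorem hinv {a : ℕ} (ha : okL a) : el NWd [a] * el NWd [a] = 1 := by
  have hm : a ∈ (List.range 7) ++ (List.range' 9 20) := by
    rw [List.mem_append, List.mem_range, List.mem_range'_1]
    rcases ha with h | h
    · exact Or.inl h
    · exact Or.inr ⟨h.1, by omega⟩
  have := el_eq_one hNWd (List.all_eq_true.1 hinvL a hm)
  rwa [el_cons] at this

theorem el_inv {a : ℕ} (ha : okL a) : (el NWd [a])⁻¹ = el NWd [a] :=
  inv_eq_of_mul_eq_one_right (hinv ha)

theorem linkW_lt {i : ℕ} (hi : i < 20) : ∀ a ∈ linkW.getD i [], a < 7 := by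
  intro a ha
  have hi' : i < linkW.length := by rw [hlinkLen]; exact hi
  rw [List.getD_eq_getElem _ _ hi'] at ha
  have := List.all_eq_true.1 (List.all_eq_true.1 hlinkLt _ (List.getElem_mem hi')) a ha
  simpa using this

theorem Φ_y {a : ℕ} (ha : okL a) : Φ (y a) = el NWd [a] := by
  rcases ha with h | h
  · unfold y
    rw [if_pos (by omega), Φ_x h, el_NWd_one (by omega)]
  · unfold y
    rw [if_neg (by omega)]
    have hi : a - 9 < 20 := by omega
    unfold ofW
    rw [Φ_word (linkW_lt hi), ← el_NWd (fun b hb => by have := linkW_lt hi b hb; omega)]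
    have h1 := el_eq_one hNWd (hlink hi)
    rw [show 9 + (a - 9) = a by omega, el_cons] at h1
    have h2 := hinv (Or.inr h : okL a)
    exact (mul_left_cancel (h1.trans h2.symm))

attribute [irreducible] y

theorem Φ_ofY {w : List ℕ} (hw : ∀ a ∈ w, okL a) : Φ (ofY w) = el NWd w := by
  induction w with
  | nil => rw [ofY_nil, map_one, el_nil]
  | cons a w ih =>
    rw [ofY_cons, map_mul, Φ_y (hw a List.mem_cons_self),
      ih (fun b hb => hw b (List.mem_cons_of_mem _ hb)), ← el_cons]

theorem ofY_eq_one {w : List ℕ} (hw : ∀ a ∈ w, okL a) (h : isOne 12 NWd w = true) : ofY w = 1 := by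
  apply Φ_injective
  rw [Φ_ofY hw, el_eq_one hNWd h, map_one]

theorem y_sq {a : ℕ} (ha : okL a) : y a * y a = 1 := by
  apply Φ_injective
  rw [map_mul, Φ_y ha, hinv ha, map_one]

theorem y_inv {a : ℕ} (ha : okL a) : (y a)⁻¹ = y a := inv_eq_of_mul_eq_one_right (y_sq ha)

theorem ofY_reverse {w : List ℕ} (hw : ∀ a ∈ w, okL a) : ofY w.reverse = (ofY w)⁻¹ := by
  induction w with
  | nil => rw [List.reverse_nil, ofY_nil, inv_one]
  | cons a w ih =>
    rw [List.reverse_cons, ofY_append, ih (fun b hb => hw b (List.mem_cons_of_mem _ hb)), ofY_one,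
      ofY_cons, mul_inv_rev, y_inv (hw a List.mem_cons_self)]

theorem el_reverse {w : List ℕ} (hw : ∀ a ∈ w, okL a) : el NWd w.reverse = (el NWd w)⁻¹ := by
  rw [← Φ_ofY hw, ← map_inv, ← ofY_reverse hw, Φ_ofY]
  intro a ha
  exact hw a (List.mem_reverse.1 ha)

theorem ofY_conjW {w : List ℕ} (hw : ∀ a ∈ w, okL a) (a : ℕ) :
    ofY (conjW w a) = ofY w * y a * (ofY w)⁻¹ := by
  unfold conjW
  rw [ofY_append, ofY_cons, ofY_reverse hw, mul_assoc]

theorem el_conjW {w : List ℕ} (hw : ∀ a ∈ w, okL a) (a : ℕ) :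
    el NWd (conjW w a) = el NWd w * el NWd [a] * (el NWd w)⁻¹ := by
  unfold conjW
  rw [el_append, el_cons, el_reverse hw, mul_assoc]

theorem fpW_eq_of_el_eq {w1 w2 : List ℕ} (h : el NWd w1 = el NWd w2) : fpW w1 = fpW w2 := by
  unfold fpW
  congr 1
  apply Nat.eq_of_testBit_eq
  intro p
  rw [testBit_applyWs hNWd, testBit_applyWs hNWd, h]

theorem fpW_eq_of_ofY_eq {w1 w2 : List ℕ} (h1 : ∀ a ∈ w1, okL a) (h2 : ∀ a ∈ w2, okL a)
    (h : ofY w1 = ofY w2) : fpW w1 = fpW w2 :=
  fpW_eq_of_el_eq (by rw [← Φ_ofY h1, ← Φ_ofY h2, h])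

theorem okL_conjW {w : List ℕ} (hw : ∀ a ∈ w, okL a) {a : ℕ} (ha : okL a) :
    ∀ b ∈ conjW w a, okL b := by
  intro b hb
  unfold conjW at hb
  rw [List.mem_append, List.mem_cons, List.mem_reverse] at hb
  rcases hb with hb | rfl | hb
  · exact hw b hb
  · exact ha
  · exact hw b hb

/-! ### The involution -/

/-- The involution. -/
noncomputable def ζ : Spor.He := y 3

theorem ok3 : okL 3 := Or.inl (by norm_num)
theorem ok6 : okL 6 := Or.inl (by norm_num)
theorem ok12 : okL 12 := Or.inr (by norm_num)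
theorem ok13 : okL 13 := Or.inr (by norm_num)
theorem ok9 : okL 9 := Or.inr (by norm_num)
theorem ok10 : okL 10 := Or.inr (by norm_num)
theorem ok11 : okL 11 := Or.inr (by norm_num)

theorem ζ_ne_one : ζ ≠ 1 := by
  intro h
  have h1 : ofY [3] = ofY [] := by rw [ofY_one, ofY_nil]; exact h
  have h2 := fpW_eq_of_ofY_eq (w1 := [3]) (w2 := []) (by intro a ha; rw [List.mem_singleton] at ha; rw [ha]; exact ok3)
    (by intro a ha; simp at ha) h1
  have h3 := hzne
  rw [bne_iff_ne] at h3
  exact h3 h2

theorem orderOf_ζ : orderOf ζ = 2 := by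
  have : Fact (Nat.Prime 2) := ⟨Nat.prime_two⟩
  apply orderOf_eq_prime _ ζ_ne_one
  rw [pow_two]
  exact y_sq ok3

theorem comm_of_sq {G : Type*} [Group G] {a b : G} (ha : a * a = 1) (hb : b * b = 1)
    (h : a * (b * (a * (b * 1))) = 1) : a * b = b * a := by
  have ha' : a⁻¹ = a := inv_eq_of_mul_eq_one_right ha
  have hb' : b⁻¹ = b := inv_eq_of_mul_eq_one_right hb
  have h1 : (a * b) * (a * b) = 1 := by simpa [mul_assoc] using h
  calc a * b = (a * b)⁻¹ := (inv_eq_of_mul_eq_one_right h1).symm
    _ = b * a := by rw [mul_inv_rev, ha', hb']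

theorem y_comm {a b : ℕ} (ha : okL a) (hb : okL b) (h : [a, b, a, b] ∈ relU) : y a * y b = y b * y a := by
  have h1 := ofY_eq_one (w := [a, b, a, b]) (by
    intro c hc
    simp only [List.mem_cons, List.not_mem_nil, or_false] at hc
    rcases hc with rfl | rfl | rfl | rfl <;> assumption) (List.all_eq_true.1 hrelU _ h)
  rw [ofY_cons, ofY_cons, ofY_cons, ofY_cons, ofY_nil] at h1
  exact comm_of_sq (y_sq ha) (y_sq hb) h1

/-! ### The subgroup `U` -/

/-- The generators of `U`. -/
noncomputable def uP : Fin 4 → Spor.He := ![y 3, y 6, y 12, y 13]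

/-- The elementary abelian subgroup of order `16`. -/
noncomputable def U : Subgroup Spor.He := Subgroup.closure (Set.range uP)

theorem uP_sq (i : Fin 4) : uP i * uP i = 1 := by
  fin_cases i
  · exact y_sq ok3
  · exact y_sq ok6
  · exact y_sq ok12
  · exact y_sq ok13

theorem uP_comm (i j : Fin 4) : uP i * uP j = uP j * uP i := by
  have h36 := y_comm ok3 ok6 (by decide)
  have h312 := y_comm ok3 ok12 (by decide)
  have h313 := y_comm ok3 ok13 (by decide)
  have h612 := y_comm ok6 ok12 (by decide)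
  have h613 := y_comm ok6 ok13 (by decide)
  have h1213 := y_comm ok12 ok13 (by decide)
  fin_cases i <;> fin_cases j <;> first | rfl | assumption | (symm; assumption)

theorem U_four : Finite ↥U ∧ Nat.card ↥U ≤ 16 ∧ (∀ a ∈ U, ∀ b ∈ U, a * b = b * a) ∧
    (∀ a ∈ U, a * a = 1) :=
  let h := Cfsg.Agent.Helper5.HEC.closure_four uP uP_sq uP_comm
  ⟨h.1, h.2.1, h.2.2.1, h.2.2.2.1⟩

theorem mem_U_of_letter {a : ℕ} (ha : a = 3 ∨ a = 6 ∨ a = 12 ∨ a = 13) : y a ∈ U := by
  apply Subgroup.subset_closure
  rcases ha with rfl | rfl | rfl | rfl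
  · exact ⟨0, rfl⟩
  · exact ⟨1, rfl⟩
  · exact ⟨2, rfl⟩
  · exact ⟨3, rfl⟩

theorem okL_of_uLetter {a : ℕ} (ha : a = 3 ∨ a = 6 ∨ a = 12 ∨ a = 13) : okL a := by
  rcases ha with rfl | rfl | rfl | rfl
  · exact ok3
  · exact ok6
  · exact ok12
  · exact ok13

theorem ofY_mem_U {w : List ℕ} (hw : ∀ a ∈ w, a = 3 ∨ a = 6 ∨ a = 12 ∨ a = 13) : ofY w ∈ U := by
  induction w with
  | nil => exact U.one_mem
  | cons a w ih =>
    rw [ofY_cons]
    exact U.mul_mem (mem_U_of_letter (hw a List.mem_cons_self))
      (ih (fun b hb => hw b (List.mem_cons_of_mem _ hb)))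

theorem uw16_letters {i : ℕ} (hi : i < 16) : ∀ a ∈ uw16.getD i [], a = 3 ∨ a = 6 ∨ a = 12 ∨ a = 13 := by
  intro a ha
  have hi' : i < uw16.length := by rw [huLen]; exact hi
  rw [List.getD_eq_getElem _ _ hi'] at ha
  have := List.all_eq_true.1 (List.all_eq_true.1 huLet _ (List.getElem_mem hi')) a ha
  simp only [Bool.or_eq_true, beq_iff_eq] at this
  omega

theorem card_U : Nat.card U = 16 := by
  have : Finite U := U_four.1
  apply le_antisymm U_four.2.1
  let g : Fin 16 → U := fun i => ⟨ofY (uw16.getD i []), ofY_mem_U (uw16_letters i.2)⟩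
  have hg : Function.Injective g := by
    intro i j hij
    have h1 : ofY (uw16.getD i []) = ofY (uw16.getD j []) := congrArg Subtype.val hij
    have h2 := fpW_eq_of_ofY_eq (fun a ha => okL_of_uLetter (uw16_letters i.2 a ha))
      (fun a ha => okL_of_uLetter (uw16_letters j.2 a ha)) h1
    have hlen : ufpL.length = 16 := by rw [← hufp, List.length_map, huLen]
    have h3 : ∀ k : ℕ, fpW (uw16.getD k []) = ufpL.getD k (fpW []) := by
      intro k
      rw [← hufp, List.getD_map]
    rw [h3, h3] at h2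
    have hi : (i : ℕ) < ufpL.length := by rw [hlen]; exact i.2
    have hj : (j : ℕ) < ufpL.length := by rw [hlen]; exact j.2
    rw [List.getD_eq_getElem _ _ hi, List.getD_eq_getElem _ _ hj,
      ← List.getD_eq_getElem _ 0 hi, ← List.getD_eq_getElem _ 0 hj] at h2
    exact Fin.ext (getD_inj_of_chainLt hufpChain hi hj h2)
  have := Nat.card_le_card_of_injective g hg
  simpa using this

theorem ζ_mem_U : ζ ∈ U := mem_U_of_letter (Or.inl rfl)

theorem U_le : U ≤ Subgroup.centralizer ({ζ} : Set Spor.He) := by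
  intro g hg
  rw [Subgroup.mem_centralizer_iff]
  intro h hh
  rw [Set.mem_singleton_iff] at hh
  subst hh
  exact U_four.2.2.1 _ ζ_mem_U _ hg

/-! ### The subgroup `M` -/

/-- The generators of `M`, numbered from `0`. -/
noncomputable def xM (g : ℕ) : Spor.He := if g < 3 then y (g + 9) else 1

/-- The complement. -/
noncomputable def M : Subgroup Spor.He := Subgroup.closure (xM '' {g | g < 3})

theorem xM_sq (g : ℕ) : xM g * xM g = 1 := by
  unfold xM
  split_ifs with h
  · exact y_sq (Or.inr (by omega))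
  · exact one_mul 1

theorem okL_of_mLetter {a : ℕ} (ha : a = 9 ∨ a = 10 ∨ a = 11) : okL a := by
  rcases ha with rfl | rfl | rfl
  · exact ok9
  · exact ok10
  · exact ok11

theorem y_mem_M {a : ℕ} (ha : a = 9 ∨ a = 10 ∨ a = 11) : y a ∈ M := by
  apply Subgroup.subset_closure
  refine ⟨a - 9, ?_, ?_⟩
  · show a - 9 < 3
    omega
  · unfold xM
    rw [if_pos (by omega), show a - 9 + 9 = a by omega]

theorem ofY_mem_M {w : List ℕ} (hw : ∀ a ∈ w, a = 9 ∨ a = 10 ∨ a = 11) : ofY w ∈ M := by
  induction w with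
  | nil => exact M.one_mem
  | cons a w ih =>
    rw [ofY_cons]
    exact M.mul_mem (y_mem_M (hw a List.mem_cons_self))
      (ih (fun b hb => hw b (List.mem_cons_of_mem _ hb)))

theorem hbaseEq : HeCentM.base0.map (List.map (· + 9)) = relM := by decide +kernel

theorem hbaseLt : HeCentM.base0.all (fun r => r.all (fun g => decide (g < 3))) = true := by
  decide +kernel

theorem map_xM {r : List ℕ} (hr : ∀ g ∈ r, g < 3) : (r.map xM).prod = ofY (r.map (· + 9)) := by
  induction r with
  | nil => rfl
  | cons a r ih =>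
    rw [List.map_cons, List.prod_cons, List.map_cons, ofY_cons,
      ih (fun b hb => hr b (List.mem_cons_of_mem _ hb))]
    congr 1
    unfold xM
    rw [if_pos (hr a List.mem_cons_self)]

theorem relM_one {r : List ℕ} (hr : r ∈ relM) : isOne 12 NWd r = true := by
  rw [← List.take_append_drop 20 relM, List.mem_append] at hr
  rcases hr with hr | hr
  · exact List.all_eq_true.1 hrelMa r hr
  · exact List.all_eq_true.1 hrelMb r hr

theorem hrelBase : ∀ r ∈ HeCentM.base0, (r.map xM).prod = 1 := by
  intro r hr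
  have hlt : ∀ g ∈ r, g < 3 := by
    intro g hg
    have := List.all_eq_true.1 (List.all_eq_true.1 hbaseLt r hr) g hg
    simpa using this
  rw [map_xM hlt]
  apply ofY_eq_one
  · intro a ha
    rw [List.mem_map] at ha
    obtain ⟨g, hg, rfl⟩ := ha
    have := hlt g hg
    exact Or.inr (by omega)
  · apply relM_one
    rw [← hbaseEq]
    exact List.mem_map_of_mem hr

theorem M_fin : Finite M ∧ Nat.card M ≤ 1344 := by
  obtain ⟨w, hw⟩ := HeCentM.lv0_cover (⊥ : Subgroup Spor.He) xM xM_sq hrelBase (by intro g hg; omega)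
  have := card_le_of_cover (⊥ : Subgroup Spor.He) M 1344 w hw
  rw [Subgroup.card_bot, mul_one] at this
  exact this

/-! ### `M` normalises `U` and centralises the involution -/

theorem conj_of_normW {j l : ℕ} {r : List ℕ} (hj : okL j) (hl : okL l)
    (hr : ∀ a ∈ r, a = 3 ∨ a = 6 ∨ a = 12 ∨ a = 13) (h : j :: l :: j :: r ∈ normW) :
    y j * y l * (y j)⁻¹ ∈ U := by
  have h1 := ofY_eq_one (w := j :: l :: j :: r) (by
    intro c hc
    simp only [List.mem_cons] at hc
    rcases hc with rfl | rfl | rfl | hc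
    · exact hj
    · exact hl
    · exact hj
    · exact okL_of_uLetter (hr c hc)) (List.all_eq_true.1 hnormW _ h)
  rw [ofY_cons, ofY_cons, ofY_cons] at h1
  have h2 : y j * y l * (y j)⁻¹ = (ofY r)⁻¹ := by
    rw [y_inv hj]
    apply eq_inv_of_mul_eq_one_left
    rw [← h1]
    simp only [mul_assoc]
  rw [h2]
  exact U.inv_mem (ofY_mem_U hr)

theorem conj_gen_mem {j l : ℕ} (hj : j = 9 ∨ j = 10 ∨ j = 11) (hl : l = 3 ∨ l = 6 ∨ l = 12 ∨ l = 13) :
    y j * y l * (y j)⁻¹ ∈ U := by
  rcases hj with rfl | rfl | rfl <;> rcases hl with rfl | rfl | rfl | rfl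
  · exact conj_of_normW ok9 ok3 (r := [3]) (by decide) (by decide)
  · exact conj_of_normW ok9 ok6 (r := [6, 3]) (by decide) (by decide)
  · exact conj_of_normW ok9 ok12 (r := [12]) (by decide) (by decide)
  · exact conj_of_normW ok9 ok13 (r := [13, 12, 3]) (by decide) (by decide)
  · exact conj_of_normW ok10 ok3 (r := [3]) (by decide) (by decide)
  · exact conj_of_normW ok10 ok6 (r := [6]) (by decide) (by decide)
  · exact conj_of_normW ok10 ok12 (r := [13, 6]) (by decide) (by decide)
  · exact conj_of_normW ok10 ok13 (r := [12, 6]) (by decide) (by decide)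
  · exact conj_of_normW ok11 ok3 (r := [3]) (by decide) (by decide)
  · exact conj_of_normW ok11 ok6 (r := [13, 12, 6, 3]) (by decide) (by decide)
  · exact conj_of_normW ok11 ok12 (r := [13, 3]) (by decide) (by decide)
  · exact conj_of_normW ok11 ok13 (r := [12, 3]) (by decide) (by decide)

theorem conj_mem_U {j : ℕ} (hj : j = 9 ∨ j = 10 ∨ j = 11) : ∀ u ∈ U, y j * u * (y j)⁻¹ ∈ U := by
  intro u hu
  refine Subgroup.closure_induction (p := fun u _ => y j * u * (y j)⁻¹ ∈ U) ?_ ?_ ?_ ?_ hu
  · rintro _ ⟨i, rfl⟩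
    fin_cases i
    · exact conj_gen_mem hj (Or.inl rfl)
    · exact conj_gen_mem hj (Or.inr (Or.inl rfl))
    · exact conj_gen_mem hj (Or.inr (Or.inr (Or.inl rfl)))
    · exact conj_gen_mem hj (Or.inr (Or.inr (Or.inr rfl)))
  · rw [mul_one, mul_inv_cancel]
    exact U.one_mem
  · intro a b _ _ ha hb
    have e : y j * (a * b) * (y j)⁻¹ = (y j * a * (y j)⁻¹) * (y j * b * (y j)⁻¹) := by group
    rw [e]
    exact U.mul_mem ha hb
  · intro a _ ha
    have e : y j * a⁻¹ * (y j)⁻¹ = (y j * a * (y j)⁻¹)⁻¹ := by group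
    rw [e]
    exact U.inv_mem ha

theorem xM_eq {g : ℕ} (hg : g < 3) : xM g = y (g + 9) := by
  unfold xM
  rw [if_pos hg]

theorem hnorm : ∀ m ∈ M, ∀ u ∈ U, m * u * m⁻¹ ∈ U := by
  have key : ∀ m ∈ M, (∀ u ∈ U, m * u * m⁻¹ ∈ U) ∧ (∀ u ∈ U, m⁻¹ * u * m ∈ U) := by
    intro m hm
    refine Subgroup.closure_induction
      (p := fun m _ => (∀ u ∈ U, m * u * m⁻¹ ∈ U) ∧ (∀ u ∈ U, m⁻¹ * u * m ∈ U)) ?_ ?_ ?_ ?_ hm
    · rintro _ ⟨g, hg, rfl⟩
      have hg' : g < 3 := hg
      have hj : g + 9 = 9 ∨ g + 9 = 10 ∨ g + 9 = 11 := by omega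
      rw [xM_eq hg']
      refine ⟨conj_mem_U hj, ?_⟩
      intro u hu
      have := conj_mem_U hj u hu
      rw [y_inv (okL_of_mLetter hj)] at this ⊢
      exact this
    · refine ⟨fun u hu => by simpa using hu, fun u hu => by simpa using hu⟩
    · intro a b _ _ ha hb
      refine ⟨fun u hu => ?_, fun u hu => ?_⟩
      · have := ha.1 _ (hb.1 u hu)
        have e : a * b * u * (a * b)⁻¹ = a * (b * u * b⁻¹) * a⁻¹ := by group
        rw [e]
        exact this
      · have := hb.2 _ (ha.2 u hu)
        have e : (a * b)⁻¹ * u * (a * b) = b⁻¹ * (a⁻¹ * u * a) * b := by group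
        rw [e]
        exact this
    · intro a _ ha
      refine ⟨fun u hu => ?_, fun u hu => ?_⟩
      · have := ha.2 u hu
        rwa [inv_inv]
      · have := ha.1 u hu
        rwa [inv_inv]
  exact fun m hm => (key m hm).1

theorem M_le : M ≤ Subgroup.centralizer ({ζ} : Set Spor.He) := by
  unfold M
  rw [Subgroup.closure_le]
  rintro _ ⟨g, hg, rfl⟩
  have hg' : g < 3 := hg
  rw [xM_eq hg', SetLike.mem_coe, Subgroup.mem_centralizer_iff]
  intro h hh
  rw [Set.mem_singleton_iff] at hh
  subst hh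
  have hj : g = 0 ∨ g = 1 ∨ g = 2 := by omega
  rcases hj with rfl | rfl | rfl
  · exact (y_comm ok9 ok3 (by decide)).symm
  · exact (y_comm ok10 ok3 (by decide)).symm
  · exact (y_comm ok11 ok3 (by decide)).symm

/-! ### The `1344` elements of `M` -/

/-- The words of `M`. -/
def mWord (k : ℕ) : List ℕ := mchunks.flatten.getD k []

/-- The elements of `M`. -/
noncomputable def fM (k : Fin 1344) : Spor.He := ofY (mWord k)

theorem mchunks_len : mchunks.length = 17 := by
  unfold mchunks
  rw [List.length_map, hmLen.1]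

theorem hmapM : mchunks.flatten.map sigOf = msigL.flatten :=
  flatten_map_eq sigOf mchunks msigL (by rw [mchunks_len, hmLen.2.1])
    (fun i hi => hmAll i (by rwa [mchunks_len] at hi))

theorem mflat_len : mchunks.flatten.length = 1344 := by
  have := congrArg List.length hmapM
  rw [List.length_map, hmLen.2.2] at this
  exact this

theorem mWord_letters {k : ℕ} (hk : k < 1344) : ∀ a ∈ mWord k, a = 9 ∨ a = 10 ∨ a = 11 := by
  intro a ha
  have hk' : k < mchunks.flatten.length := by rw [mflat_len]; exact hk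
  unfold mWord at ha
  rw [List.getD_eq_getElem _ _ hk'] at ha
  have hmem : mchunks.flatten[k] ∈ mchunks.flatten := List.getElem_mem hk'
  rw [List.mem_flatten] at hmem
  obtain ⟨c, hc, hwc⟩ := hmem
  have := List.all_eq_true.1 (List.all_eq_true.1 (List.all_eq_true.1 hmLet c hc) _ hwc) a ha
  simp only [Bool.or_eq_true, beq_iff_eq] at this
  omega

theorem sig_mWord (k : ℕ) : sigOf (mWord k) = msigL.flatten.getD k (sigOf []) := by
  unfold mWord
  rw [← hmapM, List.getD_map]

theorem fM_mem (k : Fin 1344) : fM k ∈ M := ofY_mem_M (mWord_letters k.2)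

theorem fM_inj_action (k k' : Fin 1344)
    (h : ∀ u ∈ U, fM k * u * (fM k)⁻¹ = fM k' * u * (fM k')⁻¹) : k = k' := by
  have ok : ∀ a ∈ mWord k, okL a := fun a ha => okL_of_mLetter (mWord_letters k.2 a ha)
  have ok' : ∀ a ∈ mWord k', okL a := fun a ha => okL_of_mLetter (mWord_letters k'.2 a ha)
  have key : ∀ a, (a = 3 ∨ a = 6 ∨ a = 12 ∨ a = 13) →
      fpW (conjW (mWord k) a) = fpW (conjW (mWord k') a) := by
    intro a ha
    apply fpW_eq_of_ofY_eq (okL_conjW ok (okL_of_uLetter ha)) (okL_conjW ok' (okL_of_uLetter ha))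
    rw [ofY_conjW ok, ofY_conjW ok']
    exact h _ (mem_U_of_letter ha)
  have hsig : sigOf (mWord k) = sigOf (mWord k') := by
    unfold sigOf
    rw [key 3 (by simp), key 6 (by simp), key 12 (by simp), key 13 (by simp)]
  rw [sig_mWord, sig_mWord] at hsig
  have hlen : msigL.flatten.length = 1344 := hmLen.2.2
  have hi : (k : ℕ) < msigL.flatten.length := by rw [hlen]; exact k.2
  have hj : (k' : ℕ) < msigL.flatten.length := by rw [hlen]; exact k'.2
  rw [List.getD_eq_getElem _ _ hi, List.getD_eq_getElem _ _ hj,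
    ← List.getD_eq_getElem _ 0 hi, ← List.getD_eq_getElem _ 0 hj] at hsig
  exact Fin.ext (getD_inj_of_chainLt hmsigChain hi hj hsig)

theorem fM_734 : fM ⟨734, by norm_num⟩ = 1 := by
  show ofY (mWord 734) = 1
  have : mWord 734 = [] := by
    unfold mWord
    have hk' : 734 < mchunks.flatten.length := by rw [mflat_len]; norm_num
    rw [List.getD_eq_getElem _ _ hk', ← List.getD_eq_getElem _ [1] hk']
    exact hk0
  rw [this, ofY_nil]

theorem hint : U ⊓ M = ⊥ := by
  have : Finite M := M_fin.1
  let g : Fin 1344 → M := fun k => ⟨fM k, fM_mem k⟩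
  have hg : Function.Injective g := by
    intro k k' hkk
    have e : fM k = fM k' := congrArg Subtype.val hkk
    exact fM_inj_action k k' (fun u _ => by rw [e])
  have hbij : Function.Bijective g := hg.bijective_of_nat_card_le (by simpa using M_fin.2)
  rw [eq_bot_iff]
  intro a ha
  rw [Subgroup.mem_inf] at ha
  obtain ⟨k, hk⟩ := hbij.2 ⟨a, ha.2⟩
  have hak : fM k = a := congrArg Subtype.val hk
  rw [Subgroup.mem_bot]
  have := fM_inj_action k ⟨734, by norm_num⟩ (by
    intro u hu
    rw [fM_734, hak]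
    have hc := U_four.2.2.1 a ha.1 u hu
    calc a * u * a⁻¹ = u * a * a⁻¹ := by rw [hc]
      _ = u := by rw [mul_assoc, mul_inv_cancel, mul_one]
      _ = 1 * u * 1⁻¹ := by rw [one_mul, inv_one, mul_one])
  rw [← hak, this, fM_734]

/-! ### The order of the centraliser -/

/-- The involution as a permutation. -/
def ζP : Equiv.Perm ℕ := el NWd [3]

theorem Φ_ζ : Φ ζ = ζP := Φ_y ok3

theorem fix_letter {a : ℕ} (ha : a ∈ kLetters) : el NWd [a] 0 = 0 := by
  have h := List.all_eq_true.1 hfix0 a ha
  rw [testBit_applyWs hNWd] at h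
  exact Nat.testBit_one_eq_true_iff_self_eq_zero.1 h

theorem fix_word {w : List ℕ} (hw : ∀ a ∈ w, a ∈ kLetters) : el NWd w 0 = 0 := by
  induction w with
  | nil => rfl
  | cons a w ih =>
    rw [el_cons, Equiv.Perm.mul_apply, ih (fun b hb => hw b (List.mem_cons_of_mem _ hb)),
      fix_letter (hw a List.mem_cons_self)]

theorem okL_of_kLetter {a : ℕ} (ha : a ∈ kLetters) : okL a := by
  have := List.all_eq_true.1 hkLet a ha
  simp only [Bool.or_eq_true, Bool.and_eq_true, decide_eq_true_eq] at this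
  exact this

theorem el_mem_G {w : List ℕ} (hw : ∀ a ∈ w, okL a) : el NWd w ∈ HeMain.G := by
  rw [← Φ_ofY hw]
  exact Φ_mem _

/-- The conjugating words. -/
def cWord (i : ℕ) : List ℕ := cchunks.flatten.getD i []

/-- The conjugates of the involution. -/
def conjP (i : Fin 3825) : Equiv.Perm ℕ := el NWd (conjW (cWord i) 3)

theorem cchunks_len : cchunks.length = 8 := by
  unfold cchunks
  rw [List.length_map, hcLen.1]

theorem hmapC : cchunks.flatten.map (fun w => fpW (conjW w 3)) = csigL.flatten :=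
  flatten_map_eq _ cchunks csigL (by rw [cchunks_len, hcLen.2.1])
    (fun i hi => hcAll i (by rwa [cchunks_len] at hi))

theorem cflat_len : cchunks.flatten.length = 3825 := by
  have := congrArg List.length hmapC
  rw [List.length_map, hcLen.2.2] at this
  exact this

theorem cWord_letters {k : ℕ} (hk : k < 3825) : ∀ a ∈ cWord k, a ∈ kLetters := by
  intro a ha
  have hk' : k < cchunks.flatten.length := by rw [cflat_len]; exact hk
  unfold cWord at ha
  rw [List.getD_eq_getElem _ _ hk'] at ha
  have hmem : cchunks.flatten[k] ∈ cchunks.flatten := List.getElem_mem hk'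
  rw [List.mem_flatten] at hmem
  obtain ⟨c, hc, hwc⟩ := hmem
  have := List.all_eq_true.1 (List.all_eq_true.1 (List.all_eq_true.1 hcLet c hc) _ hwc) a ha
  simpa using this

theorem sig_cWord (k : ℕ) :
    fpW (conjW (cWord k) 3) = csigL.flatten.getD k (fpW (conjW [] 3)) := by
  unfold cWord
  rw [← hmapC, List.getD_map _ _ (fun w => fpW (conjW w 3))]

theorem hconj (i : Fin 3825) : ∃ k ∈ HeMain.K1, conjP i = k * ζP * k⁻¹ := by
  have hl := cWord_letters i.2
  have ok : ∀ a ∈ cWord i, okL a := fun a ha => okL_of_kLetter (hl a ha)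
  exact ⟨el NWd (cWord i), HeMain.mem_K1 (el_mem_G ok) (fix_word hl), el_conjW ok 3⟩

theorem conjP_injective : Function.Injective conjP := by
  intro i j hij
  have h := fpW_eq_of_el_eq (w1 := conjW (cWord i) 3) (w2 := conjW (cWord j) 3) hij
  rw [sig_cWord, sig_cWord] at h
  have hlen : csigL.flatten.length = 3825 := hcLen.2.2
  have hi : (i : ℕ) < csigL.flatten.length := by rw [hlen]; exact i.2
  have hj : (j : ℕ) < csigL.flatten.length := by rw [hlen]; exact j.2
  rw [List.getD_eq_getElem _ _ hi, List.getD_eq_getElem _ _ hj,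
    ← List.getD_eq_getElem _ 0 hi, ← List.getD_eq_getElem _ 0 hj] at h
  exact Fin.ext (getD_inj_of_chainLt hcsigChain hi hj h)

theorem hFfix : ∀ p < 2058, ζP p = p → p ∈ Fpts.toFinset := by
  intro p hp hfix
  rw [List.mem_toFinset]
  have h := List.all_eq_true.1 hF p (List.mem_range.2 hp)
  rw [Bool.or_eq_true] at h
  rcases h with h | h
  · simpa using h
  · exfalso
    rw [← hmoved] at h
    have h2 : movedMask.testBit p = ((0 : ℕ).testBit p || (List.range 12).any
        (fun j => (applyWs NWd [3] (cm 12 j) ^^^ cm 12 j).testBit p)) :=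
      testBit_foldl_or (fun j => applyWs NWd [3] (cm 12 j) ^^^ cm 12 j) p (List.range 12) 0
    rw [h2, Nat.zero_testBit, Bool.false_or, List.any_eq_true] at h
    obtain ⟨j, -, hj⟩ := h
    rw [Nat.testBit_xor, testBit_applyWs hNWd] at hj
    have e : el NWd [3] p = p := hfix
    rw [e] at hj
    simp at hj

theorem card_cent_perm :
    Nat.card ↥(HeMain.G ⊓ Subgroup.centralizer ({ζP} : Set (Equiv.Perm ℕ))) ≤ 21504 := by
  have hK : ∀ g : Equiv.Perm ℕ, g ∈ HeMain.K1 ↔ g ∈ HeMain.G ∧ g 0 = 0 :=
    fun g => ⟨fun h => ⟨HeMain.K1_le h, HeMain.K1_fix h⟩, fun h => HeMain.mem_K1 h.1 h.2⟩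
  have hζG : ζP ∈ HeMain.G := by
    have := Φ_mem ζ
    rwa [Φ_ζ] at this
  have hζK : ζP ∈ HeMain.K1 := HeMain.mem_K1 hζG (fix_letter (by decide))
  have h := Cfsg.Agent.Helper86.HEC.card_centralizer_mul_le HeMain.G HeMain.K1 hK ζP hζK 2058
    (fun g hg => HeMain.apply_zero_lt hg) Fpts.toFinset hFfix 3825 conjP hconj conjP_injective
  rw [HeMain.card_K1] at h
  have hFc : Fpts.toFinset.card ≤ 42 := by
    have := List.toFinset_card_le Fpts
    rwa [hFlen] at this
  have h3 : Nat.card ↥(HeMain.G ⊓ Subgroup.centralizer ({ζP} : Set (Equiv.Perm ℕ))) * 3825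
      ≤ 42 * 1958400 := h.trans (Nat.mul_le_mul_right _ hFc)
  exact Nat.le_of_mul_le_mul_right (c := 3825) (h3.trans (le_of_eq (by norm_num))) (by norm_num)

theorem card_cent : Nat.card ↥(Subgroup.centralizer ({ζ} : Set Spor.He)) ≤ 21504 := by
  have : Finite ↥(HeMain.G ⊓ Subgroup.centralizer ({ζP} : Set (Equiv.Perm ℕ))) :=
    Finite.of_injective (Subgroup.inclusion (inf_le_left :
      HeMain.G ⊓ Subgroup.centralizer ({ζP} : Set (Equiv.Perm ℕ)) ≤ HeMain.G))
      (Subgroup.inclusion_injective _)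
  let g : ↥(Subgroup.centralizer ({ζ} : Set Spor.He)) →
      ↥(HeMain.G ⊓ Subgroup.centralizer ({ζP} : Set (Equiv.Perm ℕ))) :=
    fun a => ⟨Φ a.1, Subgroup.mem_inf.2 ⟨Φ_mem a.1, by
      rw [Subgroup.mem_centralizer_iff]
      intro h hh
      rw [Set.mem_singleton_iff] at hh
      subst hh
      have ha := a.2
      rw [Subgroup.mem_centralizer_iff] at ha
      have e := congrArg Φ (ha ζ rfl)
      rw [map_mul, map_mul, Φ_ζ] at e
      exact e⟩⟩
  have hg : Function.Injective g := by
    intro a b hab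
    apply Subtype.ext
    apply Φ_injective
    exact congrArg Subtype.val hab
  exact (Nat.card_le_card_of_injective g hg).trans card_cent_perm

/-! ### The main theorem -/

/-- The centraliser of the involution `e` of the presented Held group is isomorphic to the centraliser of a
transvection in `SL5(2)`. -/
theorem main (s : Matrix.SpecialLinearGroup (Fin 5) (ZMod 2))
    (hs : (s : Matrix (Fin 5) (Fin 5) (ZMod 2)) = Matrix.transvection 0 1 1) :
    Nonempty (↥(Subgroup.centralizer ({ζ} : Set Spor.He)) ≃*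
      ↥(Subgroup.centralizer ({s} : Set (Matrix.SpecialLinearGroup (Fin 5) (ZMod 2))))) := by
  have hfin : Finite ↥(Subgroup.centralizer ({ζ} : Set Spor.He)) := inferInstance
  exact Cfsg.Agent.Helper5.HEC.iso_of_data ζ ζ_ne_one hfin card_cent U M U_le M_le ζ_mem_U
    U_four.2.2.1 U_four.2.2.2 card_U hnorm hint fM fM_mem fM_inj_action s hs
    (fun U' M' hcard hUn hUcomm hUexp hUcard hinf hsup hfaith z hzU hz1 hzc =>
      Cfsg.Agent.Helper89.HEC.iso_of_split hcard U' M' hUn hUcomm hUexp hUcard hinf hsup hfaith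
        z hzU hz1 hzc s hs)

end Cfsg.Agent.Helper72.HeCent
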