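import Cfsg.Agent.Lib.Helper72.HeCentData

/-!
# Kernel checks for the centraliser of an involution in the Held group (light ones)
-/

set_option autoImplicit false
set_option maxRecDepth 1000000
set_option maxHeartbeats 0

namespace Cfsg.Agent.Helper72.HeCentChk

open Cfsg.Agent.Helper72.PermNet Cfsg.Agent.Helper72.TCNet Cfsg.Agent.Helper72.HeCentData

theorem hNWd : NWd.all (netOK (2 ^ 12)) = true := by decide +kernel

theorem hnLet : NWd.length = 29 := by decide +kernel

theorem hinvL : ((List.range 7) ++ (List.range' 9 20)).all (fun a => isOne 12 NWd [a, a]) = true := by
  decide +kernel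

theorem hlinkLen : linkW.length = 20 := by decide +kernel

theorem hlinkLt : linkW.all (fun w => w.all (fun a => decide (a < 7))) = true := by decide +kernel

theorem hlinkA : (List.range' 0 5).all (fun i => isOne 12 NWd ((9 + i) :: linkW.getD i [])) = true := by
  decide +kernel

theorem hlinkB : (List.range' 5 8).all (fun i => isOne 12 NWd ((9 + i) :: linkW.getD i [])) = true := by
  decide +kernel

theorem hlinkC : (List.range' 13 7).all (fun i => isOne 12 NWd ((9 + i) :: linkW.getD i [])) = true := by
  decide +kernel

theorem hrelU : relU.all (isOne 12 NWd) = true := by decide +kernel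

theorem hnormW : normW.all (isOne 12 NWd) = true := by decide +kernel

theorem hrelMa : (relM.take 20).all (isOne 12 NWd) = true := by decide +kernel

theorem hrelMb : (relM.drop 20).all (isOne 12 NWd) = true := by decide +kernel

theorem hfix0 : kLetters.all (fun a => (applyWs NWd [a] 1).testBit 0) = true := by decide +kernel

theorem hzne : (fpW [3] != S0 % 2 ^ 256) = true := by decide +kernel

theorem hmoved : movedMask = MV := by decide +kernel

theorem hF : (List.range 2058).all (fun p => Fpts.contains p || MV.testBit p) = true := by decide +kernel

theorem hFlen : Fpts.length = 42 := by decide +kernel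

theorem hufp : uw16.map fpW = ufpL := by decide +kernel

theorem hufpChain : chainLt ufpL = true := by decide +kernel

theorem huLen : uw16.length = 16 := by decide +kernel

theorem huLet : uw16.all (fun w => w.all (fun a => a == 3 || a == 6 || a == 12 || a == 13)) = true := by
  decide +kernel

theorem hmsigChain : chainLt msigL.flatten = true := by decide +kernel

theorem hcsigChain : chainLt csigL.flatten = true := by decide +kernel

theorem hmLen : mchunksN.length = 17 ∧ msigL.length = 17 ∧ msigL.flatten.length = 1344 := by
  decide +kernel

theorem hcLen : cchunksN.length = 8 ∧ csigL.length = 8 ∧ csigL.flatten.length = 3825 := by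
  decide +kernel

theorem hmLet : mchunks.all (fun c => c.all (fun w => w.all (fun a => a == 9 || a == 10 || a == 11))) = true := by
  decide +kernel

theorem hcLet : cchunks.all (fun c => c.all (fun w => w.all (fun a => kLetters.contains a))) = true := by
  decide +kernel

theorem hkLet : kLetters.all (fun a => decide (a < 7) || (decide (9 ≤ a) && decide (a < 29))) = true := by
  decide +kernel

theorem hk0 : mchunks.flatten.getD 734 [1] = [] := by decide +kernel

end Cfsg.Agent.Helper72.HeCentChk
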