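import Cfsg.Agent.Lib.Helper72.HeNW
import Cfsg.Agent.Lib.Helper72.HeTab

/-!
# Checks of the chain for a permutation group of degree 2058 isomorphic to the Held group: products of generators and transversal elements, part 2
-/

set_option autoImplicit false

namespace Cfsg.Agent.Helper72.He

open Cfsg.Agent.Helper72.PermNet

set_option maxRecDepth 1000000 in
set_option maxHeartbeats 0 in
theorem cov_0_12 : (List.range' 1200 100).all (fun q => chkCov R X0 NW T 0 q) = true := by
  decide +kernel

set_option maxRecDepth 1000000 in
set_option maxHeartbeats 0 in
theorem cov_0_13 : (List.range' 1300 100).all (fun q => chkCov R X0 NW T 0 q) = true := by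
  decide +kernel

set_option maxRecDepth 1000000 in
set_option maxHeartbeats 0 in
theorem cov_0_14 : (List.range' 1400 100).all (fun q => chkCov R X0 NW T 0 q) = true := by
  decide +kernel

set_option maxRecDepth 1000000 in
set_option maxHeartbeats 0 in
theorem cov_0_15 : (List.range' 1500 100).all (fun q => chkCov R X0 NW T 0 q) = true := by
  decide +kernel

set_option maxRecDepth 1000000 in
set_option maxHeartbeats 0 in
theorem cov_0_16 : (List.range' 1600 100).all (fun q => chkCov R X0 NW T 0 q) = true := by
  decide +kernel

set_option maxRecDepth 1000000 in
set_option maxHeartbeats 0 in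
theorem cov_0_17 : (List.range' 1700 100).all (fun q => chkCov R X0 NW T 0 q) = true := by
  decide +kernel

end Cfsg.Agent.Helper72.He
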