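import Cfsg.Agent.Lib.Helper72.HeNW
import Cfsg.Agent.Lib.Helper72.HeTab

/-!
# Checks of the chain for a permutation group of degree 2058 isomorphic to the Held group: products of generators and transversal elements, part 4
-/

set_option autoImplicit false

namespace Cfsg.Agent.Helper72.He

open Cfsg.Agent.Helper72.PermNet

set_option maxRecDepth 1000000 in
set_option maxHeartbeats 0 in
theorem cov_0_24 : (List.range' 2400 100).all (fun q => chkCov R X0 NW T 0 q) = true := by
  decide +kernel

set_option maxRecDepth 1000000 in
set_option maxHeartbeats 0 in
theorem cov_0_25 : (List.range' 2500 100).all (fun q => chkCov R X0 NW T 0 q) = true := by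
  decide +kernel

set_option maxRecDepth 1000000 in
set_option maxHeartbeats 0 in
theorem cov_0_26 : (List.range' 2600 100).all (fun q => chkCov R X0 NW T 0 q) = true := by
  decide +kernel

set_option maxRecDepth 1000000 in
set_option maxHeartbeats 0 in
theorem cov_0_27 : (List.range' 2700 100).all (fun q => chkCov R X0 NW T 0 q) = true := by
  decide +kernel

set_option maxRecDepth 1000000 in
set_option maxHeartbeats 0 in
theorem cov_0_28 : (List.range' 2800 100).all (fun q => chkCov R X0 NW T 0 q) = true := by
  decide +kernel

set_option maxRecDepth 1000000 in
set_option maxHeartbeats 0 in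
theorem cov_0_29 : (List.range' 2900 100).all (fun q => chkCov R X0 NW T 0 q) = true := by
  decide +kernel

end Cfsg.Agent.Helper72.He
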