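import Cfsg.Agent.Lib.Helper72.HeNW
import Cfsg.Agent.Lib.Helper72.HeTab

/-!
# Checks of the chain for a permutation group of degree 2058 isomorphic to the Held group: paths, orbits, letters
-/

set_option autoImplicit false

namespace Cfsg.Agent.Helper72.He

open Cfsg.Agent.Helper72.PermNet

set_option maxRecDepth 1000000 in
set_option maxHeartbeats 0 in
theorem hpath_all : (List.range 10).all (fun i => (List.range (T.n i)).all (fun k =>
    chkPath T i k)) = true := by decide +kernel

set_option maxRecDepth 1000000 in
set_option maxHeartbeats 0 in
theorem hpts_all : (List.range 10).all (fun i => (List.range (T.n i)).all (fun k =>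
    chkPts NW T i k)) = true := by decide +kernel

set_option maxRecDepth 1000000 in
set_option maxHeartbeats 0 in
theorem hlet_0 : (List.range' 0 50).all (fun a => chkLetter R X0 NW T a) = true := by
  decide +kernel

set_option maxRecDepth 1000000 in
set_option maxHeartbeats 0 in
theorem hlet_1 : (List.range' 50 50).all (fun a => chkLetter R X0 NW T a) = true := by
  decide +kernel

set_option maxRecDepth 1000000 in
set_option maxHeartbeats 0 in
theorem hlet_2 : (List.range' 100 50).all (fun a => chkLetter R X0 NW T a) = true := by
  decide +kernel

set_option maxRecDepth 1000000 in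
set_option maxHeartbeats 0 in
theorem hlet_3 : (List.range' 150 40).all (fun a => chkLetter R X0 NW T a) = true := by
  decide +kernel

theorem hgens_all : (List.range 10).all (fun i => (T.gens i).all (fun a =>
    decide (a < T.nLet) && T.lvl a == i && T.kind a == 0)) = true := by decide +kernel

theorem hn_all : (List.range 10).all (fun i => decide (0 < T.n i)) = true := by decide +kernel

/-- The two generators fix the positions `2058, …, 4095`. -/
def chkFix (p : ℕ) : Bool := (applyWs NW [0] (2 ^ p) == 2 ^ p) && (applyWs NW [1] (2 ^ p) == 2 ^ p)

set_option maxRecDepth 1000000 in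
set_option maxHeartbeats 0 in
theorem hfix_all : (List.range' 2058 2038).all chkFix = true := by decide +kernel

/-- The base point of the orbit of a point under the stabilizer of `0`. -/
def base2 (x : ℕ) : ℕ := if x < 137 then 1 else if x < 273 then 137 else 698

/-- The other transversals: elements of the group of level `1` mapping `base2 x` to `x`. -/
def chkPath2 (x : ℕ) : Bool :=
  (get2 path2Tab [] x).all (fun a => decide (a < T.nLet) && T.lvl a == 1) &&
    (applyWs NW (get2 path2Tab [] x) (2 ^ x) == 2 ^ base2 x)

set_option maxRecDepth 1000000 in
set_option maxHeartbeats 0 in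
theorem hpath2_a : (List.range' 1 272).all chkPath2 = true := by decide +kernel

set_option maxRecDepth 1000000 in
set_option maxHeartbeats 0 in
theorem hpath2_b : (List.range' 698 1360).all chkPath2 = true := by decide +kernel

end Cfsg.Agent.Helper72.He
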