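import Cfsg.Agent.Lib.Helper72.F4
import Cfsg.Agent.Lib.Helper72.He85NW

/-!
# The Held group: data and checks relating the group of degree 85 and the matrices

Generated data.
* `sigTab`: the two generators of the group of degree `85`.
* `ptsTab`: the points of the projective space of dimension 3 over the field with 4 elements.
* `matTab`: two symplectic matrices; `cTab`: the scalars in `M v_i = c • v_(σ i)`.
-/

set_option autoImplicit false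

namespace Cfsg.Agent.Helper72.HeData

open Cfsg.Agent.Helper72.PermNet

def sigTab : List (List ℕ) := [[61, 54, 68, 4, 59, 47, 30, 8, 80, 18, 74, 40, 35, 81, 9, 21, 41, 28, 50, 71, 15, 52, 14, 70, 27, 75, 36, 38, 19, 29, 77, 5, 45, 12, 43, 22, 84, 37, 73, 33, 17, 23, 10, 44, 82, 7, 32, 79, 46, 72, 51, 16, 26, 42, 24, 11, 83, 13, 69, 49, 25, 78, 6, 31, 48, 34, 39, 76, 20, 2, 66, 60, 55, 67, 58, 3, 56, 64, 62, 63, 0, 57, 1, 65, 53], [7, 70, 39, 21, 56, 34, 67, 81, 52, 9, 20, 3, 14, 58, 41, 76, 27, 46, 32, 79, 61, 11, 1, 15, 19, 47, 78, 64, 29, 60, 74, 25, 43, 33, 82, 51, 68, 59, 26, 44, 73, 12, 13, 18, 2, 45, 62, 31, 80, 36, 50, 65, 83, 48, 30, 77, 63, 57, 42, 75, 28, 10, 17, 4, 16, 35, 66, 84, 49, 69, 22, 55, 40, 72, 54, 37, 23, 71, 38, 24, 53, 0, 5, 8, 6]]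
def ptsTab : List (List ℕ) := [[0, 0, 0, 1], [0, 0, 1, 0], [0, 0, 1, 1], [0, 0, 1, 2], [0, 0, 1, 3], [0, 1, 0, 0], [0, 1, 0, 1], [0, 1, 0, 2], [0, 1, 0, 3], [0, 1, 1, 0], [0, 1, 1, 1], [0, 1, 1, 2], [0, 1, 1, 3], [0, 1, 2, 0], [0, 1, 2, 1], [0, 1, 2, 2], [0, 1, 2, 3], [0, 1, 3, 0], [0, 1, 3, 1], [0, 1, 3, 2], [0, 1, 3, 3], [1, 0, 0, 0], [1, 0, 0, 1], [1, 0, 0, 2], [1, 0, 0, 3], [1, 0, 1, 0], [1, 0, 1, 1], [1, 0, 1, 2], [1, 0, 1, 3], [1, 0, 2, 0], [1, 0, 2, 1], [1, 0, 2, 2], [1, 0, 2, 3], [1, 0, 3, 0], [1, 0, 3, 1], [1, 0, 3, 2], [1, 0, 3, 3], [1, 1, 0, 0], [1, 1, 0, 1], [1, 1, 0, 2], [1, 1, 0, 3], [1, 1, 1, 0], [1, 1, 1, 1], [1, 1, 1, 2], [1, 1, 1, 3], [1, 1, 2, 0], [1, 1, 2, 1], [1, 1, 2, 2], [1, 1, 2, 3], [1, 1, 3, 0], [1, 1, 3, 1], [1, 1, 3, 2], [1, 1, 3, 3], [1, 2, 0, 0], [1, 2, 0, 1], [1, 2, 0, 2], [1, 2, 0, 3], [1, 2, 1, 0], [1, 2, 1, 1], [1, 2, 1, 2], [1, 2, 1, 3],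 [1, 2, 2, 0], [1, 2, 2, 1], [1, 2, 2, 2], [1, 2, 2, 3], [1, 2, 3, 0], [1, 2, 3, 1], [1, 2, 3, 2], [1, 2, 3, 3], [1, 3, 0, 0], [1, 3, 0, 1], [1, 3, 0, 2], [1, 3, 0, 3], [1, 3, 1, 0], [1, 3, 1, 1], [1, 3, 1, 2], [1, 3, 1, 3], [1, 3, 2, 0], [1, 3, 2, 1], [1, 3, 2, 2], [1, 3, 2, 3], [1, 3, 3, 0], [1, 3, 3, 1], [1, 3, 3, 2], [1, 3, 3, 3]]
def matTab : List (List (List ℕ)) := [[[1, 2, 2, 1], [1, 2, 3, 2], [3, 3, 0, 2], [3, 3, 2, 0]], [[0, 2, 2, 0], [3, 0, 1, 3], [3, 1, 0, 0], [1, 2, 2, 1]]]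
def cTab : List (List ℕ) := [[1, 2, 3, 3, 1, 2, 3, 1, 1, 1, 1, 2, 3, 1, 1, 3, 2, 3, 2, 1, 1, 1, 3, 3, 2, 3, 2, 1, 3, 2, 3, 3, 1, 3, 1, 2, 3, 3, 2, 1, 2, 1, 2, 3, 2, 2, 1, 2, 3, 2, 3, 2, 1, 2, 3, 1, 1, 1, 1, 2, 3, 1, 1, 3, 2, 3, 2, 1, 1, 1, 1, 2, 3, 2, 3, 2, 1, 3, 2, 1, 2, 1, 3, 3, 2], [3, 2, 2, 2, 2, 2, 2, 2, 2, 1, 2, 1, 3, 1, 1, 1, 1, 3, 3, 3, 3, 3, 3, 2, 1, 2, 2, 2, 2, 3, 3, 3, 3, 1, 1, 1, 1, 2, 2, 2, 2, 2, 1, 3, 2, 1, 1, 1, 1, 3, 3, 3, 3, 3, 3, 3, 3, 1, 1, 1, 1, 1, 2, 1, 3, 2, 2, 2, 2, 1, 1, 1, 1, 3, 3, 3, 3, 2, 2, 2, 2, 1, 3, 1, 2]]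

/-- The coordinates. -/
abbrev I4 : Type := Fin 2 ⊕ Fin 2

/-- The index of a coordinate. -/
def idx : I4 → ℕ
  | Sum.inl i => i
  | Sum.inr i => 2 + i

/-- The vector with given codes. -/
def vecOf (l : List ℕ) : I4 → F4 := fun r => F4.ofCode (l.getD (idx r) 0)

/-- The points. -/
def pt (i : ℕ) : I4 → F4 := vecOf (ptsTab.getD i [])

/-- The matrix with given codes. -/
def matOf (l : List (List ℕ)) : Matrix I4 I4 F4 :=
  Matrix.of fun r c => F4.ofCode ((l.getD (idx r) []).getD (idx c) 0)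

/-- The two matrices. -/
def mat (k : ℕ) : Matrix I4 I4 F4 := matOf (matTab.getD k [])

/-- The two generators of degree `85`, as functions. -/
def sig (k i : ℕ) : ℕ := (sigTab.getD k []).getD i 0

/-- The scalars. -/
def cf (k i : ℕ) : F4 := F4.ofCode ((cTab.getD k []).getD i 0)

set_option maxRecDepth 1000000 in
set_option maxHeartbeats 0 in
/-- The generators of degree `85`. -/
theorem hsig : (List.range 2).all (fun k => (List.range 85).all (fun i =>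
    applyWs He85.NW [k] (2 ^ sig k i) == 2 ^ i)) = true := by decide +kernel

set_option maxRecDepth 1000000 in
set_option maxHeartbeats 0 in
/-- The generators of degree `85` fix the positions `85, …, 127`. -/
theorem hsigfix : (List.range 2).all (fun k => (List.range' 85 43).all (fun i =>
    applyWs He85.NW [k] (2 ^ i) == 2 ^ i)) = true := by decide +kernel

set_option maxRecDepth 1000000 in
set_option maxHeartbeats 0 in
/-- The matrices are symplectic. -/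
theorem hsymp : ∀ k < 2, mat k * Matrix.J (Fin 2) F4 * (mat k).transpose = Matrix.J (Fin 2) F4 := by
  decide +kernel

set_option maxRecDepth 1000000 in
set_option maxHeartbeats 0 in
/-- The matrices act on the points as the generators of degree `85`. -/
theorem hmat : (List.range 2).all (fun k => (List.range 85).all (fun i =>
    decide ((mat k).mulVec (pt i) = cf k i • pt (sig k i)) && decide (cf k i ≠ 0) &&
      decide (sig k i < 85))) = true := by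
  decide +kernel

set_option maxRecDepth 1000000 in
set_option maxHeartbeats 0 in
/-- The points are pairwise not proportional. -/
theorem hprop : (List.range 85).all (fun i => (List.range 85).all (fun j =>
    (List.range' 1 3).all (fun c => !(decide (pt i = F4.ofCode c • pt j)) || i == j))) = true := by
  decide +kernel

theorem hcode : ∀ x : F4, x ≠ 0 → x = F4.ofCode 1 ∨ x = F4.ofCode 2 ∨ x = F4.ofCode 3 := by
  decide +kernel

end Cfsg.Agent.Helper72.HeData
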