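import Mathlib

/-!
# Permutations of `Fin n` as permutations of `ℕ`

A group of permutations of `ℕ` fixing all the numbers from `n` on is transported to a group of
permutations of `Fin n`.
-/

set_option autoImplicit false

namespace Cfsg.Agent.Helper72.PermFin

variable (n : ℕ)

/-- Extension of a permutation of `Fin n` to `ℕ` by the identity. -/
def ext (σ : Equiv.Perm (Fin n)) : Equiv.Perm ℕ where
  toFun x := if h : x < n then (σ ⟨x, h⟩ : ℕ) else x
  invFun x := if h : x < n then (σ⁻¹ ⟨x, h⟩ : ℕ) else x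
  left_inv x := by
    by_cases h : x < n
    · have h2 : ((σ ⟨x, h⟩ : Fin n) : ℕ) < n := (σ ⟨x, h⟩).2
      simp only [h, h2, dite_true, Fin.eta]
      have : σ⁻¹ (σ ⟨x, h⟩) = ⟨x, h⟩ := Equiv.Perm.inv_eq_iff_eq.2 rfl
      rw [this]
    · simp only [h, dite_false]
  right_inv x := by
    by_cases h : x < n
    · have h2 : ((σ⁻¹ ⟨x, h⟩ : Fin n) : ℕ) < n := (σ⁻¹ ⟨x, h⟩).2
      simp only [h, h2, dite_true, Fin.eta]
      have : σ (σ⁻¹ ⟨x, h⟩) = ⟨x, h⟩ := Equiv.Perm.eq_inv_iff_eq.1 rfl
      rw [this]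
    · simp only [h, dite_false]

variable {n}

theorem ext_apply_lt (σ : Equiv.Perm (Fin n)) {x : ℕ} (h : x < n) : ext n σ x = σ ⟨x, h⟩ := by
  show (if h : x < n then (σ ⟨x, h⟩ : ℕ) else x) = _
  rw [dif_pos h]

theorem ext_apply_ge (σ : Equiv.Perm (Fin n)) {x : ℕ} (h : n ≤ x) : ext n σ x = x := by
  show (if h : x < n then (σ ⟨x, h⟩ : ℕ) else x) = _
  rw [dif_neg (by omega)]

theorem ext_apply_fin (σ : Equiv.Perm (Fin n)) (i : Fin n) : ext n σ i = σ i := by
  rw [ext_apply_lt σ i.2]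

theorem ext_injective : Function.Injective (ext n) := by
  intro σ τ h
  apply Equiv.ext
  intro i
  apply Fin.ext
  rw [← ext_apply_fin, ← ext_apply_fin, h]

variable (n) in
/-- The extension as a homomorphism. -/
def extHom : Equiv.Perm (Fin n) →* Equiv.Perm ℕ where
  toFun := ext n
  map_one' := by
    apply Equiv.ext
    intro x
    rcases Nat.lt_or_ge x n with h | h
    · rw [ext_apply_lt _ h]; rfl
    · rw [ext_apply_ge _ h]; rfl
  map_mul' σ τ := by
    apply Equiv.ext
    intro x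
    rcases Nat.lt_or_ge x n with h | h
    · rw [ext_apply_lt _ h, Equiv.Perm.mul_apply, Equiv.Perm.mul_apply, ext_apply_lt _ h,
        ext_apply_fin]
    · rw [ext_apply_ge _ h, Equiv.Perm.mul_apply, ext_apply_ge _ h, ext_apply_ge _ h]

theorem extHom_apply (σ : Equiv.Perm (Fin n)) : extHom n σ = ext n σ := rfl

theorem extHom_injective : Function.Injective (extHom n) := ext_injective

/-- A permutation of `ℕ` fixing the numbers from `n` on comes from a permutation of `Fin n`. -/
theorem exists_ext_eq {g : Equiv.Perm ℕ} (hg : ∀ x, n ≤ x → g x = x) : ∃ σ, ext n σ = g := by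
  have hlt : ∀ x, x < n → g x < n := by
    intro x hx
    by_contra hcon
    have h1 := hg (g x) (by omega)
    have h2 := g.injective h1
    omega
  have hg' : ∀ x, n ≤ x → g⁻¹ x = x := by
    intro x hx
    rw [Equiv.Perm.inv_eq_iff_eq]
    exact (hg x hx).symm
  have hlt' : ∀ x, x < n → g⁻¹ x < n := by
    intro x hx
    by_contra hcon
    have h1 := hg' (g⁻¹ x) (by omega)
    have h2 := (g⁻¹).injective h1
    omega
  refine ⟨⟨fun i => ⟨g i, hlt i i.2⟩, fun i => ⟨g⁻¹ i, hlt' i i.2⟩, ?_, ?_⟩, ?_⟩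
  · intro i
    apply Fin.ext
    show g⁻¹ (g i) = i
    exact Equiv.Perm.inv_eq_iff_eq.2 rfl
  · intro i
    apply Fin.ext
    show g (g⁻¹ i) = i
    exact Equiv.Perm.eq_inv_iff_eq.1 rfl
  · apply Equiv.ext
    intro x
    rcases Nat.lt_or_ge x n with h | h
    · rw [ext_apply_lt _ h]; rfl
    · rw [ext_apply_ge _ h, hg x h]

/-- Pulling back a subgroup along an injective homomorphism whose range contains it. -/
noncomputable def comapEquiv {S P : Type*} [Group S] [Group P] (ψ : S →* P)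
    (hψ : Function.Injective ψ) (N0 : Subgroup P) (hN : ∀ g ∈ N0, ∃ s, ψ s = g) :
    N0.comap ψ ≃* N0 :=
  MulEquiv.ofBijective
    ({ toFun := fun s => ⟨ψ s.1, s.2⟩
       map_one' := Subtype.ext (map_one ψ)
       map_mul' := fun a b => Subtype.ext (map_mul ψ a.1 b.1) } : N0.comap ψ →* N0)
    ⟨fun a b h => Subtype.ext (hψ (congrArg Subtype.val h)),
      fun g => by
        obtain ⟨s, hs⟩ := hN g.1 g.2
        exact ⟨⟨s, by rw [Subgroup.mem_comap, hs]; exact g.2⟩, Subtype.ext hs⟩⟩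

end Cfsg.Agent.Helper72.PermFin
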