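import Cfsg.Agent.Lib.Helper72.HeCov
import Cfsg.Agent.Lib.Helper72.HeBlk
import Cfsg.Agent.Lib.Helper72.PermFin

/-!
# The Held group as a permutation group of degree 2058
-/

set_option autoImplicit false

namespace Cfsg.Agent.Helper72.HeMain

open Cfsg.Agent.Helper72.PermNet Cfsg.Agent.Helper72.HeData Cfsg.Agent.Helper72.HeSp
open Cfsg.Agent.Helper72.HeBlk Cfsg.Agent.Helper72.PermFin

/-- The group, as a group of permutations of `ℕ`. -/
abbrev G : Subgroup (Equiv.Perm ℕ) := Lv He.NW He.T 0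

/-- The stabilizer of `0`. -/
abbrev K1 : Subgroup (Equiv.Perm ℕ) := Lv He.NW He.T 1

theorem smul_eq (g : G) (x : ℕ) : g • x = (g : Equiv.Perm ℕ) x := rfl

theorem prod0 : prodFrom He.T 0 = 4030387200 := by decide +kernel

theorem prod1 : prodFrom He.T 1 = 1958400 := by decide +kernel

instance finiteG : Finite G := (card_Lv He.checked 0).1

theorem card_G : Nat.card G = 4030387200 := by
  rw [← prod0]
  exact (card_Lv He.checked 0).2

instance finiteK1 : Finite K1 := (card_Lv He.checked 1).1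

instance finiteK1' : Finite (Lv He.NW He.T (0 + 1)) := finiteK1

theorem card_K1 : Nat.card K1 = 1958400 := by
  rw [← prod1]
  exact (card_Lv He.checked 1).2

theorem pts0 : (List.range 2058).all (fun k => He.T.pts 0 k == k) = true := by decide +kernel

theorem pts1 : (List.range 425).all (fun k => He.T.pts 1 k == 273 + k) = true := by decide +kernel

theorem pts0_eq {k : ℕ} (hk : k < 2058) : He.T.pts 0 k = k := by
  have := List.all_eq_true.1 pts0 k (List.mem_range.2 hk)
  simpa using this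

theorem pts1_eq {k : ℕ} (hk : k < 425) : He.T.pts 1 k = 273 + k := by
  have := List.all_eq_true.1 pts1 k (List.mem_range.2 hk)
  simpa using this

theorem base0 : He.T.base 0 = 0 := rfl
theorem base1 : He.T.base 1 = 273 := rfl
theorem n0 : He.T.n 0 = 2058 := rfl
theorem n1 : He.T.n 1 = 425 := rfl
theorem hK0 : 0 < He.T.K := by rw [He.hK]; norm_num
theorem hK1 : 1 < He.T.K := by rw [He.hK]; norm_num

theorem apply_zero_lt {g : Equiv.Perm ℕ} (hg : g ∈ G) : g 0 < 2058 := by
  obtain ⟨k, hk, e⟩ := (level He.checked (i := 0) hK0).2.2.2 g hg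
  rw [base0] at e
  rw [n0] at hk
  rw [e, pts0_eq hk]
  exact hk

theorem exists_map_zero {x : ℕ} (hx : x < 2058) : ∃ g ∈ G, g 0 = x := by
  refine ⟨el He.NW (He.T.path 0 x), path_mem He.checked hK0 (by rw [n0]; exact hx), ?_⟩
  have := path_apply He.checked (i := 0) (k := x) hK0 (by rw [n0]; exact hx)
  rw [base0, pts0_eq hx] at this
  exact this

theorem K1_le : K1 ≤ G := Lv_succ_le He.checked 0

theorem K1_fix {g : Equiv.Perm ℕ} (hg : g ∈ K1) : g 0 = 0 := Lv_fix He.checked 0 g hg

theorem mem_K1 {g : Equiv.Perm ℕ} (hg : g ∈ G) (h0 : g 0 = 0) : g ∈ K1 :=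
  (level He.checked (i := 0) hK0).2.2.1 g hg h0

/-- The transversal of level `1`. -/
theorem exists_map_273 {x : ℕ} (h1 : 273 ≤ x) (hx : x ≤ 697) : ∃ g ∈ K1, g 273 = x := by
  have hk : x - 273 < 425 := by omega
  refine ⟨el He.NW (He.T.path 1 (x - 273)), path_mem He.checked hK1 (by rw [n1]; exact hk), ?_⟩
  have := path_apply He.checked (i := 1) (k := x - 273) hK1 (by rw [n1]; exact hk)
  rw [base1, pts1_eq hk] at this
  rw [this]
  omega

/-- A word in letters of level `1` belongs to the group of level `1`. -/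
theorem word_mem_K1 {w : List ℕ}
    (h : w.all (fun a => decide (a < He.T.nLet) && He.T.lvl a == 1) = true) :
    el He.NW w ∈ K1 := by
  induction w with
  | nil => rw [el_nil]; exact Subgroup.one_mem _
  | cons c w ih =>
    rw [List.all_cons, Bool.and_eq_true] at h
    rw [el_cons]
    refine Subgroup.mul_mem _ ?_ (ih h.2)
    have h2 := h.1
    simp only [Bool.and_eq_true, decide_eq_true_eq, beq_iff_eq] at h2
    have := letter_mem He.checked h2.1
    rwa [h2.2] at this

/-- The other transversals of level `1`. -/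
theorem exists_map_base2 {x : ℕ} (hx : (1 ≤ x ∧ x < 273) ∨ (698 ≤ x ∧ x < 2058)) :
    ∃ g ∈ K1, g (He.base2 x) = x := by
  have h : He.chkPath2 x = true := by
    rcases hx with hx | hx
    · exact He.all_range' He.hpath2_a hx.1 (by omega)
    · exact He.all_range' He.hpath2_b hx.1 (by omega)
  unfold He.chkPath2 at h
  rw [Bool.and_eq_true, beq_iff_eq] at h
  exact ⟨el He.NW (He.get2 He.path2Tab [] x), word_mem_K1 h.1,
    el_apply_of_applyWs He.good h.2⟩

theorem gens0 : He.T.gens 0 = [0, 1] := rfl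

/-- The elements of the group fix the numbers from `2058` on. -/
theorem apply_ge {g : Equiv.Perm ℕ} (hg : g ∈ G) {p : ℕ} (hp : 2058 ≤ p) : g p = p := by
  have hgen : ∀ s ∈ He.T.gens 0, el He.NW [s] p = p := by
    intro s hs
    rcases Nat.lt_or_ge p 4096 with h | h
    · have hf := He.all_range' He.hfix_all hp (by omega : p < 2058 + 2038)
      unfold He.chkFix at hf
      rw [Bool.and_eq_true, beq_iff_eq, beq_iff_eq] at hf
      have hs' : s = 0 ∨ s = 1 := by
        rw [gens0] at hs
        simpa using hs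
      rcases hs' with rfl | rfl
      · exact el_apply_of_applyWs He.good hf.1
      · exact el_apply_of_applyWs He.good hf.2
    · exact el_apply_ge He.good _ h
  induction hg using Subgroup.closure_induction'' with
  | one => rfl
  | mem x hx =>
    obtain ⟨s, hs, rfl⟩ := hx
    exact hgen s hs
  | inv_mem x hx =>
    obtain ⟨s, hs, rfl⟩ := hx
    rw [Equiv.Perm.inv_eq_iff_eq]
    exact (hgen s hs).symm
  | mul x y _ _ hx hy => rw [Equiv.Perm.mul_apply, hy, hx]

theorem orbit_eq_Iio : MulAction.orbit G (0 : ℕ) = Set.Iio 2058 := by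
  ext x
  constructor
  · rintro ⟨g, rfl⟩
    exact apply_zero_lt g.2
  · intro hx
    obtain ⟨g, hg, e⟩ := exists_map_zero (x := x) hx
    exact ⟨⟨g, hg⟩, e⟩

/-- The orbits of the stabilizer. -/
def orb : Fin 4 → Set ℕ := ![Set.Icc 1 136, Set.Icc 137 272, Set.Icc 273 697, Set.Icc 698 2057]

/-- The sizes of the orbits of the stabilizer. -/
def osz : Fin 4 → ℕ := ![136, 136, 425, 1360]

theorem Iio_eq : Set.Iio 2058 = ({0} ∪ ⋃ i, orb i : Set ℕ) := by
  ext x
  constructor
  · intro hx
    rw [Set.mem_Iio] at hx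
    rcases Nat.eq_zero_or_pos x with h0 | h0
    · exact Or.inl h0
    · right
      rw [Set.mem_iUnion]
      rcases Nat.lt_or_ge x 137 with h1 | h1
      · exact ⟨0, Set.mem_Icc.2 ⟨h0, by omega⟩⟩
      rcases Nat.lt_or_ge x 273 with h2 | h2
      · exact ⟨1, Set.mem_Icc.2 ⟨h1, by omega⟩⟩
      rcases Nat.lt_or_ge x 698 with h3 | h3
      · exact ⟨2, Set.mem_Icc.2 ⟨h2, by omega⟩⟩
      · exact ⟨3, Set.mem_Icc.2 ⟨h3, by omega⟩⟩
  · rintro (h | h)
    · rw [Set.mem_singleton_iff] at h
      rw [Set.mem_Iio, h]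
      norm_num
    · rw [Set.mem_iUnion] at h
      obtain ⟨i, hi⟩ := h
      rw [Set.mem_Iio]
      fin_cases i
      · have := (Set.mem_Icc.1 hi).2
        omega
      · have := (Set.mem_Icc.1 hi).2
        omega
      · have := (Set.mem_Icc.1 hi).2
        omega
      · have := (Set.mem_Icc.1 hi).2
        omega

theorem ncard_orbit : (MulAction.orbit G (0 : ℕ)).ncard = 2058 := by
  rw [orbit_eq_Iio, ← Finset.coe_range, Set.ncard_coe_finset, Finset.card_range]

theorem ncard_Icc (a b : ℕ) : (Set.Icc a b).ncard = b + 1 - a := by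
  rw [← Finset.coe_Icc, Set.ncard_coe_finset, Nat.card_Icc]

/-- The stabilizer of `0` is transitive on the images of a point under the group of level `1`. -/
theorem trans_of_maps {b x y : ℕ} (hx : ∃ g ∈ K1, g b = x) (hy : ∃ g ∈ K1, g b = y) :
    ∃ k : G, k • (0 : ℕ) = 0 ∧ k • x = y := by
  obtain ⟨g1, hg1, e1⟩ := hx
  obtain ⟨g2, hg2, e2⟩ := hy
  have hm : g2 * g1⁻¹ ∈ K1 := Subgroup.mul_mem _ hg2 (Subgroup.inv_mem _ hg1)
  refine ⟨⟨g2 * g1⁻¹, K1_le hm⟩, K1_fix hm, ?_⟩
  show (g2 * g1⁻¹) x = y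
  have h1 : g1⁻¹ (g1 b) = b := Equiv.Perm.inv_eq_iff_eq.2 rfl
  rw [Equiv.Perm.mul_apply, ← e1, h1, e2]

theorem har : ∀ S : Finset (Fin 4), (1 + ∑ i ∈ S, osz i) ∣ (1 + ∑ i, osz i) →
    S = ∅ ∨ S = Finset.univ := by decide

theorem maximalG (M : Subgroup G) (hM : MulAction.stabilizer G (0 : ℕ) ≤ M) :
    M = MulAction.stabilizer G (0 : ℕ) ∨ M = ⊤ := by
  refine PermChain.maximal_stabilizer_fin (G := G) (X := ℕ) 0 4 orb osz ?_ ?_ ?_ ?_
    (by rw [orbit_eq_Iio, Iio_eq]) ?_ har M hM
  · intro i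
    fin_cases i <;> exact Set.finite_Icc _ _
  · intro i
    fin_cases i <;> exact ncard_Icc _ _
  · intro i
    fin_cases i <;> simp [orb]
  · intro i j hij
    refine Set.disjoint_left.2 (fun x h1 h2 => ?_)
    fin_cases i <;> fin_cases j <;> simp [orb] at h1 h2 hij <;> omega
  · intro i x hx y hy
    fin_cases i
    · simp only [orb, Fin.zero_eta, Fin.isValue, Matrix.cons_val_zero, Set.mem_Icc] at hx hy
      have e1 : He.base2 x = 1 := by unfold He.base2; rw [if_pos (by omega)]
      have e2 : He.base2 y = 1 := by unfold He.base2; rw [if_pos (by omega)]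
      have a1 := exists_map_base2 (x := x) (Or.inl ⟨hx.1, by omega⟩)
      have a2 := exists_map_base2 (x := y) (Or.inl ⟨hy.1, by omega⟩)
      rw [e1] at a1
      rw [e2] at a2
      exact trans_of_maps a1 a2
    · simp only [orb, Fin.mk_one, Fin.isValue, Matrix.cons_val_one, Matrix.cons_val_zero,
        Set.mem_Icc] at hx hy
      have e1 : He.base2 x = 137 := by
        unfold He.base2; rw [if_neg (by omega), if_pos (by omega)]
      have e2 : He.base2 y = 137 := by
        unfold He.base2; rw [if_neg (by omega), if_pos (by omega)]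
      have a1 := exists_map_base2 (x := x) (Or.inl ⟨by omega, by omega⟩)
      have a2 := exists_map_base2 (x := y) (Or.inl ⟨by omega, by omega⟩)
      rw [e1] at a1
      rw [e2] at a2
      exact trans_of_maps a1 a2
    · simp only [orb, Fin.reduceFinMk, Matrix.cons_val, Set.mem_Icc] at hx hy
      exact trans_of_maps (exists_map_273 hx.1 hx.2) (exists_map_273 hy.1 hy.2)
    · simp only [orb, Fin.reduceFinMk, Matrix.cons_val, Set.mem_Icc] at hx hy
      have e1 : He.base2 x = 698 := by
        unfold He.base2; rw [if_neg (by omega), if_neg (by omega)]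
      have e2 : He.base2 y = 698 := by
        unfold He.base2; rw [if_neg (by omega), if_neg (by omega)]
      have a1 := exists_map_base2 (x := x) (Or.inr ⟨by omega, by omega⟩)
      have a2 := exists_map_base2 (x := y) (Or.inr ⟨by omega, by omega⟩)
      rw [e1] at a1
      rw [e2] at a2
      exact trans_of_maps a1 a2

theorem gen_pow {s : ℕ} (hs : s ∈ He.T.gens 0) : el He.NW [s] ^ 7 ^ 1 = 1 := by
  obtain ⟨h1, h2, h3⟩ := He.checked.hgens 0 hK0 s hs
  have h := He.checked.hlet s h1
  unfold chkLetter at h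
  rw [if_pos h3] at h
  simp only [Bool.and_eq_true, decide_eq_true_eq] at h
  have hord : He.T.ord s = 7 := by
    rw [gens0] at hs
    simp only [List.mem_cons, List.not_mem_nil, or_false] at hs
    rcases hs with rfl | rfl <;> rfl
  rw [pow_one, ← hord, ← el_replicate, el_eq_of_eqW He.checked.good h.1.2, el_nil]

theorem faithfulG (g : G) (hg : ∀ h : G, g • (h • (0 : ℕ)) = h • (0 : ℕ)) : g = 1 := by
  apply Subtype.ext
  apply Equiv.ext
  intro p
  show (g : Equiv.Perm ℕ) p = p
  rcases Nat.lt_or_ge p 2058 with hp | hp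
  · obtain ⟨h, hh, e⟩ := exists_map_zero hp
    have := hg ⟨h, hh⟩
    rw [smul_eq, smul_eq] at this
    rw [← e]
    exact this
  · exact apply_ge g.2 hp

/-- The group is simple. -/
theorem simpleG : IsSimpleGroup G := by
  have : Nontrivial G := by
    rw [← Finite.one_lt_card_iff_nontrivial, card_G]
    norm_num
  refine PermChain.simple_of_primitive_pow (G := G) (X := ℕ) (0 : ℕ) 2058 ncard_orbit maximalG
    faithfulG 7 3 (by norm_num) (by norm_num) (by rw [card_G]; norm_num)
    (((↑) : G → Equiv.Perm ℕ) ⁻¹' {g | ∃ s ∈ He.T.gens 0, g = el He.NW [s]})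
    Subgroup.closure_closure_coe_preimage ?_
  rintro g ⟨s, hs, e⟩
  refine ⟨1, ?_⟩
  apply Subtype.ext
  rw [Subgroup.coe_pow, e, gen_pow hs]
  rfl

/-! ### The subgroup of index 2 of the stabilizer -/

theorem gens1 : He.T.gens 1 = [92, 93] := rfl

theorem N0_le : N0 ≤ K1 := by
  show Lv HeN.NW HeN.T 0 ≤ K1
  unfold Lv
  rw [Subgroup.closure_le]
  rintro g ⟨s, hs, rfl⟩
  have hs2 : s < 2 := by
    rw [gensN] at hs
    simp only [List.mem_cons, List.not_mem_nil, or_false] at hs
    omega
  have h := List.all_eq_true.1 hlink s (List.mem_range.2 hs2)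
  rw [Bool.and_eq_true, beq_iff_eq] at h
  have hgN : Good 4096 12 He.R He.X0 HeN.NW := by
    have := HeN.good
    rwa [hR, hX0] at this
  have e : el HeN.NW [s] = el He.NW (linkTab.getD s []) := by
    have h2 := h.2
    rw [applyW_eq, applyW_eq] at h2
    exact permOf_eq_of_applyBig hgN.hB hgN.hnb hgN.hper hgN.hX (stOK_wordSt hgN.hNW [s])
      (stOK_wordSt He.good.hNW _) h2
  rw [e]
  apply word_mem
  intro c hc
  have := List.all_eq_true.1 h.1 c hc
  rw [gens1]
  simpa using this

/-! ### Transport to `Fin 2058` -/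

/-- The group, as a group of permutations of `Fin 2058`. -/
def H : Subgroup (Equiv.Perm (Fin 2058)) := G.comap (extHom 2058)

theorem exists_of_mem_G {g : Equiv.Perm ℕ} (hg : g ∈ G) :
    ∃ σ : Equiv.Perm (Fin 2058), extHom 2058 σ = g :=
  exists_ext_eq (fun _ hx => apply_ge hg hx)

/-- The two groups are isomorphic. -/
noncomputable def equivHG : H ≃* G :=
  comapEquiv (extHom 2058) extHom_injective G (fun _ hg => exists_of_mem_G hg)

theorem isHe_H : IsSimpleGroup H ∧ Nat.card H = 4030387200 := by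
  constructor
  · have := simpleG
    exact equivHG.isSimpleGroup
  · rw [Nat.card_congr equivHG.toEquiv, card_G]

theorem pretransitive_H : MulAction.IsPretransitive H (Fin 2058) := by
  refine ⟨fun i j => ?_⟩
  obtain ⟨g1, hg1, e1⟩ := exists_map_zero i.2
  obtain ⟨g2, hg2, e2⟩ := exists_map_zero j.2
  have hm : g2 * g1⁻¹ ∈ G := Subgroup.mul_mem _ hg2 (Subgroup.inv_mem _ hg1)
  obtain ⟨σ, hσ⟩ := exists_of_mem_G hm
  refine ⟨⟨σ, ?_⟩, ?_⟩
  · show extHom 2058 σ ∈ G
    rw [hσ]
    exact hm
  · show σ i = j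
    apply Fin.ext
    rw [← ext_apply_fin, ← extHom_apply, hσ, Equiv.Perm.mul_apply, ← e1]
    have h1 : g1⁻¹ (g1 0) = 0 := Equiv.Perm.inv_eq_iff_eq.2 rfl
    rw [h1, e2]

/-- The stabilizer of `0`. -/
abbrev S : Subgroup H := MulAction.stabilizer H (0 : Fin 2058)

/-- The stabilizer as a group of permutations of `ℕ`. -/
def ψ : S →* Equiv.Perm ℕ := (extHom 2058).comp (H.subtype.comp S.subtype)

theorem ψ_injective : Function.Injective ψ := by
  intro a b h
  apply Subtype.ext
  apply Subtype.ext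
  exact extHom_injective h

theorem ψ_mem (s : S) : ψ s ∈ K1 := by
  apply mem_K1 s.1.2
  have h1 : (s.1 : Equiv.Perm (Fin 2058)) (0 : Fin 2058) = 0 := s.2
  have h2 := ext_apply_fin (s.1 : Equiv.Perm (Fin 2058)) (0 : Fin 2058)
  rw [h1] at h2
  exact h2

theorem exists_ψ_eq {g : Equiv.Perm ℕ} (hg : g ∈ K1) : ∃ s : S, ψ s = g := by
  obtain ⟨σ, hσ⟩ := exists_of_mem_G (K1_le hg)
  have hσH : σ ∈ H := by
    show extHom 2058 σ ∈ G
    rw [hσ]
    exact K1_le hg
  have h0 : σ (0 : Fin 2058) = 0 := by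
    apply Fin.ext
    rw [← ext_apply_fin, ← extHom_apply, hσ]
    exact K1_fix hg
  exact ⟨⟨⟨σ, hσH⟩, h0⟩, hσ⟩

theorem card_S : Nat.card S = 1958400 := by
  have e := comapEquiv ψ ψ_injective K1 (fun _ hg => exists_ψ_eq hg)
  have htop : K1.comap ψ = ⊤ := by
    rw [eq_top_iff]
    intro s _
    exact ψ_mem s
  rw [← card_K1, ← Nat.card_congr e.toEquiv, htop]
  exact (Nat.card_congr Subgroup.topEquiv.toEquiv).symm

/-- The subgroup of index `2`. -/
def N : Subgroup S := N0.comap ψ

/-- It is isomorphic to `N0`. -/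
noncomputable def equivN : N ≃* N0 :=
  comapEquiv ψ ψ_injective N0 (fun _ hg => exists_ψ_eq (N0_le hg))

theorem card_N : Nat.card N = 979200 := by
  rw [Nat.card_congr equivN.toEquiv, card_N0]

theorem index_N : N.index = 2 := by
  have h := N.index_mul_card
  rw [card_N, card_S] at h
  have h2 : N.index * 979200 = 2 * 979200 := by rw [h]
  exact Nat.eq_of_mul_eq_mul_right (by norm_num) h2

theorem nonempty_equiv_sp : Nonempty (N ≃* Matrix.symplecticGroup (Fin 2) F4) := by
  obtain ⟨e1⟩ := HeBlk.nonempty_mulEquiv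
  obtain ⟨e2⟩ := HeSp.nonempty_mulEquiv
  exact ⟨equivN.trans (e1.trans e2)⟩

/-- The Held group as a permutation group of degree `2058`. -/
theorem main : ∃ H : Subgroup (Equiv.Perm (Fin 2058)),
    (IsSimpleGroup H ∧ Nat.card H = 4030387200) ∧
    MulAction.IsPretransitive H (Fin 2058) ∧ ∃ (F : Type) (_ : Field F) (_ : Fintype F),
      Fintype.card F = 4 ∧ ∃ N : Subgroup (MulAction.stabilizer H (0 : Fin 2058)),
        N.index = 2 ∧ Nonempty (N ≃* Matrix.symplecticGroup (Fin 2) F) :=
  ⟨H, isHe_H, pretransitive_H, F4, inferInstance, inferInstance, F4.card_F4, N, index_N,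
    nonempty_equiv_sp⟩

end Cfsg.Agent.Helper72.HeMain
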