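import Cfsg.Agent.Lib.Helper72.HePresL4Base
import Cfsg.Agent.Lib.Helper72.HePresL4E0

/-!
# Coset enumeration certificate for the presented group (he), level 4: the spanning tree
-/

set_option autoImplicit false

namespace Cfsg.Agent.Helper72.HePres

open Cfsg.Agent.Helper72.PermNet Cfsg.Agent.Helper72.TCC Cfsg.Agent.Helper72.TCNet
open Cfsg.Agent.Helper72.TCSched

set_option maxRecDepth 1000000 in
set_option maxHeartbeats 0 in
theorem hbfs4 : (bfs pm4 T4 7 25 1 (initSt 7 5)).2 = E4_0 := by decide +kernel

end Cfsg.Agent.Helper72.HePres
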