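import Cfsg.Agent.Lib.Helper72.HePresL4C10
import Cfsg.Agent.Lib.Helper72.HePresL4Base
import Cfsg.Agent.Lib.Helper72.HePresL4E14
import Cfsg.Agent.Lib.Helper72.HePresL4E15

/-!
# Coset enumeration certificate for the presented group (he), level 4: piece 15 of the deductions
-/

set_option autoImplicit false

namespace Cfsg.Agent.Helper72.HePres

open Cfsg.Agent.Helper72.PermNet Cfsg.Agent.Helper72.TCC Cfsg.Agent.Helper72.TCNet
open Cfsg.Agent.Helper72.TCSched

/-- The deductions of piece 15: (relator, place). -/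
def sched4_15 : List (ℕ × ℕ) := [(10, 0), (10, 1), (11, 0), (11, 1), (12, 0), (12, 1), (13, 0), (13, 1), (14, 0), (14, 1), (15, 0), (15, 1), (16, 0), (16, 1), (17, 0), (17, 1), (18, 0), (18, 1), (19, 0), (19, 1), (20, 0), (20, 1), (21, 0), (21, 1), (21, 2), (21, 3), (21, 4), (22, 0), (22, 1), (22, 2), (22, 3), (22, 4)]

set_option maxRecDepth 1000000 in
set_option maxHeartbeats 0 in
theorem hpiece4_15 : runSched pm4 full4 rels4 sched4_15 E4_14 = E4_15 := by
  decide +kernel

end Cfsg.Agent.Helper72.HePres
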