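import Cfsg.Agent.Lib.Helper72.HePresL4C13
import Cfsg.Agent.Lib.Helper72.HePresL4Base
import Cfsg.Agent.Lib.Helper72.HePresL4E17
import Cfsg.Agent.Lib.Helper72.HePresL4E18

/-!
# Coset enumeration certificate for the presented group (he), level 4: piece 18 of the deductions
-/

set_option autoImplicit false

namespace Cfsg.Agent.Helper72.HePres

open Cfsg.Agent.Helper72.PermNet Cfsg.Agent.Helper72.TCC Cfsg.Agent.Helper72.TCNet
open Cfsg.Agent.Helper72.TCSched

/-- The deductions of piece 18: (relator, place). -/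
def sched4_18 : List (ℕ × ℕ) := [(3, 1), (4, 0), (4, 1), (5, 0), (5, 1), (6, 0), (6, 1), (7, 0), (7, 1), (8, 0), (8, 1), (9, 0), (9, 1), (10, 0), (10, 1), (11, 0), (11, 1), (12, 0), (12, 1), (13, 0), (13, 1), (14, 0), (14, 1), (15, 0), (15, 1), (16, 0), (16, 1), (17, 0), (17, 1), (18, 0), (18, 1), (19, 0), (19, 1), (20, 0), (20, 1), (21, 0), (21, 1), (21, 2)]

set_option maxRecDepth 1000000 in
set_option maxHeartbeats 0 in
theorem hpiece4_18 : runSched pm4 full4 rels4 sched4_18 E4_17 = E4_18 := by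
  decide +kernel

end Cfsg.Agent.Helper72.HePres
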