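import Cfsg.Agent.Lib.Helper72.HePresL4C14
import Cfsg.Agent.Lib.Helper72.HePresL4Base
import Cfsg.Agent.Lib.Helper72.HePresL4E18
import Cfsg.Agent.Lib.Helper72.HePresL4E19

/-!
# Coset enumeration certificate for the presented group (he), level 4: piece 19 of the deductions
-/

set_option autoImplicit false

namespace Cfsg.Agent.Helper72.HePres

open Cfsg.Agent.Helper72.PermNet Cfsg.Agent.Helper72.TCC Cfsg.Agent.Helper72.TCNet
open Cfsg.Agent.Helper72.TCSched

/-- The deductions of piece 19: (relator, place). -/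
def sched4_19 : List (ℕ × ℕ) := [(21, 3), (21, 4), (22, 0), (22, 1), (22, 2), (22, 3), (22, 4), (22, 5), (22, 6), (22, 7), (22, 8), (22, 9), (23, 0), (23, 1), (23, 2), (23, 3), (23, 4), (23, 5), (23, 6), (23, 7), (23, 8), (23, 9)]

set_option maxRecDepth 1000000 in
set_option maxHeartbeats 0 in
theorem hpiece4_19 : runSched pm4 full4 rels4 sched4_19 E4_18 = E4_19 := by
  decide +kernel

end Cfsg.Agent.Helper72.HePres
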