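import Cfsg.Agent.Lib.Helper72.HePresL4C18
import Cfsg.Agent.Lib.Helper72.HePresL4Base
import Cfsg.Agent.Lib.Helper72.HePresL4E22
import Cfsg.Agent.Lib.Helper72.HePresL4E23

/-!
# Coset enumeration certificate for the presented group (he), level 4: piece 23 of the deductions
-/

set_option autoImplicit false

namespace Cfsg.Agent.Helper72.HePres

open Cfsg.Agent.Helper72.PermNet Cfsg.Agent.Helper72.TCC Cfsg.Agent.Helper72.TCNet
open Cfsg.Agent.Helper72.TCSched

/-- The deductions of piece 23: (relator, place). -/
def sched4_23 : List (ℕ × ℕ) := [(23, 7), (23, 8), (23, 9), (23, 10), (24, 0), (24, 1), (24, 2), (24, 3), (24, 4), (24, 5), (24, 6), (24, 7), (24, 8), (24, 9), (24, 10)]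

set_option maxRecDepth 1000000 in
set_option maxHeartbeats 0 in
theorem hpiece4_23 : runSched pm4 full4 rels4 sched4_23 E4_22 = E4_23 := by
  decide +kernel

end Cfsg.Agent.Helper72.HePres
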