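import Cfsg.Agent.Lib.Helper72.HePresL4C25
import Cfsg.Agent.Lib.Helper72.HePresL4Base
import Cfsg.Agent.Lib.Helper72.HePresL4E29
import Cfsg.Agent.Lib.Helper72.HePresL4E30

/-!
# Coset enumeration certificate for the presented group (he), level 4: piece 30 of the deductions
-/

set_option autoImplicit false

namespace Cfsg.Agent.Helper72.HePres

open Cfsg.Agent.Helper72.PermNet Cfsg.Agent.Helper72.TCC Cfsg.Agent.Helper72.TCNet
open Cfsg.Agent.Helper72.TCSched

/-- The deductions of piece 30: (relator, place). -/
def sched4_30 : List (ℕ × ℕ) := [(24, 1), (24, 2), (24, 3), (24, 4), (24, 5), (24, 6), (24, 7), (24, 8), (24, 9), (24, 10), (24, 11), (24, 12), (24, 13), (24, 14)]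

set_option maxRecDepth 1000000 in
set_option maxHeartbeats 0 in
theorem hpiece4_30 : runSched pm4 full4 rels4 sched4_30 E4_29 = E4_30 := by
  decide +kernel

end Cfsg.Agent.Helper72.HePres
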