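import Cfsg.Agent.Lib.Helper72.HePresL4R6
import Cfsg.Agent.Lib.Helper72.HePresL4Base
import Cfsg.Agent.Lib.Helper72.HePresL4E3
import Cfsg.Agent.Lib.Helper72.HePresL4E4

/-!
# Coset enumeration certificate for the presented group (he), level 4: piece 4 of the deductions
-/

set_option autoImplicit false

namespace Cfsg.Agent.Helper72.HePres

open Cfsg.Agent.Helper72.PermNet Cfsg.Agent.Helper72.TCC Cfsg.Agent.Helper72.TCNet
open Cfsg.Agent.Helper72.TCSched

/-- The deductions of piece 4: (relator, place). -/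
def sched4_4 : List (ℕ × ℕ) := [(7, 1), (8, 0), (8, 1), (9, 0), (9, 1), (10, 0), (10, 1), (11, 0), (11, 1), (13, 0), (13, 1), (14, 0), (14, 1), (15, 0), (15, 1), (16, 0), (16, 1), (17, 0), (17, 1), (18, 0), (18, 1), (19, 0), (19, 1), (20, 0), (21, 0), (21, 1), (21, 2), (21, 3), (21, 4), (22, 0), (22, 1), (22, 2), (22, 3), (22, 4), (22, 5), (22, 6)]

set_option maxRecDepth 1000000 in
set_option maxHeartbeats 0 in
theorem hpiece4_4 : runSched pm4 full4 rels4 sched4_4 E4_3 = E4_4 := by
  decide +kernel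

end Cfsg.Agent.Helper72.HePres
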