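import Cfsg.Agent.Lib.Helper72.HePresL4C3
import Cfsg.Agent.Lib.Helper72.HePresL4Base
import Cfsg.Agent.Lib.Helper72.HePresL4E7
import Cfsg.Agent.Lib.Helper72.HePresL4E8

/-!
# Coset enumeration certificate for the presented group (he), level 4: piece 8 of the deductions
-/

set_option autoImplicit false

namespace Cfsg.Agent.Helper72.HePres

open Cfsg.Agent.Helper72.PermNet Cfsg.Agent.Helper72.TCC Cfsg.Agent.Helper72.TCNet
open Cfsg.Agent.Helper72.TCSched

/-- The deductions of piece 8: (relator, place). -/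
def sched4_8 : List (ℕ × ℕ) := [(24, 0), (24, 1), (24, 2), (24, 3), (24, 4), (24, 5), (24, 6), (24, 7), (0, 0), (0, 1), (1, 0), (1, 1), (2, 0), (2, 1), (3, 0), (3, 1), (4, 0), (4, 1), (5, 0), (5, 1), (6, 0), (6, 1), (7, 0), (7, 1), (8, 0), (8, 1), (9, 0), (9, 1)]

set_option maxRecDepth 1000000 in
set_option maxHeartbeats 0 in
theorem hpiece4_8 : runSched pm4 full4 rels4 sched4_8 E4_7 = E4_8 := by
  decide +kernel

end Cfsg.Agent.Helper72.HePres
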