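import Cfsg.Agent.Lib.Helper72.HePresL4Base

/-!
# Coset enumeration certificate for the presented group (he), level 4: the generators are involutions
-/

set_option autoImplicit false

namespace Cfsg.Agent.Helper72.HePres

open Cfsg.Agent.Helper72.PermNet Cfsg.Agent.Helper72.TCC Cfsg.Agent.Helper72.TCNet
open Cfsg.Agent.Helper72.TCSched

set_option maxRecDepth 1000000 in
set_option maxHeartbeats 0 in
theorem hinv4_0 : isOne 19 NW4 [0, 0] = true := by decide +kernel

set_option maxRecDepth 1000000 in
set_option maxHeartbeats 0 in
theorem hinv4_1 : isOne 19 NW4 [1, 1] = true := by decide +kernel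

set_option maxRecDepth 1000000 in
set_option maxHeartbeats 0 in
theorem hinv4_2 : isOne 19 NW4 [2, 2] = true := by decide +kernel

set_option maxRecDepth 1000000 in
set_option maxHeartbeats 0 in
theorem hinv4_3 : isOne 19 NW4 [3, 3] = true := by decide +kernel

set_option maxRecDepth 1000000 in
set_option maxHeartbeats 0 in
theorem hinv4_4 : isOne 19 NW4 [4, 4] = true := by decide +kernel

set_option maxRecDepth 1000000 in
set_option maxHeartbeats 0 in
theorem hinv4_5 : isOne 19 NW4 [5, 5] = true := by decide +kernel

set_option maxRecDepth 1000000 in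
set_option maxHeartbeats 0 in
theorem hinv4_6 : isOne 19 NW4 [6, 6] = true := by decide +kernel

theorem hinv4 : ∀ g < 7, isOne 19 NW4 [g, g] = true := by
  intro g hg
  interval_cases g
  · exact hinv4_0
  · exact hinv4_1
  · exact hinv4_2
  · exact hinv4_3
  · exact hinv4_4
  · exact hinv4_5
  · exact hinv4_6

end Cfsg.Agent.Helper72.HePres
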