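import Cfsg.Agent.Lib.Helper72.HePresL4Base

/-!
# Coset enumeration certificate for the presented group (he), level 4: the relators hold in the table (part 3)
-/

set_option autoImplicit false

namespace Cfsg.Agent.Helper72.HePres

open Cfsg.Agent.Helper72.PermNet Cfsg.Agent.Helper72.TCC Cfsg.Agent.Helper72.TCNet
open Cfsg.Agent.Helper72.TCSched

set_option maxRecDepth 1000000 in
set_option maxHeartbeats 0 in
theorem htab4_12 : isOne 19 NW4 ([2, 4, 2, 4, 2, 4, 2, 4, 2, 4, 2, 4, 2, 4, 2, 4, 2, 4, 2, 4] : List ℕ).reverse = true := by decide +kernel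

set_option maxRecDepth 1000000 in
set_option maxHeartbeats 0 in
theorem htab4_13 : isOne 19 NW4 ([2, 5, 2, 5] : List ℕ).reverse = true := by decide +kernel

end Cfsg.Agent.Helper72.HePres
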