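import Cfsg.Agent.Lib.Helper72.HePresL4Base
import Cfsg.Agent.Lib.Helper72.HePresL4E35

/-!
# Coset enumeration certificate for the presented group (he), level 4: all the edges are proven
-/

set_option autoImplicit false

namespace Cfsg.Agent.Helper72.HePres

open Cfsg.Agent.Helper72.PermNet Cfsg.Agent.Helper72.TCC Cfsg.Agent.Helper72.TCNet
open Cfsg.Agent.Helper72.TCSched

set_option maxRecDepth 1000000 in
set_option maxHeartbeats 0 in
theorem hlast4 : (List.range 7).all (fun g => getE E4_35 g &&& (2 ^ 266560 - 1) == 2 ^ 266560 - 1) = true := by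
  decide +kernel

end Cfsg.Agent.Helper72.HePres
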