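import Cfsg.Agent.Lib.Helper72.HePresL4Base
import Cfsg.Agent.Lib.Helper72.HePresL4Inv
import Cfsg.Agent.Lib.Helper72.HePresL4R0
import Cfsg.Agent.Lib.Helper72.HePresL4R1
import Cfsg.Agent.Lib.Helper72.HePresL4R2
import Cfsg.Agent.Lib.Helper72.HePresL4R3
import Cfsg.Agent.Lib.Helper72.HePresL4R4
import Cfsg.Agent.Lib.Helper72.HePresL4R5
import Cfsg.Agent.Lib.Helper72.HePresL4R6
import Cfsg.Agent.Lib.Helper72.HePresL4R7
import Cfsg.Agent.Lib.Helper72.HePresL4B
import Cfsg.Agent.Lib.Helper72.HePresL4C1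
import Cfsg.Agent.Lib.Helper72.HePresL4C2
import Cfsg.Agent.Lib.Helper72.HePresL4C3
import Cfsg.Agent.Lib.Helper72.HePresL4C4
import Cfsg.Agent.Lib.Helper72.HePresL4C5
import Cfsg.Agent.Lib.Helper72.HePresL4C6
import Cfsg.Agent.Lib.Helper72.HePresL4C7
import Cfsg.Agent.Lib.Helper72.HePresL4C8
import Cfsg.Agent.Lib.Helper72.HePresL4C9
import Cfsg.Agent.Lib.Helper72.HePresL4C10
import Cfsg.Agent.Lib.Helper72.HePresL4C11
import Cfsg.Agent.Lib.Helper72.HePresL4C12
import Cfsg.Agent.Lib.Helper72.HePresL4C13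
import Cfsg.Agent.Lib.Helper72.HePresL4C14
import Cfsg.Agent.Lib.Helper72.HePresL4C15
import Cfsg.Agent.Lib.Helper72.HePresL4C16
import Cfsg.Agent.Lib.Helper72.HePresL4C17
import Cfsg.Agent.Lib.Helper72.HePresL4C18
import Cfsg.Agent.Lib.Helper72.HePresL4C19
import Cfsg.Agent.Lib.Helper72.HePresL4C20
import Cfsg.Agent.Lib.Helper72.HePresL4C21
import Cfsg.Agent.Lib.Helper72.HePresL4C22
import Cfsg.Agent.Lib.Helper72.HePresL4C23
import Cfsg.Agent.Lib.Helper72.HePresL4C24
import Cfsg.Agent.Lib.Helper72.HePresL4C25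
import Cfsg.Agent.Lib.Helper72.HePresL4C26
import Cfsg.Agent.Lib.Helper72.HePresL4C27
import Cfsg.Agent.Lib.Helper72.HePresL4C28
import Cfsg.Agent.Lib.Helper72.HePresL4C29
import Cfsg.Agent.Lib.Helper72.HePresL4C30
import Cfsg.Agent.Lib.Helper72.HePresL4C31
import Cfsg.Agent.Lib.Helper72.HePresL4C32
import Cfsg.Agent.Lib.Helper72.HePresL4C33
import Cfsg.Agent.Lib.Helper72.HePresL4C34
import Cfsg.Agent.Lib.Helper72.HePresL4C35
import Cfsg.Agent.Lib.Helper72.HePresL4Z

/-!
# Coset enumeration certificate for the presented group (he), level 4: the cover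
-/

set_option autoImplicit false

namespace Cfsg.Agent.Helper72.HePres

open Cfsg.Agent.Helper72.PermNet Cfsg.Agent.Helper72.TCC Cfsg.Agent.Helper72.TCNet
open Cfsg.Agent.Helper72.TCSched

theorem netOK4 : NetOK 19 NW4 7 rels4 where
  hNW := hNW4
  hinv := hinv4
  htab := by
    intro r hr
    unfold rels4 at hr
    simp only [List.mem_cons, List.not_mem_nil, or_false] at hr
    rcases hr with rfl | rfl | rfl | rfl | rfl | rfl | rfl | rfl | rfl | rfl | rfl | rfl | rfl | rfl | rfl | rfl | rfl | rfl | rfl | rfl | rfl | rfl | rfl | rfl | rfl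
    · exact htab4_0
    · exact htab4_1
    · exact htab4_2
    · exact htab4_3
    · exact htab4_4
    · exact htab4_5
    · exact htab4_6
    · exact htab4_7
    · exact htab4_8
    · exact htab4_9
    · exact htab4_10
    · exact htab4_11
    · exact htab4_12
    · exact htab4_13
    · exact htab4_14
    · exact htab4_15
    · exact htab4_16
    · exact htab4_17
    · exact htab4_18
    · exact htab4_19
    · exact htab4_20
    · exact htab4_21
    · exact htab4_22
    · exact htab4_23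
    · exact htab4_24

/-- The cover of the subgroup generated by the first `7` generators by `266560` cosets of the subgroup
generated by the first `5` generators. -/
theorem lv4_cover {G : Type*} [Group G] (K : Subgroup G) (x : ℕ → G) (hx : ∀ g, x g * x g = 1)
    (hrel : ∀ r ∈ rels4, (r.map x).prod = 1) (hk : ∀ g < 5, x g ∈ K) :
    ∃ w : ℕ → G, ∀ h ∈ Subgroup.closure (x '' {g | g < 7}), ∃ p < 266560, h * (w p)⁻¹ ∈ K := by
  obtain ⟨w, hw0, hV0⟩ := valid_first (K := K) netOK4 hlen4 hx 5 hk hfix4 T4 25 hbfs4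
  have hV1 := valid_piece (K := K) netOK4 hlen4 hx hrel full4 sched4_1 hpiece4_1 hV0
  have hV2 := valid_piece (K := K) netOK4 hlen4 hx hrel full4 sched4_2 hpiece4_2 hV1
  have hV3 := valid_piece (K := K) netOK4 hlen4 hx hrel full4 sched4_3 hpiece4_3 hV2
  have hV4 := valid_piece (K := K) netOK4 hlen4 hx hrel full4 sched4_4 hpiece4_4 hV3
  have hV5 := valid_piece (K := K) netOK4 hlen4 hx hrel full4 sched4_5 hpiece4_5 hV4
  have hV6 := valid_piece (K := K) netOK4 hlen4 hx hrel full4 sched4_6 hpiece4_6 hV5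
  have hV7 := valid_piece (K := K) netOK4 hlen4 hx hrel full4 sched4_7 hpiece4_7 hV6
  have hV8 := valid_piece (K := K) netOK4 hlen4 hx hrel full4 sched4_8 hpiece4_8 hV7
  have hV9 := valid_piece (K := K) netOK4 hlen4 hx hrel full4 sched4_9 hpiece4_9 hV8
  have hV10 := valid_piece (K := K) netOK4 hlen4 hx hrel full4 sched4_10 hpiece4_10 hV9
  have hV11 := valid_piece (K := K) netOK4 hlen4 hx hrel full4 sched4_11 hpiece4_11 hV10
  have hV12 := valid_piece (K := K) netOK4 hlen4 hx hrel full4 sched4_12 hpiece4_12 hV11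
  have hV13 := valid_piece (K := K) netOK4 hlen4 hx hrel full4 sched4_13 hpiece4_13 hV12
  have hV14 := valid_piece (K := K) netOK4 hlen4 hx hrel full4 sched4_14 hpiece4_14 hV13
  have hV15 := valid_piece (K := K) netOK4 hlen4 hx hrel full4 sched4_15 hpiece4_15 hV14
  have hV16 := valid_piece (K := K) netOK4 hlen4 hx hrel full4 sched4_16 hpiece4_16 hV15
  have hV17 := valid_piece (K := K) netOK4 hlen4 hx hrel full4 sched4_17 hpiece4_17 hV16
  have hV18 := valid_piece (K := K) netOK4 hlen4 hx hrel full4 sched4_18 hpiece4_18 hV17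
  have hV19 := valid_piece (K := K) netOK4 hlen4 hx hrel full4 sched4_19 hpiece4_19 hV18
  have hV20 := valid_piece (K := K) netOK4 hlen4 hx hrel full4 sched4_20 hpiece4_20 hV19
  have hV21 := valid_piece (K := K) netOK4 hlen4 hx hrel full4 sched4_21 hpiece4_21 hV20
  have hV22 := valid_piece (K := K) netOK4 hlen4 hx hrel full4 sched4_22 hpiece4_22 hV21
  have hV23 := valid_piece (K := K) netOK4 hlen4 hx hrel full4 sched4_23 hpiece4_23 hV22
  have hV24 := valid_piece (K := K) netOK4 hlen4 hx hrel full4 sched4_24 hpiece4_24 hV23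
  have hV25 := valid_piece (K := K) netOK4 hlen4 hx hrel full4 sched4_25 hpiece4_25 hV24
  have hV26 := valid_piece (K := K) netOK4 hlen4 hx hrel full4 sched4_26 hpiece4_26 hV25
  have hV27 := valid_piece (K := K) netOK4 hlen4 hx hrel full4 sched4_27 hpiece4_27 hV26
  have hV28 := valid_piece (K := K) netOK4 hlen4 hx hrel full4 sched4_28 hpiece4_28 hV27
  have hV29 := valid_piece (K := K) netOK4 hlen4 hx hrel full4 sched4_29 hpiece4_29 hV28
  have hV30 := valid_piece (K := K) netOK4 hlen4 hx hrel full4 sched4_30 hpiece4_30 hV29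
  have hV31 := valid_piece (K := K) netOK4 hlen4 hx hrel full4 sched4_31 hpiece4_31 hV30
  have hV32 := valid_piece (K := K) netOK4 hlen4 hx hrel full4 sched4_32 hpiece4_32 hV31
  have hV33 := valid_piece (K := K) netOK4 hlen4 hx hrel full4 sched4_33 hpiece4_33 hV32
  have hV34 := valid_piece (K := K) netOK4 hlen4 hx hrel full4 sched4_34 hpiece4_34 hV33
  have hV35 := valid_piece (K := K) netOK4 hlen4 hx hrel full4 sched4_35 hpiece4_35 hV34
  exact ⟨w, cover_last netOK4 hx 266560 (by norm_num) hw0 E4_35 hV35 hfull4 hlast4⟩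

end Cfsg.Agent.Helper72.HePres
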