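import Cfsg.Prelude.Def_Spor_He
import Cfsg.Agent.Lib.Helper72.HePresLvS
import Cfsg.Agent.Lib.Helper72.HePresLv4
import Cfsg.Agent.Lib.Helper72.HePresPerm
import Cfsg.Agent.Lib.Helper72.HeMain

/-!
# The presented Held group is simple of order 4030387200

The order of the presented group is bounded by a tower of coset enumeration certificates
(`TCClosure`, `TCNet`) over the subgroups generated by `a`, `a b`, `a b c e`, `a b c e d` and all the
generators, of indices `2, 4, 6, 315, 266560`; the presented group maps onto the permutation group of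
`HeMain`, which is simple of this order.
-/

set_option autoImplicit false

namespace Cfsg.Agent.Helper72.HePres

open Cfsg.Agent.Helper72.PermNet Cfsg.Agent.Helper72.TCC Cfsg.Agent.Helper72.TCNet
open Cfsg.Agent.Helper72.HePresPerm Cfsg.Spor

/-- The generators in the order `a, b, c, e, d, f, g`. -/
def gen : ℕ → He.Gen
  | 0 => .a
  | 1 => .b
  | 2 => .c
  | 3 => .e
  | 4 => .d
  | 5 => .f
  | _ => .g

/-- The number of a generator. -/
def idx : He.Gen → ℕ
  | .a => 0
  | .b => 1
  | .c => 2
  | .e => 3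
  | .d => 4
  | .f => 5
  | .g => 6

theorem gen_idx (u : He.Gen) : gen (idx u) = u := by cases u <;> rfl

theorem idx_lt (u : He.Gen) : idx u < 7 := by cases u <;> decide

/-- The generators of the presented group. -/
noncomputable def x (g : ℕ) : Spor.He := if g < 7 then PresentedGroup.of (gen g) else 1

theorem x_eq {g : ℕ} (hg : g < 7) : x g = PresentedGroup.of (gen g) := by
  unfold x
  rw [if_pos hg]

theorem mem_nodes (u : He.Gen) : u ∈ coxNodes He.edges := by cases u <;> decide

theorem cox (u v : He.Gen) :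
    ((PresentedGroup.of u : Spor.He) * PresentedGroup.of v) ^ coxLabel He.edges u v = 1 := by
  have h : (FreeGroup.of u * FreeGroup.of v) ^ coxLabel He.edges u v ∈
      coxRelators He.edges ∪ {r | r ∈ He.extra} :=
    Or.inl ⟨u, mem_nodes u, v, mem_nodes v, rfl⟩
  have := PresentedGroup.one_of_mem h
  rwa [map_pow, map_mul] at this

theorem of_sq (u : He.Gen) : (PresentedGroup.of u : Spor.He) * PresentedGroup.of u = 1 := by
  have := cox u u
  have hl : coxLabel He.edges u u = 1 := by unfold coxLabel; rw [if_pos rfl]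
  rwa [hl, pow_one] at this

theorem of_inv (u : He.Gen) : (PresentedGroup.of u : Spor.He)⁻¹ = PresentedGroup.of u :=
  inv_eq_of_mul_eq_one_right (of_sq u)

theorem hx (g : ℕ) : x g * x g = 1 := by
  unfold x
  split_ifs
  · exact of_sq _
  · exact mul_one 1

theorem prod_rep {G : Type*} [Monoid G] (y : ℕ → G) (l : List ℕ) (m : ℕ) :
    (((List.replicate m l).flatten).map y).prod = ((l.map y).prod) ^ m := by
  induction m with
  | zero => simp
  | succ m ih =>
    rw [List.replicate_succ, List.flatten_cons, List.map_append, List.prod_append, ih, pow_succ']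

theorem rel_0_1 : (([0, 1, 0, 1, 0, 1, 0, 1] : List ℕ).map x).prod = 1 := by
  have h := cox (gen 0) (gen 1)
  have hl : coxLabel He.edges (gen 0) (gen 1) = 4 := by decide
  rw [hl] at h
  show (((List.replicate 4 [0, 1]).flatten).map x).prod = 1
  rw [prod_rep]
  simp only [List.map_cons, List.map_nil, List.prod_cons, List.prod_nil, mul_one]
  rw [x_eq (by norm_num : 0 < 7), x_eq (by norm_num : 1 < 7)]
  exact h

theorem rel_0_2 : (([0, 2, 0, 2] : List ℕ).map x).prod = 1 := by
  have h := cox (gen 0) (gen 2)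
  have hl : coxLabel He.edges (gen 0) (gen 2) = 2 := by decide
  rw [hl] at h
  show (((List.replicate 2 [0, 2]).flatten).map x).prod = 1
  rw [prod_rep]
  simp only [List.map_cons, List.map_nil, List.prod_cons, List.prod_nil, mul_one]
  rw [x_eq (by norm_num : 0 < 7), x_eq (by norm_num : 2 < 7)]
  exact h

theorem rel_0_3 : (([0, 3, 0, 3] : List ℕ).map x).prod = 1 := by
  have h := cox (gen 0) (gen 3)
  have hl : coxLabel He.edges (gen 0) (gen 3) = 2 := by decide
  rw [hl] at h
  show (((List.replicate 2 [0, 3]).flatten).map x).prod = 1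
  rw [prod_rep]
  simp only [List.map_cons, List.map_nil, List.prod_cons, List.prod_nil, mul_one]
  rw [x_eq (by norm_num : 0 < 7), x_eq (by norm_num : 3 < 7)]
  exact h

theorem rel_0_4 : (([0, 4, 0, 4] : List ℕ).map x).prod = 1 := by
  have h := cox (gen 0) (gen 4)
  have hl : coxLabel He.edges (gen 0) (gen 4) = 2 := by decide
  rw [hl] at h
  show (((List.replicate 2 [0, 4]).flatten).map x).prod = 1
  rw [prod_rep]
  simp only [List.map_cons, List.map_nil, List.prod_cons, List.prod_nil, mul_one]
  rw [x_eq (by norm_num : 0 < 7), x_eq (by norm_num : 4 < 7)]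
  exact h

theorem rel_0_5 : (([0, 5, 0, 5] : List ℕ).map x).prod = 1 := by
  have h := cox (gen 0) (gen 5)
  have hl : coxLabel He.edges (gen 0) (gen 5) = 2 := by decide
  rw [hl] at h
  show (((List.replicate 2 [0, 5]).flatten).map x).prod = 1
  rw [prod_rep]
  simp only [List.map_cons, List.map_nil, List.prod_cons, List.prod_nil, mul_one]
  rw [x_eq (by norm_num : 0 < 7), x_eq (by norm_num : 5 < 7)]
  exact h

theorem rel_0_6 : (([0, 6, 0, 6] : List ℕ).map x).prod = 1 := by
  have h := cox (gen 0) (gen 6)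
  have hl : coxLabel He.edges (gen 0) (gen 6) = 2 := by decide
  rw [hl] at h
  show (((List.replicate 2 [0, 6]).flatten).map x).prod = 1
  rw [prod_rep]
  simp only [List.map_cons, List.map_nil, List.prod_cons, List.prod_nil, mul_one]
  rw [x_eq (by norm_num : 0 < 7), x_eq (by norm_num : 6 < 7)]
  exact h

theorem rel_1_2 : (([1, 2, 1, 2, 1, 2] : List ℕ).map x).prod = 1 := by
  have h := cox (gen 1) (gen 2)
  have hl : coxLabel He.edges (gen 1) (gen 2) = 3 := by decide
  rw [hl] at h
  show (((List.replicate 3 [1, 2]).flatten).map x).prod = 1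
  rw [prod_rep]
  simp only [List.map_cons, List.map_nil, List.prod_cons, List.prod_nil, mul_one]
  rw [x_eq (by norm_num : 1 < 7), x_eq (by norm_num : 2 < 7)]
  exact h

theorem rel_1_3 : (([1, 3, 1, 3] : List ℕ).map x).prod = 1 := by
  have h := cox (gen 1) (gen 3)
  have hl : coxLabel He.edges (gen 1) (gen 3) = 2 := by decide
  rw [hl] at h
  show (((List.replicate 2 [1, 3]).flatten).map x).prod = 1
  rw [prod_rep]
  simp only [List.map_cons, List.map_nil, List.prod_cons, List.prod_nil, mul_one]
  rw [x_eq (by norm_num : 1 < 7), x_eq (by norm_num : 3 < 7)]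
  exact h

theorem rel_1_4 : (([1, 4, 1, 4] : List ℕ).map x).prod = 1 := by
  have h := cox (gen 1) (gen 4)
  have hl : coxLabel He.edges (gen 1) (gen 4) = 2 := by decide
  rw [hl] at h
  show (((List.replicate 2 [1, 4]).flatten).map x).prod = 1
  rw [prod_rep]
  simp only [List.map_cons, List.map_nil, List.prod_cons, List.prod_nil, mul_one]
  rw [x_eq (by norm_num : 1 < 7), x_eq (by norm_num : 4 < 7)]
  exact h

theorem rel_1_5 : (([1, 5, 1, 5] : List ℕ).map x).prod = 1 := by
  have h := cox (gen 1) (gen 5)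
  have hl : coxLabel He.edges (gen 1) (gen 5) = 2 := by decide
  rw [hl] at h
  show (((List.replicate 2 [1, 5]).flatten).map x).prod = 1
  rw [prod_rep]
  simp only [List.map_cons, List.map_nil, List.prod_cons, List.prod_nil, mul_one]
  rw [x_eq (by norm_num : 1 < 7), x_eq (by norm_num : 5 < 7)]
  exact h

theorem rel_1_6 : (([1, 6, 1, 6] : List ℕ).map x).prod = 1 := by
  have h := cox (gen 1) (gen 6)
  have hl : coxLabel He.edges (gen 1) (gen 6) = 2 := by decide
  rw [hl] at h
  show (((List.replicate 2 [1, 6]).flatten).map x).prod = 1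
  rw [prod_rep]
  simp only [List.map_cons, List.map_nil, List.prod_cons, List.prod_nil, mul_one]
  rw [x_eq (by norm_num : 1 < 7), x_eq (by norm_num : 6 < 7)]
  exact h

theorem rel_2_3 : (([2, 3, 2, 3] : List ℕ).map x).prod = 1 := by
  have h := cox (gen 2) (gen 3)
  have hl : coxLabel He.edges (gen 2) (gen 3) = 2 := by decide
  rw [hl] at h
  show (((List.replicate 2 [2, 3]).flatten).map x).prod = 1
  rw [prod_rep]
  simp only [List.map_cons, List.map_nil, List.prod_cons, List.prod_nil, mul_one]
  rw [x_eq (by norm_num : 2 < 7), x_eq (by norm_num : 3 < 7)]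
  exact h

theorem rel_2_4 : (([2, 4, 2, 4, 2, 4, 2, 4, 2, 4, 2, 4, 2, 4, 2, 4, 2, 4, 2, 4] : List ℕ).map x).prod = 1 := by
  have h := cox (gen 2) (gen 4)
  have hl : coxLabel He.edges (gen 2) (gen 4) = 10 := by decide
  rw [hl] at h
  show (((List.replicate 10 [2, 4]).flatten).map x).prod = 1
  rw [prod_rep]
  simp only [List.map_cons, List.map_nil, List.prod_cons, List.prod_nil, mul_one]
  rw [x_eq (by norm_num : 2 < 7), x_eq (by norm_num : 4 < 7)]
  exact h

theorem rel_2_5 : (([2, 5, 2, 5] : List ℕ).map x).prod = 1 := by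
  have h := cox (gen 2) (gen 5)
  have hl : coxLabel He.edges (gen 2) (gen 5) = 2 := by decide
  rw [hl] at h
  show (((List.replicate 2 [2, 5]).flatten).map x).prod = 1
  rw [prod_rep]
  simp only [List.map_cons, List.map_nil, List.prod_cons, List.prod_nil, mul_one]
  rw [x_eq (by norm_num : 2 < 7), x_eq (by norm_num : 5 < 7)]
  exact h

theorem rel_2_6 : (([2, 6, 2, 6] : List ℕ).map x).prod = 1 := by
  have h := cox (gen 2) (gen 6)
  have hl : coxLabel He.edges (gen 2) (gen 6) = 2 := by decide
  rw [hl] at h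
  show (((List.replicate 2 [2, 6]).flatten).map x).prod = 1
  rw [prod_rep]
  simp only [List.map_cons, List.map_nil, List.prod_cons, List.prod_nil, mul_one]
  rw [x_eq (by norm_num : 2 < 7), x_eq (by norm_num : 6 < 7)]
  exact h

theorem rel_3_4 : (([3, 4, 3, 4, 3, 4] : List ℕ).map x).prod = 1 := by
  have h := cox (gen 3) (gen 4)
  have hl : coxLabel He.edges (gen 3) (gen 4) = 3 := by decide
  rw [hl] at h
  show (((List.replicate 3 [3, 4]).flatten).map x).prod = 1
  rw [prod_rep]
  simp only [List.map_cons, List.map_nil, List.prod_cons, List.prod_nil, mul_one]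
  rw [x_eq (by norm_num : 3 < 7), x_eq (by norm_num : 4 < 7)]
  exact h

theorem rel_3_5 : (([3, 5, 3, 5] : List ℕ).map x).prod = 1 := by
  have h := cox (gen 3) (gen 5)
  have hl : coxLabel He.edges (gen 3) (gen 5) = 2 := by decide
  rw [hl] at h
  show (((List.replicate 2 [3, 5]).flatten).map x).prod = 1
  rw [prod_rep]
  simp only [List.map_cons, List.map_nil, List.prod_cons, List.prod_nil, mul_one]
  rw [x_eq (by norm_num : 3 < 7), x_eq (by norm_num : 5 < 7)]
  exact h

theorem rel_3_6 : (([3, 6, 3, 6] : List ℕ).map x).prod = 1 := by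
  have h := cox (gen 3) (gen 6)
  have hl : coxLabel He.edges (gen 3) (gen 6) = 2 := by decide
  rw [hl] at h
  show (((List.replicate 2 [3, 6]).flatten).map x).prod = 1
  rw [prod_rep]
  simp only [List.map_cons, List.map_nil, List.prod_cons, List.prod_nil, mul_one]
  rw [x_eq (by norm_num : 3 < 7), x_eq (by norm_num : 6 < 7)]
  exact h

theorem rel_4_5 : (([4, 5, 4, 5, 4, 5] : List ℕ).map x).prod = 1 := by
  have h := cox (gen 4) (gen 5)
  have hl : coxLabel He.edges (gen 4) (gen 5) = 3 := by decide
  rw [hl] at h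
  show (((List.replicate 3 [4, 5]).flatten).map x).prod = 1
  rw [prod_rep]
  simp only [List.map_cons, List.map_nil, List.prod_cons, List.prod_nil, mul_one]
  rw [x_eq (by norm_num : 4 < 7), x_eq (by norm_num : 5 < 7)]
  exact h

theorem rel_4_6 : (([4, 6, 4, 6, 4, 6] : List ℕ).map x).prod = 1 := by
  have h := cox (gen 4) (gen 6)
  have hl : coxLabel He.edges (gen 4) (gen 6) = 3 := by decide
  rw [hl] at h
  show (((List.replicate 3 [4, 6]).flatten).map x).prod = 1
  rw [prod_rep]
  simp only [List.map_cons, List.map_nil, List.prod_cons, List.prod_nil, mul_one]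
  rw [x_eq (by norm_num : 4 < 7), x_eq (by norm_num : 6 < 7)]
  exact h

theorem rel_5_6 : (([5, 6, 5, 6, 5, 6, 5, 6] : List ℕ).map x).prod = 1 := by
  have h := cox (gen 5) (gen 6)
  have hl : coxLabel He.edges (gen 5) (gen 6) = 4 := by decide
  rw [hl] at h
  show (((List.replicate 4 [5, 6]).flatten).map x).prod = 1
  rw [prod_rep]
  simp only [List.map_cons, List.map_nil, List.prod_cons, List.prod_nil, mul_one]
  rw [x_eq (by norm_num : 5 < 7), x_eq (by norm_num : 6 < 7)]
  exact h

theorem extra_mem (i : Fin 4) :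
    (PresentedGroup.mk (coxRelators He.edges ∪ {r | r ∈ He.extra}) (He.extra.get i) : Spor.He) = 1 :=
  PresentedGroup.one_of_mem (Or.inr (List.get_mem _ _))

theorem rel_e0 : (([3, 6, 5, 6, 5] : List ℕ).map x).prod = 1 := by
  have h := extra_mem 0
  change (PresentedGroup.mk _ (He.e * ((He.f * He.g) ^ 2)⁻¹) : Spor.He) = 1 at h
  simp only [map_mul, map_inv, map_pow] at h
  change (PresentedGroup.of He.Gen.e : Spor.He) *
    ((PresentedGroup.of He.Gen.f * PresentedGroup.of He.Gen.g) ^ 2)⁻¹ = 1 at h
  simp only [List.map_cons, List.map_nil, List.prod_cons, List.prod_nil, mul_one]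
  rw [x_eq (by norm_num : 3 < 7), x_eq (by norm_num : 5 < 7), x_eq (by norm_num : 6 < 7)]
  simp only [pow_succ, pow_zero, one_mul, mul_inv_rev, of_inv, mul_assoc] at h
  exact h

theorem rel_e1 : (([3, 2, 1, 0, 2, 1, 0, 2, 1, 0] : List ℕ).map x).prod = 1 := by
  have h := extra_mem 1
  change (PresentedGroup.mk _ (He.e * ((He.a * He.b * He.c) ^ 3)⁻¹) : Spor.He) = 1 at h
  simp only [map_mul, map_inv, map_pow] at h
  change (PresentedGroup.of He.Gen.e : Spor.He) *
    ((PresentedGroup.of He.Gen.a * PresentedGroup.of He.Gen.b * PresentedGroup.of He.Gen.c) ^ 3)⁻¹ = 1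
    at h
  simp only [List.map_cons, List.map_nil, List.prod_cons, List.prod_nil, mul_one]
  rw [x_eq (by norm_num : 3 < 7), x_eq (by norm_num : 2 < 7), x_eq (by norm_num : 1 < 7),
    x_eq (by norm_num : 0 < 7)]
  simp only [pow_succ, pow_zero, one_mul, mul_inv_rev, of_inv, mul_assoc] at h
  exact h

theorem rel_e2 : (([0, 4, 2, 4, 2, 4, 2, 4, 2, 4, 2] : List ℕ).map x).prod = 1 := by
  have h := extra_mem 2
  change (PresentedGroup.mk _ (He.a * ((He.c * He.d) ^ 5)⁻¹) : Spor.He) = 1 at h
  simp only [map_mul, map_inv, map_pow] at h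
  change (PresentedGroup.of He.Gen.a : Spor.He) *
    ((PresentedGroup.of He.Gen.c * PresentedGroup.of He.Gen.d) ^ 5)⁻¹ = 1 at h
  simp only [List.map_cons, List.map_nil, List.prod_cons, List.prod_nil, mul_one]
  rw [x_eq (by norm_num : 0 < 7), x_eq (by norm_num : 4 < 7), x_eq (by norm_num : 2 < 7)]
  simp only [pow_succ, pow_zero, one_mul, mul_inv_rev, of_inv, mul_assoc] at h
  exact h

theorem rel_e3 : (([2, 4, 5, 6, 2, 4, 5, 6, 2, 4, 5, 6, 2, 4, 5, 6] : List ℕ).map x).prod = 1 := by
  have h := extra_mem 3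
  change (PresentedGroup.mk _ ((He.c * He.d * He.f * He.g) ^ 4) : Spor.He) = 1 at h
  simp only [map_mul, map_pow] at h
  change ((PresentedGroup.of He.Gen.c : Spor.He) * PresentedGroup.of He.Gen.d *
    PresentedGroup.of He.Gen.f * PresentedGroup.of He.Gen.g) ^ 4 = 1 at h
  simp only [List.map_cons, List.map_nil, List.prod_cons, List.prod_nil, mul_one]
  rw [x_eq (by norm_num : 2 < 7), x_eq (by norm_num : 4 < 7), x_eq (by norm_num : 5 < 7),
    x_eq (by norm_num : 6 < 7)]
  simp only [pow_succ, pow_zero, one_mul, mul_assoc] at h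
  exact h

theorem hrelAll : ∀ r ∈ relsAll, (r.map x).prod = 1 := by
  intro r hr
  unfold relsAll at hr
  simp only [List.mem_cons, List.not_mem_nil, or_false] at hr
  rcases hr with rfl | rfl | rfl | rfl | rfl | rfl | rfl | rfl | rfl | rfl | rfl | rfl | rfl | rfl | rfl | rfl | rfl | rfl | rfl | rfl | rfl | rfl | rfl | rfl | rfl
  · exact rel_0_1
  · exact rel_0_2
  · exact rel_0_3
  · exact rel_0_4
  · exact rel_0_5
  · exact rel_0_6
  · exact rel_1_2
  · exact rel_1_3
  · exact rel_1_4
  · exact rel_1_5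
  · exact rel_1_6
  · exact rel_2_3
  · exact rel_2_4
  · exact rel_2_5
  · exact rel_2_6
  · exact rel_3_4
  · exact rel_3_5
  · exact rel_3_6
  · exact rel_4_5
  · exact rel_4_6
  · exact rel_5_6
  · exact rel_e0
  · exact rel_e1
  · exact rel_e2
  · exact rel_e3

/-! ### The tower -/

/-- The subgroup generated by the first `k` generators. -/
noncomputable def Hk (k : ℕ) : Subgroup Spor.He := Subgroup.closure (x '' {g | g < k})

theorem step (nb : ℕ) (NW : List (List (ℕ × ℕ))) (n ng k : ℕ) (rels : List (List ℕ)) (T : List ℕ)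
    (depth nrounds : ℕ) (hc : checkAll nb NW n ng k rels T depth nrounds = true)
    (hrels : ∀ r ∈ rels, r ∈ relsAll) (hn : 0 < n) (hfin : Finite (Hk k)) :
    Finite (Hk ng) ∧ Nat.card (Hk ng) ≤ n * Nat.card (Hk k) := by
  obtain ⟨w, hw⟩ := cover_of_checkAll (Hk k) x hx nb NW n ng k rels
    (fun r hr => hrelAll r (hrels r hr))
    (fun g hg => Subgroup.subset_closure ⟨g, hg, rfl⟩) T depth nrounds hn hc
  exact card_le_of_cover (Hk k) (Hk ng) n w hw

theorem Hk_zero : Hk 0 = ⊥ := by
  unfold Hk
  have : {g : ℕ | g < 0} = ∅ := by ext g; simp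
  rw [this, Set.image_empty, Subgroup.closure_empty]

theorem fin0 : Finite (Hk 0) ∧ Nat.card (Hk 0) ≤ 1 := by
  rw [Hk_zero]
  exact ⟨inferInstance, by simp⟩

theorem fin1 : Finite (Hk 1) ∧ Nat.card (Hk 1) ≤ 2 := by
  obtain ⟨h1, h2⟩ := step _ _ _ _ _ _ _ _ _ lv0 (by decide) (by norm_num) fin0.1
  exact ⟨h1, h2.trans (by have := fin0.2; omega)⟩

theorem fin2 : Finite (Hk 2) ∧ Nat.card (Hk 2) ≤ 8 := by
  obtain ⟨h1, h2⟩ := step _ _ _ _ _ _ _ _ _ lv1 (by decide) (by norm_num) fin1.1
  exact ⟨h1, h2.trans (by have := fin1.2; omega)⟩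

theorem fin4 : Finite (Hk 4) ∧ Nat.card (Hk 4) ≤ 48 := by
  obtain ⟨h1, h2⟩ := step _ _ _ _ _ _ _ _ _ lv2 (by decide) (by norm_num) fin2.1
  exact ⟨h1, h2.trans (by have := fin2.2; omega)⟩

theorem fin5 : Finite (Hk 5) ∧ Nat.card (Hk 5) ≤ 15120 := by
  obtain ⟨h1, h2⟩ := step _ _ _ _ _ _ _ _ _ lv3 (by decide) (by norm_num) fin4.1
  exact ⟨h1, h2.trans (by have := fin4.2; omega)⟩

set_option maxRecDepth 100000 in
theorem hrels4 : ∀ r ∈ rels4, r ∈ relsAll := by decide

theorem fin7 : Finite (Hk 7) ∧ Nat.card (Hk 7) ≤ 4030387200 := by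
  haveI := fin5.1
  obtain ⟨w, hw⟩ := lv4_cover (Hk 5) x hx (fun r hr => hrelAll r (hrels4 r hr))
    (fun g hg => Subgroup.subset_closure ⟨g, hg, rfl⟩)
  obtain ⟨h1, h2⟩ := card_le_of_cover (Hk 5) (Hk 7) 266560 w hw
  exact ⟨h1, h2.trans (by have := fin5.2; omega)⟩

theorem Hk_seven : Hk 7 = ⊤ := by
  rw [eq_top_iff, ← PresentedGroup.closure_range_of]
  unfold Hk
  apply Subgroup.closure_mono
  rintro _ ⟨u, rfl⟩
  exact ⟨idx u, idx_lt u, by rw [x_eq (idx_lt u), gen_idx]⟩

instance finiteHe : Finite Spor.He := by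
  have := fin7.1
  rw [Hk_seven] at this
  exact Finite.of_equiv _ Subgroup.topEquiv.toEquiv

theorem card_le : Nat.card Spor.He ≤ 4030387200 := by
  have := fin7.2
  rw [Hk_seven] at this
  rwa [← Nat.card_congr Subgroup.topEquiv.toEquiv]

/-! ### The map to the permutation group -/

/-- The permutation of a generator. -/
def f (u : He.Gen) : Equiv.Perm ℕ := el NWc [idx u]

/-- All the generators. -/
def allGens : List He.Gen := [.a, .b, .c, .d, .e, .f, .g]

theorem mem_allGens (u : He.Gen) : u ∈ allGens := by cases u <;> decide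

set_option maxRecDepth 1000000 in
set_option maxHeartbeats 0 in
theorem hcoxPerm : allGens.all (fun u => allGens.all (fun v =>
    isOne 12 NWc ((List.replicate (coxLabel He.edges u v) [idx u, idx v]).flatten))) = true := by
  decide +kernel

theorem el_map (w : List ℕ) : el NWc w = (w.map (fun g => el NWc [g])).prod := by
  induction w with
  | nil => rfl
  | cons a w ih => rw [el_cons, ih, List.map_cons, List.prod_cons]

theorem f_sq (u : He.Gen) : f u * f u = 1 := by
  have h := List.all_eq_true.1 (List.all_eq_true.1 hcoxPerm u (mem_allGens u)) u (mem_allGens u)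
  have hl : coxLabel He.edges u u = 1 := by unfold coxLabel; rw [if_pos rfl]
  rw [hl] at h
  have := el_eq_one hNWc h
  rw [el_map, prod_rep] at this
  simpa [f] using this

theorem f_inv (u : He.Gen) : (f u)⁻¹ = f u := inv_eq_of_mul_eq_one_right (f_sq u)

theorem relPerm {r : List ℕ} (hr : r ∈ relsAll) : (r.map (fun g => el NWc [g])).prod = 1 := by
  rw [← el_map]
  exact el_eq_one hNWc (List.all_eq_true.1 hrels r hr)

theorem lift_rel : ∀ r ∈ coxRelators He.edges ∪ {r | r ∈ He.extra}, FreeGroup.lift f r = 1 := by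
  rintro r (hr | hr)
  · obtain ⟨u, -, v, -, rfl⟩ := hr
    rw [map_pow, map_mul, FreeGroup.lift_apply_of, FreeGroup.lift_apply_of]
    have h := List.all_eq_true.1 (List.all_eq_true.1 hcoxPerm u (mem_allGens u)) v (mem_allGens v)
    have := el_eq_one hNWc h
    rw [el_map, prod_rep] at this
    simpa [f] using this
  · have hr' : r ∈ He.extra := hr
    unfold He.extra at hr'
    simp only [List.mem_cons, List.not_mem_nil, or_false] at hr'
    rcases hr' with rfl | rfl | rfl | rfl
    · have h := relPerm (r := [3, 6, 5, 6, 5]) (by decide)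
      simp only [List.map_cons, List.map_nil, List.prod_cons, List.prod_nil, mul_one] at h
      simp only [He.e, He.f, He.g, map_mul, map_inv, map_pow, FreeGroup.lift_apply_of]
      simp only [pow_succ, pow_zero, one_mul, mul_inv_rev, f_inv, mul_assoc]
      exact h
    · have h := relPerm (r := [3, 2, 1, 0, 2, 1, 0, 2, 1, 0]) (by decide)
      simp only [List.map_cons, List.map_nil, List.prod_cons, List.prod_nil, mul_one] at h
      simp only [He.e, He.a, He.b, He.c, map_mul, map_inv, map_pow, FreeGroup.lift_apply_of]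
      simp only [pow_succ, pow_zero, one_mul, mul_inv_rev, f_inv, mul_assoc]
      exact h
    · have h := relPerm (r := [0, 4, 2, 4, 2, 4, 2, 4, 2, 4, 2]) (by decide)
      simp only [List.map_cons, List.map_nil, List.prod_cons, List.prod_nil, mul_one] at h
      simp only [He.a, He.c, He.d, map_mul, map_inv, map_pow, FreeGroup.lift_apply_of]
      simp only [pow_succ, pow_zero, one_mul, mul_inv_rev, f_inv, mul_assoc]
      exact h
    · have h := relPerm (r := [2, 4, 5, 6, 2, 4, 5, 6, 2, 4, 5, 6, 2, 4, 5, 6]) (by decide)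
      simp only [List.map_cons, List.map_nil, List.prod_cons, List.prod_nil, mul_one] at h
      simp only [He.c, He.d, He.f, He.g, map_mul, map_pow, FreeGroup.lift_apply_of]
      simp only [pow_succ, pow_zero, one_mul, mul_assoc]
      exact h

/-- The map from the presented group to the permutations. -/
noncomputable def Φ : Spor.He →* Equiv.Perm ℕ := PresentedGroup.toGroup lift_rel

theorem Φ_x {g : ℕ} (hg : g < 7) : Φ (x g) = el NWc [g] := by
  rw [x_eq hg]
  unfold Φ
  rw [PresentedGroup.toGroup.of]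
  unfold f
  congr 2
  interval_cases g <;> rfl

theorem Φ_word {w : List ℕ} (hw : ∀ g ∈ w, g < 7) : Φ ((w.map x).prod) = el NWc w := by
  induction w with
  | nil => simp [el_nil]
  | cons a w ih =>
    rw [List.map_cons, List.prod_cons, map_mul, Φ_x (hw a List.mem_cons_self),
      ih (fun g hg => hw g (List.mem_cons_of_mem _ hg)), ← el_cons]

theorem el_of_link {a : ℕ} {w : List ℕ} (h1 : isOne 12 NWc (List.replicate 6 a ++ w) = true)
    (h2 : isOne 12 NWc (List.replicate 7 a) = true) : el NWc [a] = el NWc w := by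
  have e1 := el_eq_one hNWc h1
  have e2 := el_eq_one hNWc h2
  rw [el_append, el_replicate] at e1
  rw [el_replicate] at e2
  have e3 : el NWc [a] ^ 6 * el NWc [a] = 1 := by rw [← pow_succ]; exact e2
  exact (mul_left_cancel (e3.trans e1.symm))

theorem el7 : el NWc [7] = el He.NW [0] := by
  unfold el wordSt wordSt
  rw [hnetA]

theorem el8 : el NWc [8] = el He.NW [1] := by
  unfold el wordSt wordSt
  rw [hnetB]

theorem G_le : HeMain.G ≤ Φ.range := by
  show Lv He.NW He.T 0 ≤ Φ.range
  unfold Lv
  rw [Subgroup.closure_le]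
  rintro g ⟨s, hs, rfl⟩
  rw [HeMain.gens0] at hs
  simp only [List.mem_cons, List.not_mem_nil, or_false] at hs
  rcases hs with rfl | rfl
  · rw [← el7, el_of_link hlinkA hordA, ← Φ_word (by decide)]
    exact ⟨_, rfl⟩
  · rw [← el8, el_of_link hlinkB hordB, ← Φ_word (by decide)]
    exact ⟨_, rfl⟩

/-- The presented Held group is simple of order `4030387200`. -/
theorem main : IsSimpleGroup Spor.He ∧ Nat.card Spor.He = 4030387200 := by
  have hfinR : Finite Φ.range := Finite.of_surjective _ Φ.rangeRestrict_surjective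
  have h1 : Nat.card Φ.range ≤ Nat.card Spor.He :=
    Nat.card_le_card_of_surjective _ Φ.rangeRestrict_surjective
  have h2 : Nat.card HeMain.G ≤ Nat.card Φ.range := Subgroup.card_le_of_le G_le
  rw [HeMain.card_G] at h2
  have hcard : Nat.card Spor.He = 4030387200 := le_antisymm card_le (h2.trans h1)
  have hcardR : Nat.card Φ.range = 4030387200 := le_antisymm (h1.trans card_le) h2
  have hGR : HeMain.G = Φ.range :=
    Subgroup.eq_of_le_of_card_ge G_le (by rw [HeMain.card_G, hcardR])
  have hbij : Function.Bijective Φ.rangeRestrict :=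
    Φ.rangeRestrict_surjective.bijective_of_nat_card_le (by rw [hcard, hcardR])
  have e : Spor.He ≃* Φ.range := MulEquiv.ofBijective Φ.rangeRestrict hbij
  have : IsSimpleGroup Φ.range := by
    rw [← hGR]
    exact HeMain.simpleG
  exact ⟨e.isSimpleGroup, hcard⟩

end Cfsg.Agent.Helper72.HePres
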