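import Cfsg.Agent.Lib.Helper72.HePresL4R3
import Cfsg.Agent.Lib.Helper72.HePresL4Base
import Cfsg.Agent.Lib.Helper72.HePresL4E0
import Cfsg.Agent.Lib.Helper72.HePresL4E1

/-!
# Coset enumeration certificate for the presented group (he), level 4: piece 1 of the deductions
-/

set_option autoImplicit false

namespace Cfsg.Agent.Helper72.HePres

open Cfsg.Agent.Helper72.PermNet Cfsg.Agent.Helper72.TCC Cfsg.Agent.Helper72.TCNet
open Cfsg.Agent.Helper72.TCSched

/-- The deductions of piece 1: (relator, place). -/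
def sched4_1 : List (ℕ × ℕ) := [(2, 0), (3, 0), (4, 0), (5, 0), (7, 0), (8, 0), (9, 0), (10, 0), (11, 0), (13, 0), (14, 0), (15, 1), (16, 0), (17, 0), (18, 1), (19, 1), (21, 0), (21, 1), (21, 2), (21, 3), (21, 4), (23, 0), (23, 5), (23, 6), (24, 0), (24, 2), (24, 3), (1, 0), (2, 0), (3, 0), (4, 0), (5, 0), (6, 0), (6, 1), (7, 0)]

set_option maxRecDepth 1000000 in
set_option maxHeartbeats 0 in
theorem hpiece4_1 : runSched pm4 full4 rels4 sched4_1 E4_0 = E4_1 := by
  decide +kernel

end Cfsg.Agent.Helper72.HePres
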