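import Cfsg.Agent.Lib.Helper72.HePres
import Cfsg.Agent.S1683

/-!
# The subgroup `S₄(4):2` of the presented Held group

The presented Held group is isomorphic to the permutation group of `HeMain` by `HePres.Φ`; the
subgroup of the statement has index `2058` (`S1683`) and its image fixes the point `0`, so that the
image is the stabilizer of `0`, which has a subgroup of index `2` isomorphic to the symplectic group.
-/

set_option autoImplicit false

namespace Cfsg.Agent.Helper72.HePresSub

open Cfsg.Agent.Helper72.PermNet Cfsg.Agent.Helper72.TCC Cfsg.Agent.Helper72.TCNet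
open Cfsg.Agent.Helper72.HePresPerm Cfsg.Agent.Helper72.HePres Cfsg.Spor
open Cfsg.Agent.Helper72.HeBlk Cfsg.Agent.Helper72.HeSp Cfsg.Agent.Helper72.PermFin

theorem card_He : Nat.card Spor.He = 4030387200 := main.2

theorem range_and_inj : Φ.range = HeMain.G ∧ Function.Injective Φ := by
  have hfinR : Finite Φ.range := Finite.of_surjective _ Φ.rangeRestrict_surjective
  have h1 : Nat.card Φ.range ≤ Nat.card Spor.He :=
    Nat.card_le_card_of_surjective _ Φ.rangeRestrict_surjective
  have h2 : Nat.card HeMain.G ≤ Nat.card Φ.range := Subgroup.card_le_of_le G_le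
  rw [HeMain.card_G] at h2
  have hcardR : Nat.card Φ.range = 4030387200 := le_antisymm (h1.trans card_le) h2
  have hGR : HeMain.G = Φ.range :=
    Subgroup.eq_of_le_of_card_ge G_le (by rw [HeMain.card_G, hcardR])
  have hbij : Function.Bijective Φ.rangeRestrict :=
    Φ.rangeRestrict_surjective.bijective_of_nat_card_le (by rw [card_He, hcardR])
  refine ⟨hGR.symm, ?_⟩
  intro a b hab
  apply hbij.1
  exact Subtype.ext hab

theorem range_Φ : Φ.range = HeMain.G := range_and_inj.1

theorem Φ_injective : Function.Injective Φ := range_and_inj.2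

/-- The generators of the subgroup, as words. -/
def ws : List (List ℕ) :=
  [[0], [2], [4], [3], [5], [0, 1, 0, 1], (List.replicate 7 [1, 2, 4, 3]).flatten]

set_option maxRecDepth 1000000 in
set_option maxHeartbeats 0 in
theorem hfix : ws.all (fun w => applyWs NWc w 1 == 1) = true := by decide +kernel

theorem hws : ∀ w ∈ ws, ∀ g ∈ w, g < 7 := by decide

theorem fix_zero {w : List ℕ} (hw : w ∈ ws) : el NWc w 0 = 0 := by
  have h := List.all_eq_true.1 hfix w hw
  rw [beq_iff_eq] at h
  have h2 := testBit_applyWs hNWc w 1 0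
  rw [h] at h2
  have h3 : (1 : ℕ).testBit (el NWc w 0) = true := by
    rw [← h2]
    decide
  exact Nat.testBit_one_eq_true_iff_self_eq_zero.1 h3

/-- The relators. -/
abbrev rels : Set (FreeGroup He.Gen) := coxRelators He.edges ∪ {r | r ∈ He.extra}

/-- The generating set of the subgroup. -/
abbrev S7 : Set (FreeGroup He.Gen) :=
  {He.a, He.c, He.d, He.e, He.f, (He.a * He.b) ^ 2, (He.b * He.c * He.d * He.e) ^ 7}

/-- The subgroup. -/
abbrev Hs : Subgroup Spor.He := (Subgroup.closure S7).map (PresentedGroup.mk rels)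

theorem mk_of (u : He.Gen) :
    (PresentedGroup.mk rels (FreeGroup.of u) : Spor.He) = PresentedGroup.of u := rfl

theorem gen_word : ∀ s ∈ S7, ∃ w ∈ ws, (PresentedGroup.mk rels s : Spor.He) = (w.map x).prod := by
  intro s hs
  simp only [S7, Set.mem_insert_iff, Set.mem_singleton_iff] at hs
  rcases hs with rfl | rfl | rfl | rfl | rfl | rfl | rfl
  · refine ⟨[0], by decide, ?_⟩
    simp only [List.map_cons, List.map_nil, List.prod_cons, List.prod_nil, mul_one]
    rw [x_eq (by norm_num : 0 < 7)]
    rfl
  · refine ⟨[2], by decide, ?_⟩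
    simp only [List.map_cons, List.map_nil, List.prod_cons, List.prod_nil, mul_one]
    rw [x_eq (by norm_num : 2 < 7)]
    rfl
  · refine ⟨[4], by decide, ?_⟩
    simp only [List.map_cons, List.map_nil, List.prod_cons, List.prod_nil, mul_one]
    rw [x_eq (by norm_num : 4 < 7)]
    rfl
  · refine ⟨[3], by decide, ?_⟩
    simp only [List.map_cons, List.map_nil, List.prod_cons, List.prod_nil, mul_one]
    rw [x_eq (by norm_num : 3 < 7)]
    rfl
  · refine ⟨[5], by decide, ?_⟩
    simp only [List.map_cons, List.map_nil, List.prod_cons, List.prod_nil, mul_one]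
    rw [x_eq (by norm_num : 5 < 7)]
    rfl
  · refine ⟨(List.replicate 2 [0, 1]).flatten, by decide, ?_⟩
    rw [prod_rep]
    simp only [List.map_cons, List.map_nil, List.prod_cons, List.prod_nil, mul_one]
    rw [x_eq (by norm_num : 0 < 7), x_eq (by norm_num : 1 < 7), map_pow, map_mul]
    rfl
  · refine ⟨(List.replicate 7 [1, 2, 4, 3]).flatten, by decide, ?_⟩
    rw [prod_rep]
    simp only [List.map_cons, List.map_nil, List.prod_cons, List.prod_nil, mul_one]
    rw [x_eq (by norm_num : 1 < 7), x_eq (by norm_num : 2 < 7), x_eq (by norm_num : 4 < 7),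
      x_eq (by norm_num : 3 < 7), map_pow, map_mul, map_mul, map_mul, ← mul_assoc, ← mul_assoc]
    rfl

theorem map_le : Hs.map Φ ≤ HeMain.K1 := by
  rw [Subgroup.map_le_iff_le_comap]
  show (Subgroup.closure S7).map (PresentedGroup.mk rels) ≤ _
  rw [Subgroup.map_le_iff_le_comap, Subgroup.closure_le]
  intro s hs
  obtain ⟨w, hw, e⟩ := gen_word s hs
  show Φ (PresentedGroup.mk rels s) ∈ HeMain.K1
  rw [e, Φ_word (hws w hw)]
  apply HeMain.mem_K1
  · rw [← range_Φ, ← Φ_word (hws w hw)]
    exact ⟨_, rfl⟩
  · exact fix_zero hw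

theorem index_Hs : Hs.index = 2058 := Cfsg.Agent.S1683.result.1

theorem card_Hs : Nat.card Hs = 1958400 := by
  have h := Hs.index_mul_card
  rw [index_Hs, card_He] at h
  have h2 : 2058 * Nat.card Hs = 2058 * 1958400 := by rw [h]
  exact Nat.eq_of_mul_eq_mul_left (by norm_num) h2

theorem map_eq : Hs.map Φ = HeMain.K1 := by
  apply Subgroup.eq_of_le_of_card_ge map_le
  rw [HeMain.card_K1, Subgroup.card_map_of_injective Φ_injective, card_Hs]

/-- The subgroup as a group of permutations. -/
noncomputable def ψ : Hs →* Equiv.Perm ℕ := Φ.comp Hs.subtype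

theorem ψ_injective : Function.Injective ψ := by
  intro a b h
  apply Subtype.ext
  exact Φ_injective h

theorem exists_ψ_eq {g : Equiv.Perm ℕ} (hg : g ∈ HeMain.K1) : ∃ s : Hs, ψ s = g := by
  rw [← map_eq] at hg
  obtain ⟨h, hh, rfl⟩ := hg
  exact ⟨⟨h, hh⟩, rfl⟩

/-- The subgroup of index `2`. -/
noncomputable def N : Subgroup Hs := N0.comap ψ

/-- It is isomorphic to `N0`. -/
noncomputable def equivN : N ≃* N0 :=
  comapEquiv ψ ψ_injective N0 (fun _ hg => exists_ψ_eq (HeMain.N0_le hg))

theorem card_N : Nat.card N = 979200 := by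
  rw [Nat.card_congr equivN.toEquiv, card_N0]

theorem index_N : N.index = 2 := by
  have h := N.index_mul_card
  rw [card_N, card_Hs] at h
  have h2 : N.index * 979200 = 2 * 979200 := by rw [h]
  exact Nat.eq_of_mul_eq_mul_right (by norm_num) h2

theorem nonempty_equiv_sp : Nonempty (N ≃* Matrix.symplecticGroup (Fin 2) F4) := by
  obtain ⟨e1⟩ := HeBlk.nonempty_mulEquiv
  obtain ⟨e2⟩ := HeSp.nonempty_mulEquiv
  exact ⟨equivN.trans (e1.trans e2)⟩

theorem main : ∃ (N : Subgroup Hs) (K : Type) (_ : Field K) (_ : Fintype K),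
    N.Normal ∧ N.index = 2 ∧ Fintype.card K = 4 ∧
      Nonempty (N ≃* Matrix.symplecticGroup (Fin 2) K) :=
  ⟨N, F4, inferInstance, inferInstance, Subgroup.normal_of_index_eq_two index_N, index_N,
    F4.card_F4, nonempty_equiv_sp⟩

end Cfsg.Agent.Helper72.HePresSub
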