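import Cfsg.Agent.Lib.Helper72.J1A5Data

/-!
# The centralizer of the involution `(XY)^5` of `J₁` is `2 × A₅`: assembly
-/

set_option autoImplicit false

namespace Cfsg.Agent.Helper72.J1

open Cfsg.Spor Equiv

/-! ### A generic recognition lemma for `2 × A` -/

theorem zmod2_cases : ∀ a b : Multiplicative (ZMod 2),
    (a = 1 ∧ b = 1 ∧ a * b = 1) ∨ (a = 1 ∧ b ≠ 1 ∧ a * b ≠ 1) ∨
      (a ≠ 1 ∧ b = 1 ∧ a * b ≠ 1) ∨ (a ≠ 1 ∧ b ≠ 1 ∧ a * b = 1) := by
  decide

/-- The homomorphism from the group of order two determined by an involution. -/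
noncomputable def zHom {C : Type*} [Group C] (t : C) (ht : t * t = 1) :
    Multiplicative (ZMod 2) →* C where
  toFun ε := if ε = 1 then 1 else t
  map_one' := by simp
  map_mul' a b := by
    rcases zmod2_cases a b with ⟨h1, h2, h3⟩ | ⟨h1, h2, h3⟩ | ⟨h1, h2, h3⟩ | ⟨h1, h2, h3⟩
    · simp [h1, h2]
    · simp only [if_neg h3, if_pos h1, if_neg h2, one_mul]
    · simp only [if_neg h3, if_pos h2, if_neg h1, mul_one]
    · simp only [if_pos h3, if_neg h1, if_neg h2, ht]

theorem prod_iso {C A : Type*} [Group C] [Group A] [Finite C] [Finite A] (t : C)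
    (ht : t * t = 1) (htc : ∀ c : C, t * c = c * t) (ψ : A →* C) (hinj : Function.Injective ψ)
    (hnot : ∀ a, ψ a ≠ t) (hcard : Nat.card C ≤ 2 * Nat.card A) :
    Nonempty (C ≃* Multiplicative (ZMod 2) × A) := by
  have hcomm : ∀ (m : Multiplicative (ZMod 2)) (n : A), Commute (zHom t ht m) (ψ n) := by
    intro m n
    show zHom t ht m * ψ n = ψ n * zHom t ht m
    show (if m = 1 then 1 else t) * ψ n = ψ n * (if m = 1 then 1 else t)
    split_ifs
    · rw [one_mul, mul_one]
    · exact htc _
  let Φ : Multiplicative (ZMod 2) × A →* C := (zHom t ht).noncommCoprod ψ hcomm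
  have hΦ : ∀ m n, Φ (m, n) = (if m = 1 then 1 else t) * ψ n := fun m n => rfl
  have hΦinj : Function.Injective Φ := by
    rw [injective_iff_map_eq_one]
    rintro ⟨m, n⟩ h
    rw [hΦ] at h
    by_cases hm : m = 1
    · rw [if_pos hm, one_mul] at h
      have hn : n = 1 := hinj (by rw [h, map_one])
      rw [hm, hn]; rfl
    · rw [if_neg hm] at h
      exfalso
      apply hnot n
      have h2 : t * (t * ψ n) = t := by rw [h, mul_one]
      rwa [← mul_assoc, ht, one_mul] at h2
  have hc : Nat.card (Multiplicative (ZMod 2) × A) = 2 * Nat.card A := by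
    rw [Nat.card_prod]
    congr 1
    rw [Nat.card_eq_fintype_card, Fintype.card_multiplicative, ZMod.card]
  have hbij : Function.Bijective Φ :=
    hΦinj.bijective_of_nat_card_le (by rw [hc]; exact hcard)
  exact ⟨(MulEquiv.ofBijective Φ hbij).symm⟩

/-! ### The embedding of `A₅` -/

/-- The map into the matrix monoid. -/
def psi0 : alternatingGroup (Fin 5) →* Mat where
  toFun σ := dec (code σ.1)
  map_one' := by
    show dec (code 1) = 1
    rw [code_one, dec_idE]
  map_mul' σ τ := by
    show dec (code (σ.1 * τ.1)) = dec (code σ.1) * dec (code τ.1)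
    rw [← code_mul σ.1 (Perm.mem_alternatingGroup.1 σ.2) τ.1 (Perm.mem_alternatingGroup.1 τ.2),
      dec_mulE]

/-- The map into the general linear group. -/
def psi1 : alternatingGroup (Fin 5) →* GL (Fin 7) (ZMod 11) := psi0.toHomUnits

theorem psi1_val (σ : alternatingGroup (Fin 5)) : ((psi1 σ : GL (Fin 7) (ZMod 11)) : Mat) =
    dec (code σ.1) := rfl

theorem rep_psi1 (σ : alternatingGroup (Fin 5)) : Rep (psi1 σ) (code σ.1) := by
  have hs := Perm.mem_alternatingGroup.1 σ.2
  have h := List.all_eq_true.1 code_exp (key σ.1) (List.mem_range.2 (key_lt σ.1))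
  rw [Bool.or_eq_true, beq_iff_eq, beq_iff_eq] at h
  rcases h with h | h
  · exact absurd h (code_ne_zero σ.1 hs)
  · have hr := rep_exp (expT.getD (key σ.1) 0)
    have heq : psi1 σ = expG (expT.getD (key σ.1) 0) := by
      apply Units.ext
      rw [psi1_val, hr.2]
      show dec (codeT.getD (key σ.1) 0) = _
      rw [h]
    rw [heq]
    exact hr.congr h.symm

theorem psi1_comm (σ : alternatingGroup (Fin 5)) : a1G * psi1 σ = psi1 σ * a1G :=
  (rep_t.mul (rep_psi1 σ)).eq
    (((rep_psi1 σ).mul rep_t).congr (code_comm σ.1 (Perm.mem_alternatingGroup.1 σ.2)))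

/-- The map into `G`. -/
def psi2 : alternatingGroup (Fin 5) →* G := psi1.codRestrict G (fun σ => (rep_psi1 σ).1)

theorem psi2_mem (σ : alternatingGroup (Fin 5)) :
    psi2 σ ∈ Subgroup.centralizer ({tJ} : Set G) := by
  rw [Subgroup.mem_centralizer_iff]
  intro h hh
  rw [Set.mem_singleton_iff] at hh
  subst hh
  exact Subtype.ext (psi1_comm σ)

/-- The map into the centralizer. -/
def psi3 : alternatingGroup (Fin 5) →* Subgroup.centralizer ({tJ} : Set G) :=
  psi2.codRestrict _ psi2_mem

theorem psi3_val (σ : alternatingGroup (Fin 5)) :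
    (((psi3 σ : Subgroup.centralizer ({tJ} : Set G)) : G) : GL (Fin 7) (ZMod 11)) = psi1 σ := rfl

theorem psi3_injective : Function.Injective psi3 := by
  rw [injective_iff_map_eq_one]
  intro σ h
  by_contra hne
  have hne' : σ.1 ≠ 1 := fun h1 => hne (Subtype.ext h1)
  have h1 := code_ne_one σ.1 (Perm.mem_alternatingGroup.1 σ.2) hne'
  apply (rep_psi1 σ).ne rep_one h1
  rw [← psi3_val, h]
  rfl

theorem tJ_mem : tJ ∈ Subgroup.centralizer ({tJ} : Set G) := by
  rw [Subgroup.mem_centralizer_iff]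
  intro h hh
  rw [Set.mem_singleton_iff] at hh
  rw [hh]

/-- The involution as an element of its centralizer. -/
def tC : Subgroup.centralizer ({tJ} : Set G) := ⟨tJ, tJ_mem⟩

theorem psi3_ne (σ : alternatingGroup (Fin 5)) : psi3 σ ≠ tC := by
  intro h
  apply (rep_psi1 σ).ne rep_t (code_ne_t σ.1 (Perm.mem_alternatingGroup.1 σ.2))
  rw [← psi3_val, h]
  rfl

theorem a1G_sq : a1G * a1G = 1 :=
  (rep_t.mul rep_t).eq (rep_one.congr (by decide +kernel))

theorem a1G_ne : a1G ≠ 1 := rep_t.ne rep_one (by decide +kernel)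

theorem orderOf_tJ : orderOf tJ = 2 := by
  apply orderOf_eq_prime
  · rw [pow_two]
    exact Subtype.ext a1G_sq
  · intro h
    exact a1G_ne (congrArg Subtype.val h)

theorem tJ_sq : tJ * tJ = 1 := by
  apply Subtype.ext
  rw [Subgroup.coe_mul, Subgroup.coe_one]
  exact a1G_sq

theorem tC_sq : tC * tC = 1 := by
  apply Subtype.ext
  rw [Subgroup.coe_mul, Subgroup.coe_one]
  exact tJ_sq

theorem tC_comm (c : Subgroup.centralizer ({tJ} : Set G)) : tC * c = c * tC := by
  apply Subtype.ext
  rw [Subgroup.coe_mul, Subgroup.coe_mul]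
  exact Subgroup.mem_centralizer_iff.1 c.2 tJ rfl

theorem card_A5 : Nat.card (alternatingGroup (Fin 5)) = 60 := by
  rw [nat_card_alternatingGroup, Nat.card_fin]
  rfl

theorem centralizer_iso : Nonempty (Subgroup.centralizer ({tJ} : Set G) ≃*
    Multiplicative (ZMod 2) × alternatingGroup (Fin 5)) := by
  have hcard : Nat.card (Subgroup.centralizer ({tJ} : Set G)) ≤
      2 * Nat.card (alternatingGroup (Fin 5)) := by
    rw [card_A5]
    exact card_centralizer_le
  exact prod_iso tC tC_sq tC_comm psi3 psi3_injective psi3_ne hcard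

end Cfsg.Agent.Helper72.J1
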