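import Cfsg.Agent.Lib.Helper72.J1ClassData

/-!
# The centralizer of the involution `(XY)^5` of `J₁` has order at most `120`

We list `1463` pairwise distinct conjugates of the involution; as `175560 = 1463 * 120`, the
centralizer has order at most `120`.
-/

set_option autoImplicit false

namespace Cfsg.Agent.Helper72.J1

open Cfsg.Spor

/-! ### Codes below `11 ^ 49` determine the matrix -/

theorem sumTo_congr {f g : ℕ → ℕ} {n : ℕ} (h : ∀ q < n, f q = g q) : sumTo f n = sumTo g n := by
  induction n with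
  | zero => rfl
  | succ n ih => rw [sumTo, sumTo, ih (fun q hq => h q (by omega)), h n (by omega)]

theorem mod_pow_eq_sumTo (a n : ℕ) : a % 11 ^ n = sumTo (fun q => dg a q * 11 ^ q) n := by
  induction n with
  | zero => simp [sumTo, Nat.mod_one]
  | succ n ih =>
    rw [Nat.mod_pow_succ, ih, sumTo]
    unfold dg
    ring

theorem dg_eq_of_dec_eq {a b : ℕ} (h : dec a = dec b) {k : ℕ} (hk : k < 49) : dg a k = dg b k := by
  have h1 : dec a ⟨k / 7, by omega⟩ ⟨k % 7, by omega⟩ = dec b ⟨k / 7, by omega⟩ ⟨k % 7, by omega⟩ := by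
    rw [h]
  simp only [dec_apply] at h1
  have h2 : 7 * (k / 7) + k % 7 = k := by omega
  rw [h2] at h1
  have h3 := (ZMod.natCast_eq_natCast_iff' _ _ _).1 h1
  rwa [Nat.mod_eq_of_lt (dg_lt a k), Nat.mod_eq_of_lt (dg_lt b k)] at h3

theorem eq_of_dec_eq {a b : ℕ} (ha : a < 11 ^ 49) (hb : b < 11 ^ 49) (h : dec a = dec b) :
    a = b := by
  rw [← Nat.mod_eq_of_lt ha, ← Nat.mod_eq_of_lt hb, mod_pow_eq_sumTo, mod_pow_eq_sumTo]
  exact sumTo_congr (fun q hq => by rw [dg_eq_of_dec_eq h hq])

/-! ### The table of conjugates -/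

def kt (k : ℕ) : ℕ := (KT.getD (k / 38) []).getD (k % 38) 0
def kp (k : ℕ) : ℕ := (KP.getD (k / 38) []).getD (k % 38) 0
def kr (k : ℕ) : ℕ := (KR.getD (k / 38) []).getD (k % 38) 0

def gE (i : ℕ) : ℕ := if i = 0 then xE else yE
def gG (i : ℕ) : GL (Fin 7) (ZMod 11) := if i = 0 then jankoX else jankoY

theorem rep_g (i : ℕ) : Rep (gG i) (gE i) := by
  unfold gG gE
  split_ifs
  · exact rep_x
  · exact rep_y

/-- Entry `k` is the root, or it is the conjugate of its parent by a generator. -/
def chkK (k : ℕ) : Bool :=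
  kt k == a1E ||
    (decide (kp k / 2 < 1463) && decide (kr (kp k / 2) < kr k) &&
      mulE (gE (kp k % 2)) (kt (kp k / 2)) == mulE (kt k) (gE (kp k % 2)))

set_option maxHeartbeats 0 in
set_option maxRecDepth 100000 in
theorem allK : (List.range 1463).all chkK = true := by decide +kernel

set_option maxHeartbeats 0 in
set_option maxRecDepth 100000 in
theorem sortedK : (List.range 1462).all (fun k => decide (kt k < kt (k + 1))) = true := by
  decide +kernel

theorem kt_last : kt 1462 < 11 ^ 49 := by decide +kernel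

theorem kt_lt {i j : ℕ} (hij : i < j) (hj : j < 1463) : kt i < kt j := by
  induction j, hij using Nat.le_induction with
  | base =>
    have := List.all_eq_true.1 sortedK i (List.mem_range.2 (by omega))
    simpa using this
  | succ j hj' ih =>
    have h1 := ih (by omega)
    have h2 := List.all_eq_true.1 sortedK j (List.mem_range.2 (by omega))
    rw [decide_eq_true_eq] at h2
    omega

theorem kt_bound {k : ℕ} (hk : k < 1463) : kt k < 11 ^ 49 := by
  rcases Nat.lt_or_ge k 1462 with h | h
  · exact (kt_lt h (by norm_num)).trans kt_last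
  · have : k = 1462 := by omega
    rw [this]; exact kt_last

theorem kt_inj {i j : ℕ} (hi : i < 1463) (hj : j < 1463) (h : kt i = kt j) : i = j := by
  rcases Nat.lt_trichotomy i j with hlt | heq | hgt
  · exact absurd h (kt_lt hlt hj).ne
  · exact heq
  · exact absurd h.symm (kt_lt hgt hi).ne

/-- Every entry of the table is the code of a conjugate of `a1G` in `G`. -/
theorem conj_rep : ∀ n k : ℕ, k < 1463 → kr k = n → ∃ c ∈ G, Rep (c * a1G * c⁻¹) (kt k) := by
  intro n
  induction n using Nat.strong_induction_on with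
  | _ n ih =>
    intro k hk hkr
    have h := List.all_eq_true.1 allK k (List.mem_range.2 hk)
    unfold chkK at h
    rw [Bool.or_eq_true] at h
    rcases h with h | h
    · rw [beq_iff_eq] at h
      refine ⟨1, G.one_mem, ?_⟩
      rw [one_mul, inv_one, mul_one, h]
      exact rep_a1
    · rw [Bool.and_eq_true, Bool.and_eq_true, decide_eq_true_eq, decide_eq_true_eq,
        beq_iff_eq] at h
      obtain ⟨⟨hj, hr⟩, hc⟩ := h
      obtain ⟨c, hcG, hrep⟩ := ih (kr (kp k / 2)) (hkr ▸ hr) (kp k / 2) hj rfl
      refine ⟨gG (kp k % 2) * c, G.mul_mem (rep_g _).1 hcG, ?_⟩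
      have h2 := (rep_g (kp k % 2)).conj hrep hc
      have h3 : gG (kp k % 2) * c * a1G * (gG (kp k % 2) * c)⁻¹ =
          gG (kp k % 2) * (c * a1G * c⁻¹) * (gG (kp k % 2))⁻¹ := by group
      rw [h3]
      exact h2

instance finite_G : Finite G := Nat.finite_of_card_ne_zero (by rw [card_G]; norm_num)

/-- The involution `(XY)^5` as an element of `G`. -/
def tJ : G := ⟨a1G, rep_a1.1⟩

theorem card_class_ge : 1463 ≤ Nat.card (ConjClasses.mk tJ).carrier := by
  have hex : ∀ k : Fin 1463, ∃ c ∈ G, Rep (c * a1G * c⁻¹) (kt k.val) :=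
    fun k => conj_rep _ k.val k.2 rfl
  choose c hc hrep using hex
  let f : Fin 1463 → (ConjClasses.mk tJ).carrier := fun k =>
    ⟨⟨c k, hc k⟩ * tJ * ⟨c k, hc k⟩⁻¹, by
      rw [ConjClasses.mem_carrier_iff_mk_eq, ConjClasses.mk_eq_mk_iff_isConj, isConj_comm,
        isConj_iff]
      exact ⟨⟨c k, hc k⟩, rfl⟩⟩
  have hf : Function.Injective f := by
    intro i j hij
    have h1 : c i * a1G * (c i)⁻¹ = c j * a1G * (c j)⁻¹ :=
      congrArg (fun z : (ConjClasses.mk tJ).carrier => ((z : G) : GL (Fin 7) (ZMod 11))) hij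
    have h2 : dec (kt i.val) = dec (kt j.val) := by
      rw [← (hrep i).2, ← (hrep j).2, h1]
    exact Fin.ext (kt_inj i.2 j.2 (eq_of_dec_eq (kt_bound i.2) (kt_bound j.2) h2))
  have := Nat.card_le_card_of_injective f hf
  rwa [Nat.card_fin] at this

/-- Class size times centralizer order is the group order. -/
theorem card_class_mul_card_centralizer' {H : Type*} [Group H] [Finite H] (g : H) :
    Nat.card (ConjClasses.mk g).carrier * Nat.card (Subgroup.centralizer ({g} : Set H)) =
      Nat.card H := by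
  rw [Subgroup.nat_card_centralizer_nat_card_stabilizer, ← ConjAct.orbit_eq_carrier_conjClasses,
    Nat.card_coe_set_eq, ← MulAction.index_stabilizer, mul_comm, Subgroup.card_mul_index]
  exact Nat.card_congr ConjAct.ofConjAct.toEquiv

theorem card_centralizer_le : Nat.card (Subgroup.centralizer ({tJ} : Set G)) ≤ 120 := by
  have h1 := card_class_mul_card_centralizer' tJ
  rw [card_G] at h1
  have h2 := card_class_ge
  by_contra hlt
  have hlt : 121 ≤ Nat.card (Subgroup.centralizer ({tJ} : Set G)) := by omega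
  have h3 : 1463 * 121 ≤ Nat.card (ConjClasses.mk tJ).carrier *
      Nat.card (Subgroup.centralizer ({tJ} : Set G)) := Nat.mul_le_mul h2 hlt
  omega

end Cfsg.Agent.Helper72.J1
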