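import Mathlib
import Cfsg.Prelude.Def_Spor_J1

/-!
# Encoded arithmetic for `7 × 7` matrices over `ZMod 11`

A matrix is stored as one natural number: entry `(i, j)` is the base-`11` digit number `7 * i + j`.
All computations are then natural-number arithmetic, which the kernel evaluates quickly.
Products are computed row-wise: the rows of the right factor are packed in base `1024`, so that one
big multiplication handles seven entries at a time.
-/

set_option autoImplicit false

namespace Cfsg.Agent.Helper72.J1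

/-- `sumTo f n = f 0 + ⋯ + f (n - 1)`. -/
def sumTo (f : ℕ → ℕ) : ℕ → ℕ
  | 0 => 0
  | n + 1 => sumTo f n + f n

theorem sumTo_lt (B : ℕ) (hB : 0 < B) (f : ℕ → ℕ) (hf : ∀ q, f q < B) (n : ℕ) :
    sumTo (fun q => f q * B ^ q) n < B ^ n := by
  induction n with
  | zero => simp [sumTo]
  | succ n ih =>
    simp only [sumTo]
    have h1 : f n * B ^ n ≤ (B - 1) * B ^ n := Nat.mul_le_mul_right _ (by have := hf n; omega)
    have h2 : B ^ (n + 1) = (B - 1) * B ^ n + B ^ n := by
      rw [pow_succ]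
      obtain ⟨c, rfl⟩ : ∃ c, B = c + 1 := ⟨B - 1, by omega⟩
      simp only [Nat.add_sub_cancel]
      ring
    omega

/-- Digit extraction from a sum of digits times powers of the base. -/
theorem digit_sumTo (B : ℕ) (hB : 0 < B) (f : ℕ → ℕ) (hf : ∀ q, f q < B) (n pos : ℕ)
    (h : pos < n) : sumTo (fun q => f q * B ^ q) n / B ^ pos % B = f pos := by
  induction n with
  | zero => omega
  | succ n ih =>
    simp only [sumTo]
    rcases Nat.lt_succ_iff_lt_or_eq.1 h with hlt | heq
    · have hpow : B ^ n = B ^ pos * (B * B ^ (n - pos - 1)) := by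
        rw [← pow_succ', ← pow_add]; congr 1; omega
      rw [hpow, show f n * (B ^ pos * (B * B ^ (n - pos - 1))) =
        B ^ pos * (f n * (B * B ^ (n - pos - 1))) by ring,
        Nat.add_mul_div_left _ _ (pow_pos hB pos)]
      rw [show f n * (B * B ^ (n - pos - 1)) = B * (f n * B ^ (n - pos - 1)) by ring,
        Nat.add_mul_mod_self_left]
      exact ih hlt
    · subst heq
      rw [Nat.add_mul_div_right _ _ (pow_pos hB pos),
        Nat.div_eq_of_lt (sumTo_lt B hB f hf pos), zero_add, Nat.mod_eq_of_lt (hf pos)]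

/-- The `k`-th base-`11` digit of `a`. -/
def dg (a k : ℕ) : ℕ := a / 11 ^ k % 11

theorem dg_lt (a k : ℕ) : dg a k < 11 := Nat.mod_lt _ (by norm_num)

/-- Row `k` of the matrix encoded by `b`, packed in base `1024`. -/
def rowB (b k : ℕ) : ℕ :=
  dg b (7 * k + 0) * 1024 ^ 0 + dg b (7 * k + 1) * 1024 ^ 1 + dg b (7 * k + 2) * 1024 ^ 2
    + dg b (7 * k + 3) * 1024 ^ 3 + dg b (7 * k + 4) * 1024 ^ 4 + dg b (7 * k + 5) * 1024 ^ 5
    + dg b (7 * k + 6) * 1024 ^ 6

/-- Row `i` of the product, packed in base `1024` (entries not yet reduced mod `11`). -/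
def rowProd (a b i : ℕ) : ℕ :=
  dg a (7 * i + 0) * rowB b 0 + dg a (7 * i + 1) * rowB b 1 + dg a (7 * i + 2) * rowB b 2
    + dg a (7 * i + 3) * rowB b 3 + dg a (7 * i + 4) * rowB b 4 + dg a (7 * i + 5) * rowB b 5
    + dg a (7 * i + 6) * rowB b 6

/-- Entry `(i, j)` of the product of the matrices encoded by `a` and `b`, as a plain sum. -/
def mulCoef (a b i j : ℕ) : ℕ :=
  dg a (7 * i + 0) * dg b (7 * 0 + j) + dg a (7 * i + 1) * dg b (7 * 1 + j)
    + dg a (7 * i + 2) * dg b (7 * 2 + j) + dg a (7 * i + 3) * dg b (7 * 3 + j)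
    + dg a (7 * i + 4) * dg b (7 * 4 + j) + dg a (7 * i + 5) * dg b (7 * 5 + j)
    + dg a (7 * i + 6) * dg b (7 * 6 + j)

theorem mulCoef_lt (a b i j : ℕ) : mulCoef a b i j < 1024 := by
  unfold mulCoef
  have h : ∀ p q : ℕ, dg a p * dg b q ≤ 100 := fun p q =>
    Nat.mul_le_mul (Nat.le_of_lt_succ (dg_lt a p)) (Nat.le_of_lt_succ (dg_lt b q))
  have h0 := h (7 * i + 0) (7 * 0 + j)
  have h1 := h (7 * i + 1) (7 * 1 + j)
  have h2 := h (7 * i + 2) (7 * 2 + j)
  have h3 := h (7 * i + 3) (7 * 3 + j)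
  have h4 := h (7 * i + 4) (7 * 4 + j)
  have h5 := h (7 * i + 5) (7 * 5 + j)
  have h6 := h (7 * i + 6) (7 * 6 + j)
  omega

theorem rowProd_eq (a b i : ℕ) :
    rowProd a b i = sumTo (fun j => mulCoef a b i j * 1024 ^ j) 7 := by
  simp only [rowProd, rowB, sumTo, mulCoef]
  ring

/-- Reduce the seven base-`1024` digits of a packed row mod `11` and repack them in base `11`. -/
def rowNorm (r : ℕ) : ℕ :=
  r / 1024 ^ 0 % 1024 % 11 * 11 ^ 0 + r / 1024 ^ 1 % 1024 % 11 * 11 ^ 1
    + r / 1024 ^ 2 % 1024 % 11 * 11 ^ 2 + r / 1024 ^ 3 % 1024 % 11 * 11 ^ 3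
    + r / 1024 ^ 4 % 1024 % 11 * 11 ^ 4 + r / 1024 ^ 5 % 1024 % 11 * 11 ^ 5
    + r / 1024 ^ 6 % 1024 % 11 * 11 ^ 6

/-- Encoded matrix product. -/
def mulE (a b : ℕ) : ℕ :=
  rowNorm (rowProd a b 0) * 11 ^ 0 + rowNorm (rowProd a b 1) * 11 ^ 7
    + rowNorm (rowProd a b 2) * 11 ^ 14 + rowNorm (rowProd a b 3) * 11 ^ 21
    + rowNorm (rowProd a b 4) * 11 ^ 28 + rowNorm (rowProd a b 5) * 11 ^ 35
    + rowNorm (rowProd a b 6) * 11 ^ 42

theorem mulE_eq (a b : ℕ) : mulE a b =
    sumTo (fun q => (rowProd a b (q / 7) / 1024 ^ (q % 7) % 1024 % 11) * 11 ^ q) 49 := by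
  simp only [mulE, rowNorm, sumTo]
  norm_num
  ring

theorem dg_mulE (a b i j : ℕ) (hi : i < 7) (hj : j < 7) :
    dg (mulE a b) (7 * i + j) = mulCoef a b i j % 11 := by
  rw [mulE_eq]
  unfold dg
  rw [digit_sumTo 11 (by norm_num) (fun q => rowProd a b (q / 7) / 1024 ^ (q % 7) % 1024 % 11)
    (fun q => Nat.mod_lt _ (by norm_num)) 49 (7 * i + j) (by omega)]
  have h1 : (7 * i + j) / 7 = i := by omega
  have h2 : (7 * i + j) % 7 = j := by omega
  simp only [h1, h2]
  rw [rowProd_eq, digit_sumTo 1024 (by norm_num) (fun j => mulCoef a b i j)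
    (fun j => mulCoef_lt a b i j) 7 j hj]

/-- The matrix encoded by a natural number. -/
def dec (a : ℕ) : Matrix (Fin 7) (Fin 7) (ZMod 11) :=
  Matrix.of fun i j => ((dg a (7 * i.val + j.val) : ℕ) : ZMod 11)

theorem dec_apply (a : ℕ) (i j : Fin 7) : dec a i j = ((dg a (7 * i.val + j.val) : ℕ) : ZMod 11) :=
  rfl

theorem dec_mulE (a b : ℕ) : dec (mulE a b) = dec a * dec b := by
  ext i j
  rw [Matrix.mul_apply, Fin.sum_univ_seven]
  simp only [dec_apply]
  rw [dg_mulE a b i.val j.val i.2 j.2]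
  unfold mulCoef
  rw [ZMod.natCast_mod]
  push_cast
  rfl

/-- Encoded identity matrix. -/
def idE : ℕ := 97017234237464720195340918138392575865960457120487

theorem dec_idE : dec idE = 1 := by
  decide +kernel

/-- Encoded generator `X`. -/
def xE : ℕ := 59742217373217410912008818046396455710289787

/-- Encoded generator `Y`. -/
def yE : ℕ := 124412789792502026216006414760324641976925555873257

theorem dec_xE : dec xE = Cfsg.jankoMatrixX := by
  decide +kernel

theorem dec_yE : dec yE = Cfsg.jankoMatrixY := by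
  decide +kernel

/-- A boolean test certifying that two codes give different matrices. -/
def neqE (a b : ℕ) : Bool := (List.range 49).any (fun k => dg a k != dg b k)

theorem dec_ne_of_neqE {a b : ℕ} (h : neqE a b = true) : dec a ≠ dec b := by
  unfold neqE at h
  rw [List.any_eq_true] at h
  obtain ⟨k, hk, hne⟩ := h
  rw [List.mem_range] at hk
  intro heq
  have h1 : dec a ⟨k / 7, by omega⟩ ⟨k % 7, by omega⟩ = dec b ⟨k / 7, by omega⟩ ⟨k % 7, by omega⟩ := by
    rw [heq]
  simp only [dec_apply] at h1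
  have h2 : 7 * (k / 7) + k % 7 = k := by omega
  rw [h2] at h1
  have h3 := (ZMod.natCast_eq_natCast_iff' _ _ _).1 h1
  rw [Nat.mod_eq_of_lt (dg_lt a k), Nat.mod_eq_of_lt (dg_lt b k)] at h3
  simp [h3] at hne

/-- Encoded powers. -/
def powE (a : ℕ) : ℕ → ℕ
  | 0 => idE
  | n + 1 => mulE a (powE a n)

theorem dec_powE (a n : ℕ) : dec (powE a n) = dec a ^ n := by
  induction n with
  | zero => simp [powE, dec_idE]
  | succ n ih => rw [powE, dec_mulE, ih, pow_succ']

end Cfsg.Agent.Helper72.J1
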