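import Cfsg.Agent.Lib.Helper72.J1Data

/-!
# The order of `⟨X, Y⟩ ≤ GL₇(11)` is at most `175560`
-/

set_option autoImplicit false

namespace Cfsg.Agent.Helper72.J1

/-- The ambient matrix monoid. -/
abbrev Mat := Matrix (Fin 7) (Fin 7) (ZMod 11)

section generic
variable {M : Type*} [Monoid M]

/-- Covering lemma: if `S * T ⊆ T * L` and `1 ∈ T` then `closure S ⊆ T * L`. -/
theorem cover (S : Set M) (L : Submonoid M) (n : ℕ) (t : ℕ → M) (h0 : t 0 = 1) (hn : 0 < n)
    (hS : ∀ s ∈ S, ∀ k < n, ∃ j < n, ∃ l ∈ L, s * t k = t j * l) :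
    ∀ g ∈ Submonoid.closure S, ∃ k < n, ∃ l ∈ L, g = t k * l := by
  intro g hg
  induction hg using Submonoid.closure_induction_left with
  | one => exact ⟨0, hn, 1, L.one_mem, by rw [h0, mul_one]⟩
  | mul_left s hs y _ ih =>
    obtain ⟨k, hk, l, hl, rfl⟩ := ih
    obtain ⟨j, hj, l', hl', h⟩ := hS s hs k hk
    exact ⟨j, hj, l' * l, L.mul_mem hl' hl, by rw [← mul_assoc, h, mul_assoc]⟩

/-- Counting version of the covering lemma. -/
theorem card_cover (C L : Submonoid M) [Finite L] (n m : ℕ) (t : ℕ → M) (hL : Nat.card L ≤ m)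
    (h : ∀ g ∈ C, ∃ k < n, ∃ l ∈ L, g = t k * l) : Finite C ∧ Nat.card C ≤ n * m := by
  classical
  choose k hk l hl hg using h
  let f : C → Fin n × L := fun g => (⟨k g.1 g.2, hk g.1 g.2⟩, ⟨l g.1 g.2, hl g.1 g.2⟩)
  have hf : Function.Injective f := by
    intro a b hab
    have h1 : k a.1 a.2 = k b.1 b.2 := congrArg (fun p => (p.1 : ℕ)) hab
    have h2 : l a.1 a.2 = l b.1 b.2 := congrArg (fun p => (p.2 : M)) hab
    apply Subtype.ext
    rw [hg a.1 a.2, hg b.1 b.2, h1, h2]
  have hfin : Finite C := Finite.of_injective f hf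
  refine ⟨hfin, ?_⟩
  calc Nat.card C ≤ Nat.card (Fin n × L) := Nat.card_le_card_of_injective f hf
    _ = n * Nat.card L := by rw [Nat.card_prod, Nat.card_fin]
    _ ≤ n * m := Nat.mul_le_mul_left _ hL

end generic

/-! ### The three levels -/

/-- Generators at the three levels, as sets of matrices. -/
def S3s : Set Mat := {g | ∃ i < 2, g = dec (S3.getD i 0)}
def S2s : Set Mat := {g | ∃ i < 3, g = dec (S2.getD i 0)}
def S1s : Set Mat := {g | ∃ i < 2, g = dec (S1.getD i 0)}

def L3 : Submonoid Mat := Submonoid.closure S3s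
def L2 : Submonoid Mat := Submonoid.closure S2s
def L1 : Submonoid Mat := Submonoid.closure S1s

theorem chk3_all {q : ℕ} (hq : q < 110) : chk3 q = true :=
  List.all_eq_true.1 all3 q (List.mem_range.2 hq)

theorem chk2_all {q : ℕ} (hq : q < 36) : chk2 q = true :=
  List.all_eq_true.1 all2 q (List.mem_range.2 hq)

theorem chk1_all {q : ℕ} (hq : q < 532) : chk1 q = true :=
  List.all_eq_true.1 all1 q (List.mem_range.2 hq)

theorem chkP3_all {m : ℕ} (h1 : 1 ≤ m) (hm : m < 55) : chkP3 m = true := by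
  have := List.all_eq_true.1 allP3 (m - 1) (List.mem_range.2 (by omega))
  simpa [Nat.sub_add_cancel h1] using this

theorem chkP2_all {a : ℕ} (h1 : 1 ≤ a) (ha : a < 12) : chkP2 a = true := by
  have := List.all_eq_true.1 allP2 (a - 1) (List.mem_range.2 (by omega))
  simpa [Nat.sub_add_cancel h1] using this

/-- Level 3 equation in matrix form. -/
theorem eq3 {m i : ℕ} (hm : m < 55) (hi : i < 2) :
    C3.getD (2 * m + i) 0 < 55 ∧
      dec (S3.getD i 0) * dec (T3.getD m 0) = dec (T3.getD (C3.getD (2 * m + i) 0) 0) := by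
  have h := chk3_all (q := 2 * m + i) (by omega)
  unfold chk3 at h
  rw [Bool.and_eq_true, decide_eq_true_eq, beq_iff_eq] at h
  have h1 : (2 * m + i) % 2 = i := by omega
  have h2 : (2 * m + i) / 2 = m := by omega
  rw [h1, h2] at h
  refine ⟨h.1, ?_⟩
  rw [← dec_mulE, h.2]

theorem L3_cover : ∀ g ∈ L3, ∃ m < 55, ∃ l ∈ (⊥ : Submonoid Mat), g = dec (T3.getD m 0) * l := by
  apply cover S3s ⊥ 55 (fun m => dec (T3.getD m 0)) (by rw [T3_zero, dec_idE]) (by norm_num)
  rintro s ⟨i, hi, rfl⟩ m hm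
  obtain ⟨h1, h2⟩ := eq3 hm hi
  exact ⟨_, h1, 1, Submonoid.one_mem _, by rw [mul_one]; exact h2⟩

theorem T3_mem : ∀ m < 55, dec (T3.getD m 0) ∈ L3 := by
  intro m
  induction m using Nat.strong_induction_on with
  | _ m ih =>
    intro hm
    rcases Nat.eq_zero_or_pos m with rfl | hpos
    · rw [T3_zero, dec_idE]; exact L3.one_mem
    · have h := chkP3_all hpos hm
      unfold chkP3 at h
      rw [Bool.and_eq_true, decide_eq_true_eq, beq_iff_eq] at h
      obtain ⟨hlt, hc⟩ := h
      set c := P3.getD m 0 with hcdef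
      have hpar : c / 2 < 55 := by omega
      have hi : c % 2 < 2 := Nat.mod_lt _ (by norm_num)
      obtain ⟨-, h2⟩ := eq3 hpar hi
      have hcc : 2 * (c / 2) + c % 2 = c := by omega
      rw [hcc, hc] at h2
      rw [← h2]
      exact L3.mul_mem (Submonoid.subset_closure ⟨c % 2, hi, rfl⟩) (ih (c / 2) hlt hpar)

theorem card_L3 : Finite L3 ∧ Nat.card L3 ≤ 55 := by
  have h := card_cover L3 (⊥ : Submonoid Mat) 55 1 (fun m => dec (T3.getD m 0))
    (by simp) L3_cover
  simpa using h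

theorem L3_eq_T3 : ∀ g ∈ L3, ∃ m < 55, g = dec (T3.getD m 0) := by
  intro g hg
  obtain ⟨m, hm, l, hl, rfl⟩ := L3_cover g hg
  rw [Submonoid.mem_bot] at hl
  exact ⟨m, hm, by rw [hl, mul_one]⟩

theorem S3s_subset_S2s : S3s ⊆ S2s := by
  rintro g ⟨i, hi, rfl⟩
  interval_cases i
  · exact ⟨0, by norm_num, by decide +kernel⟩
  · exact ⟨2, by norm_num, by decide +kernel⟩

theorem L3_le_L2 : L3 ≤ L2 := Submonoid.closure_mono S3s_subset_S2s

/-- Level 2 equation in matrix form. -/
theorem eq2 {a i : ℕ} (ha : a < 12) (hi : i < 3) :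
    C2.getD (3 * a + i) 0 / 55 < 12 ∧
      dec (S2.getD i 0) * dec (T2.getD a 0) =
        dec (T2.getD (C2.getD (3 * a + i) 0 / 55) 0) *
          dec (T3.getD (C2.getD (3 * a + i) 0 % 55) 0) := by
  have h := chk2_all (q := 3 * a + i) (by omega)
  unfold chk2 at h
  rw [Bool.and_eq_true, decide_eq_true_eq, beq_iff_eq] at h
  have h1 : (3 * a + i) % 3 = i := by omega
  have h2 : (3 * a + i) / 3 = a := by omega
  rw [h1, h2] at h
  refine ⟨h.1, ?_⟩
  rw [← dec_mulE, h.2, dec_mulE]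

theorem L2_cover : ∀ g ∈ L2, ∃ a < 12, ∃ l ∈ L3, g = dec (T2.getD a 0) * l := by
  apply cover S2s L3 12 (fun a => dec (T2.getD a 0)) (by rw [T2_zero, dec_idE]) (by norm_num)
  rintro s ⟨i, hi, rfl⟩ a ha
  obtain ⟨h1, h2⟩ := eq2 ha hi
  exact ⟨_, h1, _, T3_mem _ (Nat.mod_lt _ (by norm_num)), h2⟩

theorem T2_mem : ∀ a < 12, dec (T2.getD a 0) ∈ L2 := by
  intro a
  induction a using Nat.strong_induction_on with
  | _ a ih =>
    intro ha
    rcases Nat.eq_zero_or_pos a with rfl | hpos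
    · rw [T2_zero, dec_idE]; exact L2.one_mem
    · have h := chkP2_all hpos ha
      unfold chkP2 at h
      rw [Bool.and_eq_true, decide_eq_true_eq, beq_iff_eq] at h
      obtain ⟨hlt, hc⟩ := h
      set c := P2.getD a 0 with hcdef
      have hpar : c / 3 < 12 := by omega
      have hi : c % 3 < 3 := Nat.mod_lt _ (by norm_num)
      obtain ⟨-, h2⟩ := eq2 hpar hi
      have hcc : 3 * (c / 3) + c % 3 = c := by omega
      rw [hcc, hc] at h2
      have h3 : a * 55 / 55 = a := by omega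
      have h4 : a * 55 % 55 = 0 := by omega
      rw [h3, h4, T3_zero, dec_idE, mul_one] at h2
      rw [← h2]
      exact L2.mul_mem (Submonoid.subset_closure ⟨c % 3, hi, rfl⟩) (ih (c / 3) hlt hpar)

theorem card_L2 : Finite L2 ∧ Nat.card L2 ≤ 12 * 55 := by
  have := card_L3.1
  exact card_cover L2 L3 12 55 (fun a => dec (T2.getD a 0)) card_L3.2 L2_cover

/-- Level 1 equation in matrix form. -/
theorem eq1 {k i : ℕ} (hk : k < 266) (hi : i < 2) :
    C1.getD (2 * k + i) 0 / 660 < 266 ∧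
      dec (S1.getD i 0) * dec (T1.getD k 0) =
        dec (T1.getD (C1.getD (2 * k + i) 0 / 660) 0) *
          (dec (T2.getD (C1.getD (2 * k + i) 0 / 55 % 12) 0) *
            dec (T3.getD (C1.getD (2 * k + i) 0 % 55) 0)) := by
  have h := chk1_all (q := 2 * k + i) (by omega)
  unfold chk1 at h
  rw [Bool.and_eq_true, decide_eq_true_eq, beq_iff_eq] at h
  have h1 : (2 * k + i) % 2 = i := by omega
  have h2 : (2 * k + i) / 2 = k := by omega
  rw [h1, h2] at h
  refine ⟨h.1, ?_⟩
  rw [← dec_mulE, h.2, dec_mulE, dec_mulE]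

theorem L1_cover : ∀ g ∈ L1, ∃ k < 266, ∃ l ∈ L2, g = dec (T1.getD k 0) * l := by
  apply cover S1s L2 266 (fun k => dec (T1.getD k 0)) (by rw [T1_zero, dec_idE]) (by norm_num)
  rintro s ⟨i, hi, rfl⟩ k hk
  obtain ⟨h1, h2⟩ := eq1 hk hi
  exact ⟨_, h1, _, L2.mul_mem (T2_mem _ (Nat.mod_lt _ (by norm_num)))
    (L3_le_L2 (T3_mem _ (Nat.mod_lt _ (by norm_num)))), h2⟩

theorem card_L1 : Finite L1 ∧ Nat.card L1 ≤ 175560 := by
  have := card_L2.1
  have h := card_cover L1 L2 266 (12 * 55) (fun k => dec (T1.getD k 0)) card_L2.2 L1_cover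
  exact ⟨h.1, h.2.trans (by norm_num)⟩

theorem S1s_eq : S1s = {Cfsg.jankoMatrixX, Cfsg.jankoMatrixY} := by
  ext g
  constructor
  · rintro ⟨i, hi, rfl⟩
    interval_cases i
    · left
      have : S1.getD 0 0 = xE := by decide +kernel
      rw [this, dec_xE]
    · right
      have : S1.getD 1 0 = yE := by decide +kernel
      rw [this, dec_yE]
      rfl
  · rintro (rfl | rfl)
    · exact ⟨0, by norm_num, by
        have : S1.getD 0 0 = xE := by decide +kernel
        rw [this, dec_xE]⟩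
    · exact ⟨1, by norm_num, by
        have : S1.getD 1 0 = yE := by decide +kernel
        rw [this, dec_yE]⟩

/-! ### Transfer to the group -/

open Cfsg.Spor

/-- The group `⟨X, Y⟩`. -/
abbrev G : Subgroup (GL (Fin 7) (ZMod 11)) := Subgroup.closure {jankoX, jankoY}

theorem val_mem_L1 : ∀ g ∈ G, (g : Mat) ∈ L1 := by
  intro g hg
  induction hg using Subgroup.closure_induction with
  | mem g hg =>
    apply Submonoid.subset_closure
    rw [S1s_eq]
    rcases hg with rfl | rfl
    · left; rfl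
    · right; rfl
  | one => exact L1.one_mem
  | mul a b _ _ ha hb => rw [Units.val_mul]; exact L1.mul_mem ha hb
  | inv a _ ha =>
    have hpos : 0 < orderOf a := orderOf_pos a
    have h1 : a⁻¹ = a ^ (orderOf a - 1) := by
      apply inv_eq_of_mul_eq_one_left
      rw [← pow_succ, Nat.sub_add_cancel hpos, pow_orderOf_eq_one]
    rw [h1, Units.val_pow_eq_pow_val]
    exact L1.pow_mem ha _

theorem card_G_le : Nat.card G ≤ 175560 := by
  have := card_L1.1
  let f : G → L1 := fun g => ⟨((g : GL (Fin 7) (ZMod 11)) : Mat), val_mem_L1 g.1 g.2⟩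
  have hf : Function.Injective f := by
    intro a b hab
    have h1 : ((a : GL (Fin 7) (ZMod 11)) : Mat) = ((b : GL (Fin 7) (ZMod 11)) : Mat) :=
      congrArg Subtype.val hab
    exact Subtype.ext (Units.ext h1)
  exact (Nat.card_le_card_of_injective f hf).trans card_L1.2

end Cfsg.Agent.Helper72.J1
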