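import Cfsg.Agent.S1010
import Mathlib

set_option autoImplicit false

/-!
# Reduction for "no finite group has exactly 22 Sylow 3-subgroups"

A group of minimal order with exactly `22` Sylow `3`-subgroups is simple.
-/

namespace Cfsg.Agent.Helper72.N3Red

open Subgroup MulAction
open scoped Pointwise

universe u

theorem fact3 : Fact (Nat.Prime 3) := ⟨Nat.prime_three⟩
theorem fact2 : Fact (Nat.Prime 2) := ⟨Nat.prime_two⟩

attribute [local instance] fact3 fact2

/-- A minimal counterexample. -/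
structure MinCE (G : Type u) [Group G] [Finite G] : Prop where
  card22 : Nat.card (Sylow 3 G) = 22
  min : ∀ (H : Type u) [Group H] [Finite H], Nat.card H < Nat.card G → Nat.card (Sylow 3 H) ≠ 22

section gen
variable {G : Type u} [Group G] [Finite G]

theorem card_eq_relIndex_mul {H K : Subgroup G} (h : H ≤ K) :
    Nat.card K = H.relIndex K * Nat.card H := by
  have h1 := Subgroup.card_mul_index (H.subgroupOf K)
  rw [Nat.card_congr (Subgroup.subgroupOfEquivOfLe h).toEquiv] at h1
  rw [Subgroup.relIndex, ← h1, mul_comm]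

/-- A number congruent to `1` mod `3` dividing `22` is `1` or `22`. -/
theorem eq_one_or_of_dvd_22 {b : ℕ} (hd : b ∣ 22) (hm : b ≡ 1 [MOD 3]) : b = 1 ∨ b = 22 := by
  have hb : b ∈ Nat.divisors 22 := Nat.mem_divisors.mpr ⟨hd, by norm_num⟩
  have hdiv : Nat.divisors 22 = {1, 2, 11, 22} := by decide
  rw [hdiv] at hb
  simp only [Finset.mem_insert, Finset.mem_singleton] at hb
  have hbm : b % 3 = 1 := hm
  rcases hb with rfl | rfl | rfl | rfl
  · left; rfl
  · omega
  · omega
  · right; rfl

end gen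

section red
variable {G : Type u} [Group G] [Finite G]
variable (h : MinCE G)
include h

/-- Normal `3`-subgroups of a minimal counterexample are trivial. -/
theorem MinCE.eq_bot_of_normal_pGroup (Q : Subgroup G) [Q.Normal] (hQ : IsPGroup 3 Q) : Q = ⊥ := by
  by_contra hne
  have h1 := S4341.card_sylow_quotient_pGroup Q hQ
  rw [h.card22] at h1
  exact h.min (G ⧸ Q) (S1010.card_quotient_lt hne) h1

/-- For a proper nontrivial normal subgroup `K`: `[K : N_K(P)] = 22` and `PK = G`. -/
theorem MinCE.complement (P : Sylow 3 G) (K : Subgroup G) [K.Normal] (hKbot : K ≠ ⊥) :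
    (normalizer ((P : Subgroup G) : Set G)).relIndex K = 22 ∧ (P : Subgroup G) ⊔ K = ⊤ := by
  obtain ⟨hmul, hmod⟩ := S4345.card_sylow_eq_mul 3 K P
  have hb22 : Nat.card (Sylow 3 (G ⧸ K)) ≠ 22 := h.min (G ⧸ K) (S1010.card_quotient_lt hKbot)
  have hbmod : Nat.card (Sylow 3 (G ⧸ K)) ≡ 1 [MOD 3] := card_sylow_modEq_one 3 (G ⧸ K)
  rw [h.card22] at hmul
  have ha22 : (normalizer ((P : Subgroup G) : Set G)).relIndex K = 22 := by
    generalize (normalizer ((P : Subgroup G) : Set G)).relIndex K = a at hmul hmod ⊢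
    generalize Nat.card (Sylow 3 (G ⧸ K)) = b at hmul hb22 hbmod
    have hbd : b ∣ 22 := ⟨a, by rw [hmul, mul_comm]⟩
    rcases eq_one_or_of_dvd_22 hbd hbmod with rfl | rfl
    · omega
    · exact absurd rfl hb22
  refine ⟨ha22, ?_⟩
  by_contra hne
  have h1 := S4341.card_sylow_of_le P ((P : Subgroup G) ⊔ K) le_sup_left
  rw [S1010.relIndex_normalizer_sup, ha22] at h1
  exact h.min _ (S1010.card_subgroup_lt hne) h1

/-- A proper nontrivial normal subgroup meets `P` trivially. -/
theorem MinCE.inf_eq_bot (P : Sylow 3 G) (K : Subgroup G) [K.Normal] (hKbot : K ≠ ⊥)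
    (hKtop : K ≠ ⊤) : (P : Subgroup G) ⊓ K = ⊥ := by
  obtain ⟨ha22, -⟩ := h.complement P K hKbot
  have h1 : Nat.card (Sylow 3 K) ∣ 22 := by
    rw [S4341.card_sylow_normal P K, ← ha22]
    exact relIndex_dvd_of_le_left K (S4341.normalizer_le_normalizer_inf _ _)
  have h2 : Nat.card (Sylow 3 K) ≡ 1 [MOD 3] := card_sylow_modEq_one 3 K
  have h3 : Nat.card (Sylow 3 K) ≠ 22 := h.min K (S1010.card_subgroup_lt hKtop)
  have h4 : Nat.card (Sylow 3 K) = 1 := by
    rcases eq_one_or_of_dvd_22 h1 h2 with h5 | h5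
    · exact h5
    · exact absurd h5 h3
  have hsub : Subsingleton (Sylow 3 K) := (Nat.card_eq_one_iff_unique.mp h4).1
  set Q : Sylow 3 K := S4341.sylowInf P K with hQ
  have hchar : (Q : Subgroup K).Characteristic := Sylow.characteristic_of_subsingleton Q
  have hn : ((Q : Subgroup K).map K.subtype).Normal := ConjAct.normal_of_characteristic_of_normal
  have hmap : (Q : Subgroup K).map K.subtype = (P : Subgroup G) ⊓ K := by
    rw [hQ, S4341.coe_sylowInf, Subgroup.subgroupOf_map_subtype]
  rw [hmap] at hn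
  exact h.eq_bot_of_normal_pGroup _ (P.isPGroup'.to_le inf_le_left)

end red


section aux
variable {G : Type u} [Group G] [Finite G]

omit [Finite G] in
theorem mem_normalizer_of_commute {S : Subgroup G} {x : G} (hx : ∀ s ∈ S, s * x = x * s) :
    x ∈ normalizer (S : Set G) := by
  rw [mem_normalizer_iff]
  intro n
  constructor
  · intro hn
    have : x * n * x⁻¹ = n := by rw [← hx n hn, mul_inv_cancel_right]
    rw [this]; exact hn
  · intro hn
    have h1 := hx _ hn
    have : n = x * n * x⁻¹ := by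
      have h2 : x * n * x⁻¹ * x = x * (x * n * x⁻¹) := h1
      have h3 : x * n = x * (x * n * x⁻¹) := by rw [← h2]; group
      exact mul_left_cancel h3
    rw [this]; exact hn

theorem card_sylow_eq_one_of_not_dvd {Y : Type*} [Group Y] [Finite Y] {p : ℕ} [Fact p.Prime]
    (hp : ¬ p ∣ Nat.card Y) : Nat.card (Sylow p Y) = 1 := by
  have hbot : ∀ T : Sylow p Y, (T : Subgroup Y) = ⊥ := by
    intro T
    have h1 := T.card_eq_multiplicity
    rw [Nat.factorization_eq_zero_of_not_dvd hp, pow_zero] at h1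
    exact Subgroup.card_eq_one.mp h1
  have hsub : Subsingleton (Sylow p Y) := ⟨fun a b => Sylow.ext ((hbot a).trans (hbot b).symm)⟩
  exact Nat.card_eq_one_iff_unique.mpr ⟨hsub, inferInstance⟩

/-- A normal `p`-subgroup lies in every Sylow `p`-subgroup. -/
theorem normal_le_sylow {Y : Type*} [Group Y] [Finite Y] {p : ℕ} [Fact p.Prime]
    (N : Subgroup Y) [N.Normal] (hN : IsPGroup p N) (T : Sylow p Y) : N ≤ (T : Subgroup Y) := by
  obtain ⟨Q, hQ⟩ := hN.exists_le_sylow
  obtain ⟨g, rfl⟩ := MulAction.exists_smul_eq Y Q T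
  rw [Sylow.coe_subgroup_smul, ← Subgroup.Normal.conj_smul_eq_self g N]
  exact Subgroup.pointwise_smul_le_pointwise_smul_iff.mpr hQ

end aux


section final
variable {G : Type u} [Group G] [Finite G]
variable (h : MinCE G)
include h

/-- A minimal counterexample has no proper nontrivial normal subgroup. -/
theorem MinCE.false_of_normal (K : Subgroup G) [hKn : K.Normal] (hKbot : K ≠ ⊥) (hKtop : K ≠ ⊤) :
    False := by
  obtain ⟨P⟩ : Nonempty (Sylow 3 G) := inferInstance
  obtain ⟨ha22, hsup⟩ := h.complement P K hKbot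
  have hinf := h.inf_eq_bot P K hKbot hKtop
  set A : Subgroup G := normalizer ((P : Subgroup G) : Set G) with hA
  set C : Subgroup G := A ⊓ K with hC
  -- `C` centralizes `P`
  have hcomm : ∀ c ∈ C, ∀ x ∈ (P : Subgroup G), c * x = x * c := by
    intro c hc x hx
    have hcA : c ∈ A := (Subgroup.mem_inf.mp hc).1
    have hcK : c ∈ K := (Subgroup.mem_inf.mp hc).2
    have h1 : c * x * c⁻¹ ∈ (P : Subgroup G) := (mem_normalizer_iff.mp hcA x).mp hx
    have h2 : c * x * c⁻¹ * x⁻¹ ∈ (P : Subgroup G) := mul_mem h1 (inv_mem hx)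
    have h3 : c * x * c⁻¹ * x⁻¹ ∈ K := by
      have h3' : x * c⁻¹ * x⁻¹ ∈ K := hKn.conj_mem _ (inv_mem hcK) x
      have h4 : c * x * c⁻¹ * x⁻¹ = c * (x * c⁻¹ * x⁻¹) := by group
      rw [h4]; exact mul_mem hcK h3'
    have h5 : c * x * c⁻¹ * x⁻¹ ∈ (P : Subgroup G) ⊓ K := Subgroup.mem_inf.mpr ⟨h2, h3⟩
    rw [hinf, mem_bot] at h5
    calc c * x = (c * x * c⁻¹ * x⁻¹) * (x * c) := by group
      _ = x * c := by rw [h5, one_mul]
  -- index of `K`
  have hidx : K.index = Nat.card (P : Subgroup G) := by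
    rw [← relIndex_top_right, ← hsup, relIndex_sup_right, ← inf_relIndex_left, hinf,
      relIndex_bot_left]
  obtain ⟨b, hb⟩ := P.isPGroup'.exists_card_eq
  -- order of `K`
  have hKcard : Nat.card K = 22 * Nat.card C := by
    have h1 := card_eq_relIndex_mul (inf_le_right : C ≤ K)
    rw [inf_relIndex_right, ha22] at h1
    exact h1
  have h3K : ¬ 3 ∣ Nat.card K := by
    have h1 := (S4341.sylowInf P K).not_dvd_index
    rw [S4341.coe_sylowInf] at h1
    have h2 : (P : Subgroup G).subgroupOf K = ⊥ := by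
      rw [Subgroup.subgroupOf_eq_bot, disjoint_iff]; exact hinf
    rwa [h2, Subgroup.index_bot] at h1
  -- a Sylow 2-subgroup of `C`
  obtain ⟨S₀⟩ : Nonempty (Sylow 2 C) := inferInstance
  set v : ℕ := (Nat.card C).factorization 2 with hv
  have hS₀card : Nat.card (S₀ : Subgroup C) = 2 ^ v := S₀.card_eq_multiplicity
  set S : Subgroup G := (S₀ : Subgroup C).map C.subtype with hS
  have hScard : Nat.card S = 2 ^ v := by
    rw [hS, Subgroup.card_map_of_injective C.subtype_injective, hS₀card]
  have hSC : S ≤ C := by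
    rw [hS]; exact Subgroup.map_subtype_le _
  have hSp : IsPGroup 2 S := IsPGroup.of_card hScard
  have hC0 : Nat.card C ≠ 0 := Nat.card_pos.ne'
  have hvC : 2 ^ v ∣ Nat.card C := by
    rw [← hS₀card]; exact Subgroup.card_subgroup_dvd_card _
  have hvC' : ¬ 2 ^ (v + 1) ∣ Nat.card C :=
    Nat.pow_succ_factorization_not_dvd hC0 Nat.prime_two
  have hdvdK : 2 ^ (v + 1) ∣ Nat.card K := by
    rw [hKcard, pow_succ]
    obtain ⟨c, hc⟩ := hvC
    exact ⟨11 * c, by rw [hc]; ring⟩
  have hdvdG : 2 ^ (v + 1) ∣ Nat.card G := hdvdK.trans (Subgroup.card_subgroup_dvd_card K)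
  -- the normalizer `X` of `S`
  set X : Subgroup G := normalizer (S : Set G) with hX
  have hPX : (P : Subgroup G) ≤ X := by
    intro x hx
    apply mem_normalizer_of_commute
    intro s hs
    exact hcomm s (hSC hs) x hx
  have hSX : S ≤ X := le_normalizer
  -- `2^(v+1)` divides `|X|`
  have hdvdX : 2 ^ (v + 1) ∣ Nat.card X := by
    have h1 := Sylow.prime_dvd_card_quotient_normalizer hdvdG hScard
    have h2 := Subgroup.card_eq_card_quotient_mul_card_subgroup (S.subgroupOf X)
    have h3 : Nat.card (S.subgroupOf X) = 2 ^ v := by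
      rw [Nat.card_congr (Subgroup.subgroupOfEquivOfLe hSX).toEquiv, hScard]
    rw [h3] at h2
    rw [h2, pow_succ']
    exact Nat.mul_dvd_mul_right h1 _
  -- number of Sylow 2-subgroups of `X` is prime to 3
  set KX : Subgroup X := K.subgroupOf X with hKX
  have hKXn : KX.Normal := inferInstance
  have hnd : ¬ 3 ∣ Nat.card (Sylow 2 X) := by
    obtain ⟨T₀⟩ : Nonempty (Sylow 2 X) := inferInstance
    obtain ⟨hmul2, -⟩ := S4345.card_sylow_eq_mul 2 KX T₀
    have hodd : ¬ 2 ∣ Nat.card (X ⧸ KX) := by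
      have h1 : Nat.card (X ⧸ KX) ∣ 3 ^ b := by
        rw [← hb, ← hidx]
        exact Subgroup.relIndex_dvd_index_of_normal K X
      intro h2
      have h3 : 2 ∣ 3 := Nat.Prime.dvd_of_dvd_pow Nat.prime_two (h2.trans h1)
      omega
    rw [card_sylow_eq_one_of_not_dvd hodd, mul_one] at hmul2
    rw [hmul2]
    intro h3
    apply h3K
    have h4 : Nat.card KX ∣ Nat.card K := by
      rw [hKX, ← inf_subgroupOf_right,
        Nat.card_congr (Subgroup.subgroupOfEquivOfLe (inf_le_right : K ⊓ X ≤ X)).toEquiv]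
      exact Subgroup.card_dvd_of_le inf_le_left
    exact (h3.trans (relIndex_dvd_card _ _)).trans h4
  -- a Sylow 2-subgroup of `X` normalized by `P`
  set PX : Subgroup X := (P : Subgroup G).subgroupOf X with hPXdef
  have hPXp : IsPGroup 3 PX := P.isPGroup'.comap_subtype
  obtain ⟨T₁, hT₁⟩ := hPXp.nonempty_fixed_point_of_prime_not_dvd_card (Sylow 2 X) hnd
  set T : Subgroup G := (T₁ : Subgroup X).map X.subtype with hT
  have hTp : IsPGroup 2 T := T₁.isPGroup'.map _
  have hPT : (P : Subgroup G) ≤ normalizer (T : Set G) := by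
    intro x hx
    have hxX : x ∈ X := hPX hx
    have h1 : (⟨⟨x, hxX⟩, by rw [hPXdef, mem_subgroupOf]; exact hx⟩ : PX) • T₁ = T₁ := hT₁ _
    have h2 : (⟨x, hxX⟩ : X) ∈ normalizer ((T₁ : Subgroup X) : Set X) :=
      Sylow.smul_eq_iff_mem_normalizer.mp h1
    have h3 : x ∈ (normalizer ((T₁ : Subgroup X) : Set X)).map X.subtype := ⟨⟨x, hxX⟩, h2, rfl⟩
    exact Subgroup.le_normalizer_map X.subtype h3
  have hST : S ≤ T := by
    have hSXn : (S.subgroupOf X).Normal := Subgroup.normal_in_normalizer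
    have h1 : S.subgroupOf X ≤ (T₁ : Subgroup X) :=
      normal_le_sylow (S.subgroupOf X) hSp.comap_subtype T₁
    have h2 : (S.subgroupOf X).map X.subtype = S := by
      rw [Subgroup.subgroupOf_map_subtype]; exact inf_of_le_left hSX
    rw [← h2, hT]
    exact Subgroup.map_mono h1
  -- order of `T`
  obtain ⟨w, hw⟩ := hTp.exists_card_eq
  have hTcard₁ : Nat.card T = Nat.card (T₁ : Subgroup X) := by
    rw [hT, Subgroup.card_map_of_injective X.subtype_injective]
  have hwv : v + 1 ≤ w := by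
    have h1 : Nat.card (T₁ : Subgroup X) = 2 ^ (Nat.card X).factorization 2 :=
      T₁.card_eq_multiplicity
    have hX0 : Nat.card X ≠ 0 := Nat.card_pos.ne'
    have h2 : v + 1 ≤ (Nat.card X).factorization 2 :=
      (Nat.Prime.pow_dvd_iff_le_factorization Nat.prime_two hX0).mp hdvdX
    rw [hTcard₁, h1] at hw
    have := Nat.pow_right_injective (le_refl 2) hw
    omega
  -- `T ≤ K`
  have hTK : T ≤ K := by
    rw [← relIndex_eq_one]
    have h1 : K.relIndex T ∣ 3 ^ b := by
      rw [← hb, ← hidx]; exact Subgroup.relIndex_dvd_index_of_normal K T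
    have h2 : K.relIndex T ∣ 2 ^ w := by
      rw [← hw]; exact relIndex_dvd_card _ _
    have hcop : Nat.Coprime (2 ^ w) (3 ^ b) :=
      Nat.Coprime.pow _ _ (by norm_num)
    exact Nat.eq_one_of_dvd_coprimes hcop h2 h1
  have hwv' : w ≤ v + 1 := by
    by_contra hlt
    push Not at hlt
    have h1 : 2 ^ (v + 2) ∣ Nat.card K := by
      have h2 : 2 ^ (v + 2) ∣ 2 ^ w := pow_dvd_pow 2 hlt
      rw [← hw] at h2
      exact h2.trans (Subgroup.card_dvd_of_le hTK)
    rw [hKcard] at h1
    have h3 : 2 ^ (v + 1) ∣ 11 * Nat.card C := by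
      have h4 : 2 ^ (v + 2) = 2 * 2 ^ (v + 1) := by ring
      have h5 : 22 * Nat.card C = 2 * (11 * Nat.card C) := by ring
      rw [h4, h5] at h1
      exact Nat.dvd_of_mul_dvd_mul_left (by norm_num) h1
    have hcop : Nat.Coprime (2 ^ (v + 1)) 11 := Nat.Coprime.pow_left _ (by norm_num)
    exact hvC' (hcop.dvd_of_dvd_mul_left h3)
  have hweq : w = v + 1 := le_antisymm hwv' hwv
  -- `A ⊓ T = S` in cardinality
  have hUcard : Nat.card (A ⊓ T : Subgroup G) = 2 ^ v := by
    set U : Subgroup G := A ⊓ T with hU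
    have hUC : U ≤ C := by
      rw [hU, hC]; exact inf_le_inf_left A hTK
    have hUp : IsPGroup 2 U := hTp.to_le inf_le_right
    have hSU : S ≤ U := by
      rw [hU]; exact le_inf (hSC.trans inf_le_left) hST
    have h1 : (S₀ : Subgroup C) ≤ U.subgroupOf C := by
      intro c hc
      rw [mem_subgroupOf]
      apply hSU
      rw [hS]
      exact ⟨c, hc, rfl⟩
    have h2 : U.subgroupOf C = (S₀ : Subgroup C) := S₀.is_maximal' hUp.comap_subtype h1
    rw [← Nat.card_congr (Subgroup.subgroupOfEquivOfLe hUC).toEquiv, h2, hS₀card]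
  -- the final count in `N_G(T)`
  set M : Subgroup G := normalizer (T : Set G) with hM
  have hTM : T ≤ M := le_normalizer
  have hTMn : (T.subgroupOf M).Normal := Subgroup.normal_in_normalizer
  set PM : Sylow 3 M := P.subtype hPT with hPM
  obtain ⟨-, hmod3⟩ := S4345.card_sylow_eq_mul 3 (T.subgroupOf M) PM
  have h3 : normalizer ((PM : Subgroup M) : Set M) = A.subgroupOf M := by
    rw [hPM, Sylow.coe_subtype, subgroupOf_normalizer_eq hPT]
  rw [h3, relIndex_subgroupOf hTM, ← inf_relIndex_right] at hmod3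
  have h4 := card_eq_relIndex_mul (inf_le_right : A ⊓ T ≤ T)
  rw [hUcard, hw, hweq, pow_succ] at h4
  have h5 : (A ⊓ T).relIndex T = 2 := by
    have hpos : 0 < 2 ^ v := by positivity
    have : (A ⊓ T).relIndex T * 2 ^ v = 2 * 2 ^ v := by rw [← h4, mul_comm]
    exact Nat.eq_of_mul_eq_mul_right hpos this
  rw [h5] at hmod3
  exact absurd hmod3 (by decide)

/-- A minimal counterexample is a simple group. -/
theorem MinCE.isSimpleGroup : IsSimpleGroup G := by
  have hnt : Nontrivial G := by
    by_contra hnt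
    rw [not_nontrivial_iff_subsingleton] at hnt
    have hs : Subsingleton (Sylow 3 G) := ⟨fun a b => Sylow.ext (Subsingleton.elim _ _)⟩
    have h1 := h.card22
    rw [Nat.card_eq_one_iff_unique.mpr ⟨hs, inferInstance⟩] at h1
    omega
  refine { exists_pair_ne := hnt.exists_pair_ne, eq_bot_or_eq_top_of_normal := ?_ }
  intro K hK
  by_contra hcon
  push Not at hcon
  exact h.false_of_normal K hcon.1 hcon.2

end final

/-- A group of minimal order among those with exactly `22` Sylow `3`-subgroups is simple. -/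
theorem isSimpleGroup_of_minimal {G : Type u} [Group G] [Finite G]
    (h22 : Nat.card (Sylow 3 G) = 22)
    (hmin : ∀ (H : Type u) [Group H] [Finite H], Nat.card H < Nat.card G →
      Nat.card (Sylow 3 H) ≠ 22) : IsSimpleGroup G :=
  MinCE.isSimpleGroup ⟨h22, hmin⟩

end Cfsg.Agent.Helper72.N3Red
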