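import Cfsg.Agent.Lib.Helper72.PermNet
import Cfsg.Agent.Lib.Helper72.PermChain

/-!
# Verified Schreier–Sims chains for groups generated by networks

The tables of a chain are checked by boolean functions that the kernel evaluates; this file derives
the order of the group from the checks.
-/

set_option autoImplicit false

namespace Cfsg.Agent.Helper72.PermNet

/-- The tables of a chain. Letters are indices in the list of networks. -/
structure Tables where
  /-- number of levels -/
  K : ℕ
  /-- number of letters -/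
  nLet : ℕ
  /-- generators of the group of a level -/
  gens : ℕ → List ℕ
  /-- size of the orbit of the base point of a level -/
  n : ℕ → ℕ
  /-- base point of a level -/
  base : ℕ → ℕ
  /-- the transversal: a word for each point of the orbit -/
  path : ℕ → ℕ → List ℕ
  /-- the points of the orbit, in increasing order -/
  pts : ℕ → ℕ → ℕ
  /-- the factorization of `s * t k`, as indices in the transversals of the levels from `i` on -/
  cov : ℕ → ℕ → List ℕ
  /-- order of a generator letter -/
  ord : ℕ → ℕ
  /-- level of a letter -/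
  lvl : ℕ → ℕ
  /-- `0` for generators, `1` for tree letters -/
  kind : ℕ → ℕ
  /-- certificate word of a letter -/
  certW : ℕ → List ℕ
  /-- certificate index of a generator letter -/
  certJ : ℕ → ℕ

section chain
variable (B nb R X0 : ℕ) (NW : List (List (ℕ × ℕ))) (T : Tables)

/-- The word `t_i j * t_{i+1} j' * ⋯`. -/
def rhsWord : ℕ → List ℕ → List ℕ
  | _, [] => []
  | i, j :: c => T.path i j ++ rhsWord (i + 1) c

/-- The indices are in range. -/
def bndOK : ℕ → List ℕ → Bool
  | _, [] => true
  | i, j :: c => decide (j < T.n i) && bndOK (i + 1) c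

/-- Check of one product `s * t k`. -/
def chkCov (i q : ℕ) : Bool :=
  match T.cov i q with
  | [] => false
  | j :: c =>
    decide (j < T.n i) && bndOK T (i + 1) c &&
      eqW R X0 NW ((T.gens i).getD (q % (T.gens i).length) 0 :: T.path i (q / (T.gens i).length))
        (T.path i j ++ rhsWord T (i + 1) c)

/-- Check of a path: its letters belong to the level, and the first path is empty. -/
def chkPath (i k : ℕ) : Bool :=
  (T.path i k).all (fun a => decide (a < T.nLet) && T.lvl a == i) &&
    (k != 0 || (T.path i k).isEmpty)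

/-- Check of a point of the orbit. -/
def chkPts (i k : ℕ) : Bool :=
  (applyWs NW (T.path i k) (2 ^ T.pts i k) == 2 ^ T.base i) &&
    (decide (T.n i ≤ k + 1) || decide (T.pts i k < T.pts i (k + 1)))

/-- Check of a letter. -/
def chkLetter (a : ℕ) : Bool :=
  if T.kind a = 0 then
    (T.gens (T.lvl a)).contains a && decide (0 < T.ord a) &&
      eqW R X0 NW (List.replicate (T.ord a) a) [] &&
      (T.lvl a == 0 ||
        (decide (T.certJ a < T.n (T.lvl a - 1)) &&
          (T.certW a).all (fun c => (T.gens (T.lvl a - 1)).contains c) &&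
          eqW R X0 NW (T.path (T.lvl a - 1) (T.certJ a) ++ [a]) (T.certW a) &&
          (applyWs NW [a] (2 ^ T.base (T.lvl a - 1)) == 2 ^ T.base (T.lvl a - 1))))
  else
    (T.certW a).all (fun c => (T.gens (T.lvl a)).contains c) && eqW R X0 NW [a] (T.certW a)

/-- All the checks. -/
structure Checked : Prop where
  good : Good B nb R X0 NW
  hcov : ∀ i < T.K, ∀ q < T.n i * (T.gens i).length, chkCov R X0 NW T i q = true
  hpath : ∀ i < T.K, ∀ k < T.n i, chkPath T i k = true
  hpts : ∀ i < T.K, ∀ k < T.n i, chkPts NW T i k = true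
  hlet : ∀ a < T.nLet, chkLetter R X0 NW T a = true
  hgens : ∀ i < T.K, ∀ a ∈ T.gens i, a < T.nLet ∧ T.lvl a = i ∧ T.kind a = 0
  hgens' : ∀ i, T.K ≤ i → T.gens i = []
  hn : ∀ i < T.K, 0 < T.n i
  hn' : ∀ i, T.K ≤ i → T.n i = 0

/-- The group of a level. -/
def Lv (i : ℕ) : Subgroup (Equiv.Perm ℕ) :=
  Subgroup.closure {g | ∃ s ∈ T.gens i, g = el NW [s]}

variable {B nb R X0 NW T}

theorem Lv_top (hc : Checked B nb R X0 NW T) {i : ℕ} (hi : T.K ≤ i) : Lv NW T i = ⊥ := by
  unfold Lv
  rw [hc.hgens' i hi]
  simp

theorem gen_mem {i s : ℕ} (hs : s ∈ T.gens i) : el NW [s] ∈ Lv NW T i :=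
  Subgroup.subset_closure ⟨s, hs, rfl⟩

theorem word_mem {i : ℕ} {w : List ℕ} (hw : ∀ c ∈ w, c ∈ T.gens i) : el NW w ∈ Lv NW T i := by
  induction w with
  | nil => rw [el_nil]; exact Subgroup.one_mem _
  | cons c w ih =>
    rw [el_cons]
    exact Subgroup.mul_mem _ (gen_mem (hw c List.mem_cons_self))
      (ih (fun d hd => hw d (List.mem_cons_of_mem _ hd)))

theorem all_contains {l w : List ℕ} (h : w.all (fun c => l.contains c) = true) :
    ∀ c ∈ w, c ∈ l := by
  intro c hc
  have := List.all_eq_true.1 h c hc
  simpa using this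

/-- A letter belongs to the group of its level. -/
theorem letter_mem (hc : Checked B nb R X0 NW T) {a : ℕ} (ha : a < T.nLet) :
    el NW [a] ∈ Lv NW T (T.lvl a) := by
  have h := hc.hlet a ha
  unfold chkLetter at h
  split_ifs at h with hk
  · simp only [Bool.and_eq_true] at h
    have h1 : a ∈ T.gens (T.lvl a) := by simpa using h.1.1.1
    exact gen_mem h1
  · rw [Bool.and_eq_true] at h
    rw [el_eq_of_eqW hc.good h.2]
    exact word_mem (all_contains h.1)

/-- A generator has finite order. -/
theorem gen_order (hc : Checked B nb R X0 NW T) {i s : ℕ} (hi : i < T.K) (hs : s ∈ T.gens i) :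
    ∃ m, 0 < m ∧ el NW [s] ^ m = 1 := by
  obtain ⟨h1, h2, h3⟩ := hc.hgens i hi s hs
  have h := hc.hlet s h1
  unfold chkLetter at h
  rw [if_pos h3] at h
  simp only [Bool.and_eq_true, decide_eq_true_eq] at h
  refine ⟨T.ord s, h.1.1.2, ?_⟩
  rw [← el_replicate, el_eq_of_eqW hc.good h.1.2, el_nil]

/-- The group of the next level is contained in the group of a level and fixes its base point. -/
theorem gen_next (hc : Checked B nb R X0 NW T) {i s : ℕ} (hi : i + 1 < T.K)
    (hs : s ∈ T.gens (i + 1)) (hpathmem : ∀ k < T.n i, el NW (T.path i k) ∈ Lv NW T i) :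
    el NW [s] ∈ Lv NW T i ∧ el NW [s] (T.base i) = T.base i := by
  obtain ⟨h1, h2, h3⟩ := hc.hgens (i + 1) hi s hs
  have h := hc.hlet s h1
  unfold chkLetter at h
  rw [if_pos h3, h2] at h
  simp only [Bool.and_eq_true, decide_eq_true_eq, Bool.or_eq_true, beq_iff_eq] at h
  obtain ⟨-, h4⟩ := h
  rcases h4 with h4 | h4
  · omega
  · rw [Nat.add_sub_cancel] at h4
    obtain ⟨⟨⟨hj, hw⟩, he⟩, hf⟩ := h4
    constructor
    · have e := el_eq_of_eqW hc.good he
      rw [el_append] at e
      have hw' : el NW (T.certW s) ∈ Lv NW T i := word_mem (all_contains hw)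
      have : el NW [s] = (el NW (T.path i (T.certJ s)))⁻¹ * el NW (T.certW s) := by
        rw [← e]; group
      rw [this]
      exact Subgroup.mul_mem _ (Subgroup.inv_mem _ (hpathmem _ hj)) hw'
    · exact el_apply_of_applyWs hc.good hf

theorem path_mem (hc : Checked B nb R X0 NW T) {i k : ℕ} (hi : i < T.K) (hk : k < T.n i) :
    el NW (T.path i k) ∈ Lv NW T i := by
  have h := hc.hpath i hi k hk
  unfold chkPath at h
  rw [Bool.and_eq_true] at h
  have h1 := h.1
  generalize T.path i k = w at h1
  induction w with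
  | nil => rw [el_nil]; exact Subgroup.one_mem _
  | cons c w ih =>
    rw [List.all_cons, Bool.and_eq_true] at h1
    rw [el_cons]
    refine Subgroup.mul_mem _ ?_ (ih h1.2)
    have h2 := h1.1
    simp only [Bool.and_eq_true, decide_eq_true_eq, beq_iff_eq] at h2
    have := letter_mem hc h2.1
    rwa [h2.2] at this

theorem path_zero (hc : Checked B nb R X0 NW T) {i : ℕ} (hi : i < T.K) :
    el NW (T.path i 0) = 1 := by
  have h := hc.hpath i hi 0 (hc.hn i hi)
  unfold chkPath at h
  rw [Bool.and_eq_true] at h
  have h2 := h.2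
  simp only [bne_self_eq_false, Bool.false_or, List.isEmpty_iff] at h2
  rw [h2, el_nil]

theorem Lv_succ_le (hc : Checked B nb R X0 NW T) (i : ℕ) : Lv NW T (i + 1) ≤ Lv NW T i := by
  rcases Nat.lt_or_ge (i + 1) T.K with hi | hi
  · unfold Lv
    rw [Subgroup.closure_le]
    rintro g ⟨s, hs, rfl⟩
    exact (gen_next hc hi hs (fun k hk => path_mem hc (by omega) hk)).1
  · rw [Lv_top hc hi]; exact bot_le

theorem Lv_fix (hc : Checked B nb R X0 NW T) (i : ℕ) :
    ∀ l ∈ Lv NW T (i + 1), l (T.base i) = T.base i := by
  intro l hl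
  rcases Nat.lt_or_ge (i + 1) T.K with hi | hi
  · unfold Lv at hl
    induction hl using Subgroup.closure_induction'' with
    | one => rfl
    | mem x hx =>
      obtain ⟨s, hs, rfl⟩ := hx
      exact (gen_next hc hi hs (fun k hk => path_mem hc (by omega) hk)).2
    | inv_mem x hx =>
      obtain ⟨s, hs, rfl⟩ := hx
      have := (gen_next hc hi hs (fun k hk => path_mem hc (by omega) hk)).2
      rw [Equiv.Perm.inv_eq_iff_eq]
      exact this.symm
    | mul x y _ _ hx hy => rw [Equiv.Perm.mul_apply, hy, hx]
  · rw [Lv_top hc hi, Subgroup.mem_bot] at hl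
    rw [hl]; rfl

theorem deep_mem (hc : Checked B nb R X0 NW T) (i : ℕ) (c : List ℕ) (hb : bndOK T i c = true) :
    el NW (rhsWord T i c) ∈ Lv NW T i := by
  induction c generalizing i with
  | nil => rw [rhsWord, el_nil]; exact Subgroup.one_mem _
  | cons j c ih =>
    rw [bndOK, Bool.and_eq_true, decide_eq_true_eq] at hb
    rw [rhsWord, el_append]
    have hi : i < T.K := by
      by_contra hcon
      rw [hc.hn' i (by omega)] at hb
      omega
    exact Subgroup.mul_mem _ (path_mem hc hi hb.1) (Lv_succ_le hc i (ih (i + 1) hb.2))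

/-- The points of the orbit are increasing. -/
theorem pts_lt (hc : Checked B nb R X0 NW T) {i : ℕ} (hi : i < T.K) {k k' : ℕ} (hkk : k < k')
    (hk' : k' < T.n i) : T.pts i k < T.pts i k' := by
  induction k', hkk using Nat.le_induction with
  | base =>
    have h := hc.hpts i hi k (by omega)
    unfold chkPts at h
    simp only [Bool.and_eq_true, Bool.or_eq_true, decide_eq_true_eq] at h
    rcases h.2 with h2 | h2
    · omega
    · exact h2
  | succ m hm ih =>
    have h1 := ih (by omega)
    have h := hc.hpts i hi m (by omega)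
    unfold chkPts at h
    simp only [Bool.and_eq_true, Bool.or_eq_true, decide_eq_true_eq] at h
    rcases h.2 with h2 | h2
    · omega
    · omega

theorem path_apply (hc : Checked B nb R X0 NW T) {i k : ℕ} (hi : i < T.K) (hk : k < T.n i) :
    el NW (T.path i k) (T.base i) = T.pts i k := by
  have h := hc.hpts i hi k hk
  unfold chkPts at h
  simp only [Bool.and_eq_true, beq_iff_eq] at h
  exact el_apply_of_applyWs hc.good h.1

/-- The product of the sizes of the orbits from level `i` on. -/
def prodFrom (T : Tables) (i : ℕ) : ℕ := ((List.range (T.K - i)).map (fun d => T.n (i + d))).prod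

theorem prodFrom_top {i : ℕ} (hi : T.K ≤ i) : prodFrom T i = 1 := by
  unfold prodFrom
  rw [Nat.sub_eq_zero_of_le hi]
  rfl

theorem prodFrom_succ {i : ℕ} (hi : i < T.K) : prodFrom T i = T.n i * prodFrom T (i + 1) := by
  unfold prodFrom
  have : T.K - i = (T.K - (i + 1)) + 1 := by omega
  rw [this, List.range_succ_eq_map, List.map_cons, List.prod_cons, List.map_map]
  congr 2
  apply List.map_congr_left
  intro d _
  simp only [Function.comp, Nat.add_zero]
  congr 1
  omega

/-- The statement of one level. -/
theorem level (hc : Checked B nb R X0 NW T) {i : ℕ} (hi : i < T.K) [Finite (Lv NW T (i + 1))] :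
    Finite (Lv NW T i) ∧ Nat.card (Lv NW T i) = T.n i * Nat.card (Lv NW T (i + 1)) ∧
      (∀ g ∈ Lv NW T i, g (T.base i) = T.base i → g ∈ Lv NW T (i + 1)) ∧
      (∀ g ∈ Lv NW T i, ∃ k < T.n i, g (T.base i) = T.pts i k) := by
  have key := PermChain.level_card (X := ℕ) {g | ∃ s ∈ T.gens i, g = el NW [s]} (Lv NW T (i + 1))
    (T.n i) (fun k => el NW (T.path i k)) (T.base i) (path_zero hc hi) (hc.hn i hi)
    (by
      rintro g ⟨s, hs, rfl⟩ k hk
      obtain ⟨σ, hσ, hσs⟩ := List.getElem_of_mem hs
      have hq : k * (T.gens i).length + σ < T.n i * (T.gens i).length := by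
        calc k * (T.gens i).length + σ < k * (T.gens i).length + (T.gens i).length := by omega
          _ = (k + 1) * (T.gens i).length := by ring
          _ ≤ T.n i * (T.gens i).length := Nat.mul_le_mul_right _ hk
      have h := hc.hcov i hi _ hq
      unfold chkCov at h
      have hmod : (k * (T.gens i).length + σ) % (T.gens i).length = σ := by
        rw [Nat.mul_comm, Nat.mul_add_mod, Nat.mod_eq_of_lt hσ]
      have hdiv : (k * (T.gens i).length + σ) / (T.gens i).length = k := by
        rw [Nat.mul_comm, Nat.mul_add_div (by omega), Nat.div_eq_of_lt hσ, Nat.add_zero]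
      rw [hmod, hdiv, List.getD_eq_getElem _ _ hσ, hσs] at h
      split at h
      · exact absurd h (by simp)
      · rename_i j c _
        simp only [Bool.and_eq_true, decide_eq_true_eq] at h
        obtain ⟨⟨hj, hb⟩, he⟩ := h
        have e := el_eq_of_eqW hc.good he
        rw [el_cons, el_append] at e
        exact ⟨j, hj, el NW (rhsWord T (i + 1) c), deep_mem hc (i + 1) c hb, e⟩)
    (by
      rintro g ⟨s, hs, rfl⟩
      exact gen_order hc hi hs)
    (fun k hk => path_mem hc hi hk) (Lv_succ_le hc i) (Lv_fix hc i)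
    (by
      intro k hk k' hk' h
      have h1 : T.pts i k = T.pts i k' := by
        rw [← path_apply hc hi hk, ← path_apply hc hi hk']
        exact h
      rcases Nat.lt_trichotomy k k' with hlt | heq | hgt
      · exact absurd h1 (pts_lt hc hi hlt hk').ne
      · exact heq
      · exact absurd h1.symm (pts_lt hc hi hgt hk).ne)
  refine ⟨key.1, key.2.1, key.2.2.1, ?_⟩
  intro g hg
  obtain ⟨k, hk, e⟩ := key.2.2.2 g hg
  refine ⟨k, hk, ?_⟩
  have : g (T.base i) = el NW (T.path i k) (T.base i) := e
  rw [this, path_apply hc hi hk]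

/-- The orders of the groups of the chain. -/
theorem card_Lv (hc : Checked B nb R X0 NW T) (i : ℕ) :
    Finite (Lv NW T i) ∧ Nat.card (Lv NW T i) = prodFrom T i := by
  rcases Nat.lt_or_ge i T.K with hi | hi
  · obtain ⟨d, hd⟩ : ∃ d, T.K - i = d := ⟨_, rfl⟩
    induction d generalizing i with
    | zero => omega
    | succ d ih =>
      have hnext : Finite (Lv NW T (i + 1)) ∧ Nat.card (Lv NW T (i + 1)) = prodFrom T (i + 1) := by
        rcases Nat.lt_or_ge (i + 1) T.K with h1 | h1
        · exact ih (i + 1) h1 (by omega)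
        · rw [Lv_top hc h1, prodFrom_top h1]
          exact ⟨inferInstance, by simp⟩
      haveI := hnext.1
      obtain ⟨h1, h2, -, -⟩ := level hc hi
      exact ⟨h1, by rw [h2, hnext.2, prodFrom_succ hi]⟩
  · rw [Lv_top hc hi, prodFrom_top hi]
    exact ⟨inferInstance, by simp⟩

end chain

end Cfsg.Agent.Helper72.PermNet
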