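import Cfsg.Agent.Lib.Helper72.PermChainNet

/-!
# Verified chains: elements fixing the base points
-/

set_option autoImplicit false

namespace Cfsg.Agent.Helper72.PermNet

variable {B nb R X0 : ℕ} {NW : List (List (ℕ × ℕ))} {T : Tables}

/-- An element of the group of level `0` which fixes the base points of the levels below `i`
belongs to the group of level `i`. -/
theorem mem_Lv_of_fix (hc : Checked B nb R X0 NW T) {g : Equiv.Perm ℕ} (hg : g ∈ Lv NW T 0)
    (hfix : ∀ i < T.K, g (T.base i) = T.base i) : ∀ i ≤ T.K, g ∈ Lv NW T i := by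
  intro i
  induction i with
  | zero => exact fun _ => hg
  | succ i ih =>
    intro hi
    have hi' : i < T.K := by omega
    have : Finite (Lv NW T (i + 1)) := (card_Lv hc (i + 1)).1
    exact (level hc hi').2.2.1 g (ih (by omega)) (hfix i hi')

/-- An element of the group which fixes all the base points is trivial. -/
theorem eq_one_of_fix_bases (hc : Checked B nb R X0 NW T) {g : Equiv.Perm ℕ}
    (hg : g ∈ Lv NW T 0) (hfix : ∀ i < T.K, g (T.base i) = T.base i) : g = 1 := by
  have h := mem_Lv_of_fix hc hg hfix T.K le_rfl
  rw [Lv_top hc le_rfl, Subgroup.mem_bot] at h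
  exact h

end Cfsg.Agent.Helper72.PermNet
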