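import Mathlib

/-!
# Permutations as networks of delta swaps, evaluated on bit sets

A permutation of `ℕ` with finite support is stored as a list of *stages* `(m, d)`: the stage
exchanges the positions `p` and `p + d` for every `p` in the bit mask `m`.  A stage acts on a bit set
(a natural number) by a handful of bitwise operations, which the kernel evaluates quickly, whatever
the size of the numbers.  Equality of two products of such permutations is tested on one number
`X0` made of `nb` blocks of `B = 2 ^ nb` bits: block `j` is the set of the `r < B` whose `j`-th bit is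
set, and the masks are replicated in all the blocks by one multiplication.
-/

set_option autoImplicit false

namespace Cfsg.Agent.Helper72.PermNet

/-! ### One stage -/

/-- Second half of a delta swap. -/
def dswapAux (x t d : ℕ) : ℕ := (x ^^^ t) ^^^ (t <<< d)

/-- Delta swap: exchange the bits at positions `p` and `p + d` for all `p` in the mask `m`. -/
def dswap (m d x : ℕ) : ℕ := dswapAux x (((x >>> d) ^^^ x) &&& m) d

/-- The position map of a delta swap. -/
def dpos (m d p : ℕ) : ℕ :=
  if m.testBit p then p + d else if d ≤ p ∧ m.testBit (p - d) then p - d else p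

theorem bxor_cancel (a b : Bool) : (a ^^ (b ^^ a)) = b := by cases a <;> cases b <;> rfl

theorem valid_bit {m d : ℕ} (h : m &&& (m <<< d) = 0) (p : ℕ) (hp : m.testBit p = true)
    (hd : d ≤ p) : m.testBit (p - d) = false := by
  have h1 : (m &&& (m <<< d)).testBit p = false := by rw [h]; simp
  rw [Nat.testBit_and, Nat.testBit_shiftLeft, hp] at h1
  simpa [hd] using h1

theorem testBit_dswap {m d : ℕ} (h : m &&& (m <<< d) = 0) (x p : ℕ) :
    (dswap m d x).testBit p = x.testBit (dpos m d p) := by
  unfold dswap dswapAux dpos
  simp only [Nat.testBit_xor, Nat.testBit_and, Nat.testBit_shiftRight, Nat.testBit_shiftLeft]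
  by_cases hp : m.testBit p = true
  · by_cases hd : d ≤ p
    · have := valid_bit h p hp hd
      simp [hp, hd, this, add_comm, bxor_cancel]
    · simp [hp, hd, add_comm, bxor_cancel]
  · have hp' : m.testBit p = false := by simpa using hp
    by_cases hd : d ≤ p
    · by_cases hq : m.testBit (p - d) = true
      · have e : d + (p - d) = p := by omega
        simp [hp', hd, hq, e]
      · have hq' : m.testBit (p - d) = false := by simpa using hq
        simp [hp', hd, hq']
    · simp [hp', hd]

theorem dpos_dpos {m d : ℕ} (h : m &&& (m <<< d) = 0) (p : ℕ) : dpos m d (dpos m d p) = p := by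
  unfold dpos
  by_cases hp : m.testBit p = true
  · have h1 : m.testBit (p + d) = false := by
      by_contra hc
      have hc' : m.testBit (p + d) = true := by simpa using hc
      have := valid_bit h (p + d) hc' (by omega)
      rw [Nat.add_sub_cancel] at this
      rw [this] at hp
      exact absurd hp (by simp)
    simp [hp, h1]
  · have hp' : m.testBit p = false := by simpa using hp
    by_cases hd : d ≤ p ∧ m.testBit (p - d) = true
    · obtain ⟨hd1, hd2⟩ := hd
      have e : p - d + d = p := by omega
      simp [hp', hd1, hd2, e]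
    · simp only [hp', Bool.false_eq_true, if_false, hd]

/-- The permutation of a stage (the identity if the mask is not valid). -/
def stageP (s : ℕ × ℕ) : Equiv.Perm ℕ :=
  if h : s.1 &&& (s.1 <<< s.2) = 0 then
    ⟨dpos s.1 s.2, dpos s.1 s.2, dpos_dpos h, dpos_dpos h⟩
  else 1

theorem stageP_apply {s : ℕ × ℕ} (h : s.1 &&& (s.1 <<< s.2) = 0) (p : ℕ) :
    stageP s p = dpos s.1 s.2 p := by
  unfold stageP
  rw [dif_pos h]
  rfl

/-! ### Lists of stages -/

/-- The position map of a list of stages. -/
def posOf : List (ℕ × ℕ) → ℕ → ℕ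
  | [], p => p
  | s :: rest, p => dpos s.1 s.2 (posOf rest p)

/-- The permutation of a list of stages. -/
def permOf (st : List (ℕ × ℕ)) : Equiv.Perm ℕ := (st.map stageP).prod

theorem permOf_nil : permOf [] = 1 := rfl

theorem permOf_cons (s : ℕ × ℕ) (st : List (ℕ × ℕ)) : permOf (s :: st) = stageP s * permOf st := by
  unfold permOf
  rw [List.map_cons, List.prod_cons]

theorem permOf_append (st1 st2 : List (ℕ × ℕ)) :
    permOf (st1 ++ st2) = permOf st1 * permOf st2 := by
  unfold permOf
  rw [List.map_append, List.prod_append]

/-- Validity of the small masks. -/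
def smallOK (st : List (ℕ × ℕ)) : Prop := ∀ s ∈ st, s.1 &&& (s.1 <<< s.2) = 0

theorem permOf_apply {st : List (ℕ × ℕ)} (h : smallOK st) (p : ℕ) : permOf st p = posOf st p := by
  induction st with
  | nil => rfl
  | cons s rest ih =>
    rw [permOf_cons, Equiv.Perm.mul_apply, ih (fun t ht => h t (List.mem_cons_of_mem _ ht)),
      stageP_apply (h s List.mem_cons_self)]
    rfl

/-- Apply the stages to a bit set, with the small masks. -/
def applySm : List (ℕ × ℕ) → ℕ → ℕ
  | [], x => x
  | s :: rest, x => applySm rest (dswap s.1 s.2 x)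

theorem testBit_applySm {st : List (ℕ × ℕ)} (h : smallOK st) (x p : ℕ) :
    (applySm st x).testBit p = x.testBit (posOf st p) := by
  induction st generalizing x with
  | nil => rfl
  | cons s rest ih =>
    rw [applySm, ih (fun t ht => h t (List.mem_cons_of_mem _ ht)),
      testBit_dswap (h s List.mem_cons_self)]
    rfl

/-- Reading off an image: if the stages send the bit set `{q}` to `{p}` then the permutation sends
`p` to `q`. -/
theorem permOf_eq_of_applySm {st : List (ℕ × ℕ)} (h : smallOK st) {p q : ℕ}
    (hpq : applySm st (2 ^ q) = 2 ^ p) : permOf st p = q := by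
  have h1 := testBit_applySm h (2 ^ q) p
  rw [hpq, Nat.testBit_two_pow_self] at h1
  rw [permOf_apply h]
  have h2 := h1.symm
  rw [Nat.testBit_two_pow] at h2
  simpa [eq_comm] using h2

/-! ### Replicated masks -/

section big
variable (B nb R X0 : ℕ)

/-- Apply the stages to a number made of `nb` blocks of `B` bits, with replicated masks. -/
def applyBig : List (ℕ × ℕ) → ℕ → ℕ
  | [], x => x
  | s :: rest, x => applyBig rest (dswap (s.1 * R) s.2 x)

/-- The position map of the replicated stages. -/
def posBig : List (ℕ × ℕ) → ℕ → ℕ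
  | [], p => p
  | s :: rest, p => dpos (s.1 * R) s.2 (posBig rest p)

/-- Validity of a stage: the small mask and the replicated mask are valid, the partners of the small
mask stay below `B`, and the shift is at most `B`. -/
def stageOK (s : ℕ × ℕ) : Bool :=
  (s.1 &&& (s.1 <<< s.2) == 0) && decide (s.1 <<< s.2 < 2 ^ B) &&
    ((s.1 * R) &&& ((s.1 * R) <<< s.2) == 0) && decide (s.2 ≤ B)

/-- Validity of a list of stages. -/
def stOK (st : List (ℕ × ℕ)) : Bool := st.all (stageOK B R)

variable {B nb R X0}

theorem stageOK_iff {s : ℕ × ℕ} (h : stageOK B R s = true) :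
    s.1 &&& (s.1 <<< s.2) = 0 ∧ s.1 <<< s.2 < 2 ^ B ∧
      (s.1 * R) &&& ((s.1 * R) <<< s.2) = 0 ∧ s.2 ≤ B := by
  unfold stageOK at h
  simp only [Bool.and_eq_true, beq_iff_eq, decide_eq_true_eq] at h
  exact ⟨h.1.1.1, h.1.1.2, h.1.2, h.2⟩

theorem smallOK_of_stOK {st : List (ℕ × ℕ)} (h : stOK B R st = true) : smallOK st := by
  intro s hs
  exact (stageOK_iff (List.all_eq_true.1 h s hs)).1

theorem testBit_applyBig {st : List (ℕ × ℕ)} (h : stOK B R st = true) (x p : ℕ) :
    (applyBig R st x).testBit p = x.testBit (posBig R st p) := by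
  induction st generalizing x with
  | nil => rfl
  | cons s rest ih =>
    have hs := stageOK_iff (List.all_eq_true.1 h s List.mem_cons_self)
    have hr : stOK B R rest = true :=
      List.all_eq_true.2 (fun t ht => List.all_eq_true.1 h t (List.mem_cons_of_mem _ ht))
    rw [applyBig, ih hr, testBit_dswap hs.2.2.1]
    rfl

/-- Set bits of a mask whose shift stays below `2 ^ B`. -/
theorem add_lt_of_testBit {m d p : ℕ} (h : m <<< d < 2 ^ B) (hp : m.testBit p = true) :
    p + d < B := by
  by_contra hc
  have h1 : (m <<< d).testBit (p + d) = false :=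
    Nat.testBit_eq_false_of_lt (lt_of_lt_of_le h (Nat.pow_le_pow_right (by norm_num) (by omega)))
  rw [Nat.testBit_shiftLeft] at h1
  simp [hp] at h1

theorem lt_of_shiftLeft_lt {m d : ℕ} (h : m <<< d < 2 ^ B) : m < 2 ^ B := by
  refine lt_of_le_of_lt ?_ h
  rw [Nat.shiftLeft_eq]
  exact Nat.le_mul_of_pos_right _ (by positivity)

/-- The small position map stays below `B` and fixes the positions from `B` on. -/
theorem dpos_lt {m d : ℕ} (h : m <<< d < 2 ^ B) {q : ℕ} (hq : q < B) : dpos m d q < B := by
  unfold dpos
  split_ifs with h1 h2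
  · exact add_lt_of_testBit h h1
  · omega
  · exact hq

theorem dpos_ge {m d : ℕ} (h : m <<< d < 2 ^ B) {q : ℕ} (hq : B ≤ q) : dpos m d q = q := by
  unfold dpos
  have hm := lt_of_shiftLeft_lt h
  have h1 : m.testBit q = false :=
    Nat.testBit_eq_false_of_lt (lt_of_lt_of_le hm (Nat.pow_le_pow_right (by norm_num) hq))
  rw [h1]
  simp only [Bool.false_eq_true, if_false]
  split_ifs with h2
  · exfalso
    have := add_lt_of_testBit h h2.2
    omega
  · rfl

/-- Periodicity of the replicated masks. -/
def Periodic (B nb R : ℕ) : Prop :=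
  ∀ m, m < 2 ^ B → ∀ j < nb, ∀ q < B, (m * R).testBit (B * j + q) = m.testBit q

/-- A replicated stage acts in each block as the small stage. -/
theorem dpos_block (hper : Periodic B nb R) {m d : ℕ} (h : m <<< d < 2 ^ B) (hd : d ≤ B)
    {j q : ℕ} (hj : j < nb) (hq : q < B) :
    dpos (m * R) d (B * j + q) = B * j + dpos m d q := by
  have hm := lt_of_shiftLeft_lt h
  unfold dpos
  rw [hper m hm j hj q hq]
  by_cases h1 : m.testBit q = true
  · simp only [h1, if_true]
    omega
  · have h1' : m.testBit q = false := by simpa using h1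
    simp only [h1', Bool.false_eq_true, if_false]
    by_cases hdq : d ≤ q
    · have e : B * j + q - d = B * j + (q - d) := by omega
      rw [e, hper m hm j hj (q - d) (by omega)]
      by_cases h2 : m.testBit (q - d) = true
      · have c1 : d ≤ B * j + q ∧ m.testBit (q - d) = true := ⟨by omega, h2⟩
        have c2 : d ≤ q ∧ m.testBit (q - d) = true := ⟨hdq, h2⟩
        rw [if_pos c1, if_pos c2]
      · have c1 : ¬ (d ≤ B * j + q ∧ m.testBit (q - d) = true) := fun c => h2 c.2
        have c2 : ¬ (d ≤ q ∧ m.testBit (q - d) = true) := fun c => h2 c.2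
        rw [if_neg c1, if_neg c2]
    · have c2 : ¬ (d ≤ q ∧ m.testBit (q - d) = true) := fun c => hdq c.1
      rw [if_neg c2]
      by_cases hdj : d ≤ B * j + q
      · -- the partner lies in the previous block, beyond the allowed range
        have hj0 : 0 < j := by
          rcases Nat.eq_zero_or_pos j with rfl | hpos
          · omega
          · exact hpos
        have e : B * j + q - d = B * (j - 1) + (B + q - d) := by
          have : B * j = B * (j - 1) + B := by
            rw [← Nat.mul_succ]; congr 1; omega
          omega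
        have hlt : B + q - d < B := by omega
        rw [e, hper m hm (j - 1) (by omega) (B + q - d) hlt]
        have h3 : m.testBit (B + q - d) = false := by
          by_contra hc
          have hc' : m.testBit (B + q - d) = true := by simpa using hc
          have := add_lt_of_testBit h hc'
          omega
        rw [h3]
        simp
      · have c1 : ¬ (d ≤ B * j + q ∧ (m * R).testBit (B * j + q - d) = true) := fun c => hdj c.1
        rw [if_neg c1]

/-- The big position map acts in each block as the small one. -/
theorem posBig_block (hper : Periodic B nb R) {st : List (ℕ × ℕ)} (h : stOK B R st = true)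
    {j q : ℕ} (hj : j < nb) (hq : q < B) :
    posBig R st (B * j + q) = B * j + posOf st q ∧ posOf st q < B := by
  induction st with
  | nil => exact ⟨rfl, hq⟩
  | cons s rest ih =>
    have hs := stageOK_iff (List.all_eq_true.1 h s List.mem_cons_self)
    have hr : stOK B R rest = true :=
      List.all_eq_true.2 (fun t ht => List.all_eq_true.1 h t (List.mem_cons_of_mem _ ht))
    obtain ⟨ih1, ih2⟩ := ih hr
    constructor
    · show dpos (s.1 * R) s.2 (posBig R rest (B * j + q)) = B * j + dpos s.1 s.2 (posOf rest q)
      rw [ih1, dpos_block hper hs.2.1 hs.2.2.2 hj ih2]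
    · exact dpos_lt hs.2.1 ih2

theorem posOf_ge {st : List (ℕ × ℕ)} (h : stOK B R st = true) {q : ℕ} (hq : B ≤ q) :
    posOf st q = q := by
  induction st with
  | nil => rfl
  | cons s rest ih =>
    have hs := stageOK_iff (List.all_eq_true.1 h s List.mem_cons_self)
    have hr : stOK B R rest = true :=
      List.all_eq_true.2 (fun t ht => List.all_eq_true.1 h t (List.mem_cons_of_mem _ ht))
    show dpos s.1 s.2 (posOf rest q) = q
    rw [ih hr, dpos_ge hs.2.1 hq]

/-- The test number: block `j` is the set of the `r < B` whose `j`-th bit is set. -/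
def IsCoord (B nb X0 : ℕ) : Prop := ∀ j < nb, ∀ r < B, X0.testBit (B * j + r) = r.testBit j

/-- **Equality test.** Two lists of stages with the same effect on the test number give the same
permutation. -/
theorem permOf_eq_of_applyBig (hB : B = 2 ^ nb) (hnb : 0 < nb) (hper : Periodic B nb R) (hX : IsCoord B nb X0)
    {st1 st2 : List (ℕ × ℕ)} (h1 : stOK B R st1 = true) (h2 : stOK B R st2 = true)
    (heq : applyBig R st1 X0 = applyBig R st2 X0) : permOf st1 = permOf st2 := by
  apply Equiv.ext
  intro p
  rw [permOf_apply (smallOK_of_stOK h1), permOf_apply (smallOK_of_stOK h2)]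
  rcases Nat.lt_or_ge p B with hp | hp
  · have key : ∀ j < nb, (posOf st1 p).testBit j = (posOf st2 p).testBit j := by
      intro j hj
      obtain ⟨a1, a2⟩ := posBig_block hper h1 hj hp
      obtain ⟨b1, b2⟩ := posBig_block hper h2 hj hp
      have e1 := testBit_applyBig h1 X0 (B * j + p)
      have e2 := testBit_applyBig h2 X0 (B * j + p)
      rw [a1, hX j hj _ a2] at e1
      rw [b1, hX j hj _ b2] at e2
      rw [← e1, ← e2, heq]
    obtain ⟨-, a2⟩ := posBig_block (j := 0) hper h1 hnb hp
    obtain ⟨-, b2⟩ := posBig_block (j := 0) hper h2 hnb hp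
    apply Nat.eq_of_testBit_eq
    intro j
    rcases Nat.lt_or_ge j nb with hj | hj
    · exact key j hj
    · rw [Nat.testBit_eq_false_of_lt, Nat.testBit_eq_false_of_lt]
      · exact lt_of_lt_of_le (hB ▸ b2) (Nat.pow_le_pow_right (by norm_num) hj)
      · exact lt_of_lt_of_le (hB ▸ a2) (Nat.pow_le_pow_right (by norm_num) hj)
  · rw [posOf_ge h1 hp, posOf_ge h2 hp]

end big

/-! ### The replication constant -/

/-- `repN B n m` is `n` copies of `m`, `B` bits apart. -/
def repN (B : ℕ) : ℕ → ℕ → ℕ
  | 0, _ => 0
  | n + 1, m => (m <<< (B * n)) + repN B n m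

theorem repN_lt {B m : ℕ} (hm : m < 2 ^ B) (n : ℕ) : repN B n m < 2 ^ (B * n) := by
  induction n with
  | zero => simp [repN]
  | succ n ih =>
    rw [repN, Nat.shiftLeft_add_eq_or_of_lt ih]
    apply Nat.or_lt_two_pow
    · rw [Nat.shiftLeft_eq, Nat.mul_succ, Nat.pow_add, mul_comm]
      exact Nat.mul_lt_mul_of_pos_left hm (by positivity)
    · exact lt_of_lt_of_le ih (Nat.pow_le_pow_right (by norm_num) (by rw [Nat.mul_succ]; omega))

theorem testBit_repN {B m : ℕ} (hm : m < 2 ^ B) (n j q : ℕ) (hq : q < B) :
    (repN B n m).testBit (B * j + q) = (decide (j < n) && m.testBit q) := by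
  induction n with
  | zero => simp [repN]
  | succ n ih =>
    rw [repN, Nat.shiftLeft_add_eq_or_of_lt (repN_lt hm n), Nat.testBit_or, ih,
      Nat.testBit_shiftLeft]
    rcases Nat.lt_trichotomy j n with hlt | heq | hgt
    · have h1 : ¬ (B * j + q ≥ B * n) := by
        have : B * (j + 1) ≤ B * n := Nat.mul_le_mul_left _ hlt
        rw [Nat.mul_succ] at this
        omega
      have h2 : j < n + 1 := by omega
      simp [h1, hlt, h2]
    · subst heq
      have h1 : B * j + q ≥ B * j := by omega
      simp [h1]
    · have h1 : B * j + q ≥ B * n := by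
        have : B * n ≤ B * j := Nat.mul_le_mul_left _ hgt.le
        omega
      have h2 : ¬ j < n := by omega
      have h3 : ¬ j < n + 1 := by omega
      have h4 : m.testBit (B * j + q - B * n) = false := by
        apply Nat.testBit_eq_false_of_lt
        refine lt_of_lt_of_le hm (Nat.pow_le_pow_right (by norm_num) ?_)
        have : B * (n + 1) ≤ B * j := Nat.mul_le_mul_left _ hgt
        rw [Nat.mul_succ] at this
        omega
      simp [h1, h2, h3, h4]

theorem repN_eq_mul (B n m : ℕ) : repN B n m = m * repN B n 1 := by
  induction n with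
  | zero => simp [repN]
  | succ n ih =>
    rw [repN, repN, ih, Nat.shiftLeft_eq, Nat.shiftLeft_eq]
    ring

theorem periodic_of_eq {B nb R : ℕ} (hR : R = repN B nb 1) : Periodic B nb R := by
  intro m hm j hj q hq
  rw [hR, ← repN_eq_mul, testBit_repN hm nb j q hq]
  simp [hj]

/-! ### Words in a list of networks -/

section words
variable (B nb R X0 : ℕ) (NW : List (List (ℕ × ℕ)))

/-- The stages of a word: the concatenation of the networks of its letters. -/
def wordSt : List ℕ → List (ℕ × ℕ)
  | [] => []
  | a :: w => NW.getD a [] ++ wordSt w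

/-- The permutation of a word. -/
def el (w : List ℕ) : Equiv.Perm ℕ := permOf (wordSt NW w)

/-- Apply a word to a number made of blocks, letter by letter. -/
def applyW : List ℕ → ℕ → ℕ
  | [], x => x
  | a :: w, x => applyW w (applyBig R (NW.getD a []) x)

/-- Apply a word to a bit set, with the small masks. -/
def applyWs : List ℕ → ℕ → ℕ
  | [], x => x
  | a :: w, x => applyWs w (applySm (NW.getD a []) x)

/-- The equality test for words. -/
def eqW (w1 w2 : List ℕ) : Bool := applyW R NW w1 X0 == applyW R NW w2 X0

variable {B nb R X0 NW}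

theorem wordSt_append (w1 w2 : List ℕ) : wordSt NW (w1 ++ w2) = wordSt NW w1 ++ wordSt NW w2 := by
  induction w1 with
  | nil => rfl
  | cons a w ih => simp [wordSt, ih]

theorem el_nil : el NW [] = 1 := rfl

theorem el_append (w1 w2 : List ℕ) : el NW (w1 ++ w2) = el NW w1 * el NW w2 := by
  unfold el
  rw [wordSt_append, permOf_append]

theorem el_cons (a : ℕ) (w : List ℕ) : el NW (a :: w) = el NW [a] * el NW w :=
  el_append [a] w

theorem el_replicate (a m : ℕ) : el NW (List.replicate m a) = el NW [a] ^ m := by
  induction m with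
  | zero => rfl
  | succ m ih => rw [List.replicate_succ, el_cons, ih, pow_succ']

theorem applyBig_append (st1 st2 : List (ℕ × ℕ)) (x : ℕ) :
    applyBig R (st1 ++ st2) x = applyBig R st2 (applyBig R st1 x) := by
  induction st1 generalizing x with
  | nil => rfl
  | cons s rest ih => exact ih _

theorem applySm_append (st1 st2 : List (ℕ × ℕ)) (x : ℕ) :
    applySm (st1 ++ st2) x = applySm st2 (applySm st1 x) := by
  induction st1 generalizing x with
  | nil => rfl
  | cons s rest ih => exact ih _

theorem applyW_eq (w : List ℕ) (x : ℕ) : applyW R NW w x = applyBig R (wordSt NW w) x := by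
  induction w generalizing x with
  | nil => rfl
  | cons a w ih => rw [applyW, ih, wordSt, applyBig_append]

theorem applyWs_eq (w : List ℕ) (x : ℕ) : applyWs NW w x = applySm (wordSt NW w) x := by
  induction w generalizing x with
  | nil => rfl
  | cons a w ih => rw [applyWs, ih, wordSt, applySm_append]

theorem stOK_append {st1 st2 : List (ℕ × ℕ)} (h1 : stOK B R st1 = true) (h2 : stOK B R st2 = true) :
    stOK B R (st1 ++ st2) = true := by
  unfold stOK at *
  rw [List.all_append, h1, h2]
  rfl

theorem stOK_wordSt (hNW : NW.all (stOK B R) = true) (w : List ℕ) :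
    stOK B R (wordSt NW w) = true := by
  induction w with
  | nil => rfl
  | cons a w ih =>
    apply stOK_append _ ih
    rcases Nat.lt_or_ge a NW.length with h | h
    · rw [List.getD_eq_getElem _ _ h]
      exact List.all_eq_true.1 hNW _ (List.getElem_mem h)
    · rw [List.getD_eq_default _ _ h]
      rfl

/-- The standing hypotheses on the constants. -/
structure Good (B nb R X0 : ℕ) (NW : List (List (ℕ × ℕ))) : Prop where
  hB : B = 2 ^ nb
  hnb : 0 < nb
  hper : Periodic B nb R
  hX : IsCoord B nb X0
  hNW : NW.all (stOK B R) = true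

theorem el_eq_of_eqW (hg : Good B nb R X0 NW) {w1 w2 : List ℕ}
    (h : eqW R X0 NW w1 w2 = true) : el NW w1 = el NW w2 := by
  unfold eqW at h
  rw [beq_iff_eq, applyW_eq, applyW_eq] at h
  exact permOf_eq_of_applyBig hg.hB hg.hnb hg.hper hg.hX (stOK_wordSt hg.hNW w1)
    (stOK_wordSt hg.hNW w2) h

/-- Reading off an image of a point under the permutation of a word. -/
theorem el_apply_of_applyWs (hg : Good B nb R X0 NW) {w : List ℕ} {p q : ℕ}
    (h : applyWs NW w (2 ^ q) = 2 ^ p) : el NW w p = q := by
  rw [applyWs_eq] at h
  exact permOf_eq_of_applySm (smallOK_of_stOK (stOK_wordSt hg.hNW w)) h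

/-- The permutation of a word fixes the positions from `B` on. -/
theorem el_apply_ge (hg : Good B nb R X0 NW) (w : List ℕ) {q : ℕ} (hq : B ≤ q) :
    el NW w q = q := by
  unfold el
  rw [permOf_apply (smallOK_of_stOK (stOK_wordSt hg.hNW w)), posOf_ge (stOK_wordSt hg.hNW w) hq]

end words

end Cfsg.Agent.Helper72.PermNet
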