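import Cfsg.Agent.Lib.Helper72.RuNW
import Cfsg.Agent.Lib.Helper72.RuTab

/-!
# Checks of the chain for a permutation group of degree 4060 isomorphic to the Rudvalis group: products of generators and transversal elements, part 20
-/

set_option autoImplicit false

namespace Cfsg.Agent.Helper72.Ru

open Cfsg.Agent.Helper72.PermNet

set_option maxRecDepth 1000000 in
set_option maxHeartbeats 0 in
theorem cov_4_0 : (List.range' 0 6).all (fun q => chkCov R X0 NW T 4 q) = true := by
  decide +kernel

set_option maxRecDepth 1000000 in
set_option maxHeartbeats 0 in
theorem cov_5_0 : (List.range' 0 8).all (fun q => chkCov R X0 NW T 5 q) = true := by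
  decide +kernel

set_option maxRecDepth 1000000 in
set_option maxHeartbeats 0 in
theorem cov_6_0 : (List.range' 0 20).all (fun q => chkCov R X0 NW T 6 q) = true := by
  decide +kernel

set_option maxRecDepth 1000000 in
set_option maxHeartbeats 0 in
theorem cov_7_0 : (List.range' 0 6).all (fun q => chkCov R X0 NW T 7 q) = true := by
  decide +kernel

set_option maxRecDepth 1000000 in
set_option maxHeartbeats 0 in
theorem cov_8_0 : (List.range' 0 12).all (fun q => chkCov R X0 NW T 8 q) = true := by
  decide +kernel

set_option maxRecDepth 1000000 in
set_option maxHeartbeats 0 in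
theorem cov_9_0 : (List.range' 0 6).all (fun q => chkCov R X0 NW T 9 q) = true := by
  decide +kernel

end Cfsg.Agent.Helper72.Ru
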