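import Cfsg.Agent.Lib.Helper72.RuChkA0
import Cfsg.Agent.Lib.Helper72.RuChkA1
import Cfsg.Agent.Lib.Helper72.RuChkA2
import Cfsg.Agent.Lib.Helper72.RuChkA3
import Cfsg.Agent.Lib.Helper72.RuChkA4
import Cfsg.Agent.Lib.Helper72.RuChkA5
import Cfsg.Agent.Lib.Helper72.RuChkA6
import Cfsg.Agent.Lib.Helper72.RuChkA7
import Cfsg.Agent.Lib.Helper72.RuChkA8
import Cfsg.Agent.Lib.Helper72.RuChkA9
import Cfsg.Agent.Lib.Helper72.RuChkA10
import Cfsg.Agent.Lib.Helper72.RuChkA11
import Cfsg.Agent.Lib.Helper72.RuChkA12
import Cfsg.Agent.Lib.Helper72.RuChkA13
import Cfsg.Agent.Lib.Helper72.RuChkA14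
import Cfsg.Agent.Lib.Helper72.RuChkA15
import Cfsg.Agent.Lib.Helper72.RuChkA16
import Cfsg.Agent.Lib.Helper72.RuChkA17
import Cfsg.Agent.Lib.Helper72.RuChkA18
import Cfsg.Agent.Lib.Helper72.RuChkA19
import Cfsg.Agent.Lib.Helper72.RuChkA20
import Cfsg.Agent.Lib.Helper72.RuChkB

/-!
# The chain for a permutation group of degree 4060 isomorphic to the Rudvalis group: the checks combined
-/

set_option autoImplicit false

namespace Cfsg.Agent.Helper72.Ru

open Cfsg.Agent.Helper72.PermNet

theorem all_range' {f : ℕ → Bool} {lo len : ℕ} (h : (List.range' lo len).all f = true) {q : ℕ}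
    (h1 : lo ≤ q) (h2 : q < lo + len) : f q = true :=
  List.all_eq_true.1 h q (List.mem_range'_1.2 ⟨h1, h2⟩)

theorem cov_lvl_0 : ∀ q < 8120, chkCov R X0 NW T 0 q = true := by
  intro q hq
  by_cases h0 : q < 100
  · exact all_range' cov_0_0 (by omega) (by omega)
  by_cases h1 : q < 200
  · exact all_range' cov_0_1 (by omega) (by omega)
  by_cases h2 : q < 300
  · exact all_range' cov_0_2 (by omega) (by omega)
  by_cases h3 : q < 400
  · exact all_range' cov_0_3 (by omega) (by omega)
  by_cases h4 : q < 500
  · exact all_range' cov_0_4 (by omega) (by omega)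
  by_cases h5 : q < 600
  · exact all_range' cov_0_5 (by omega) (by omega)
  by_cases h6 : q < 700
  · exact all_range' cov_0_6 (by omega) (by omega)
  by_cases h7 : q < 800
  · exact all_range' cov_0_7 (by omega) (by omega)
  by_cases h8 : q < 900
  · exact all_range' cov_0_8 (by omega) (by omega)
  by_cases h9 : q < 1000
  · exact all_range' cov_0_9 (by omega) (by omega)
  by_cases h10 : q < 1100
  · exact all_range' cov_0_10 (by omega) (by omega)
  by_cases h11 : q < 1200
  · exact all_range' cov_0_11 (by omega) (by omega)
  by_cases h12 : q < 1300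
  · exact all_range' cov_0_12 (by omega) (by omega)
  by_cases h13 : q < 1400
  · exact all_range' cov_0_13 (by omega) (by omega)
  by_cases h14 : q < 1500
  · exact all_range' cov_0_14 (by omega) (by omega)
  by_cases h15 : q < 1600
  · exact all_range' cov_0_15 (by omega) (by omega)
  by_cases h16 : q < 1700
  · exact all_range' cov_0_16 (by omega) (by omega)
  by_cases h17 : q < 1800
  · exact all_range' cov_0_17 (by omega) (by omega)
  by_cases h18 : q < 1900
  · exact all_range' cov_0_18 (by omega) (by omega)
  by_cases h19 : q < 2000
  · exact all_range' cov_0_19 (by omega) (by omega)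
  by_cases h20 : q < 2100
  · exact all_range' cov_0_20 (by omega) (by omega)
  by_cases h21 : q < 2200
  · exact all_range' cov_0_21 (by omega) (by omega)
  by_cases h22 : q < 2300
  · exact all_range' cov_0_22 (by omega) (by omega)
  by_cases h23 : q < 2400
  · exact all_range' cov_0_23 (by omega) (by omega)
  by_cases h24 : q < 2500
  · exact all_range' cov_0_24 (by omega) (by omega)
  by_cases h25 : q < 2600
  · exact all_range' cov_0_25 (by omega) (by omega)
  by_cases h26 : q < 2700
  · exact all_range' cov_0_26 (by omega) (by omega)
  by_cases h27 : q < 2800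
  · exact all_range' cov_0_27 (by omega) (by omega)
  by_cases h28 : q < 2900
  · exact all_range' cov_0_28 (by omega) (by omega)
  by_cases h29 : q < 3000
  · exact all_range' cov_0_29 (by omega) (by omega)
  by_cases h30 : q < 3100
  · exact all_range' cov_0_30 (by omega) (by omega)
  by_cases h31 : q < 3200
  · exact all_range' cov_0_31 (by omega) (by omega)
  by_cases h32 : q < 3300
  · exact all_range' cov_0_32 (by omega) (by omega)
  by_cases h33 : q < 3400
  · exact all_range' cov_0_33 (by omega) (by omega)
  by_cases h34 : q < 3500
  · exact all_range' cov_0_34 (by omega) (by omega)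
  by_cases h35 : q < 3600
  · exact all_range' cov_0_35 (by omega) (by omega)
  by_cases h36 : q < 3700
  · exact all_range' cov_0_36 (by omega) (by omega)
  by_cases h37 : q < 3800
  · exact all_range' cov_0_37 (by omega) (by omega)
  by_cases h38 : q < 3900
  · exact all_range' cov_0_38 (by omega) (by omega)
  by_cases h39 : q < 4000
  · exact all_range' cov_0_39 (by omega) (by omega)
  by_cases h40 : q < 4100
  · exact all_range' cov_0_40 (by omega) (by omega)
  by_cases h41 : q < 4200
  · exact all_range' cov_0_41 (by omega) (by omega)
  by_cases h42 : q < 4300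
  · exact all_range' cov_0_42 (by omega) (by omega)
  by_cases h43 : q < 4400
  · exact all_range' cov_0_43 (by omega) (by omega)
  by_cases h44 : q < 4500
  · exact all_range' cov_0_44 (by omega) (by omega)
  by_cases h45 : q < 4600
  · exact all_range' cov_0_45 (by omega) (by omega)
  by_cases h46 : q < 4700
  · exact all_range' cov_0_46 (by omega) (by omega)
  by_cases h47 : q < 4800
  · exact all_range' cov_0_47 (by omega) (by omega)
  by_cases h48 : q < 4900
  · exact all_range' cov_0_48 (by omega) (by omega)
  by_cases h49 : q < 5000
  · exact all_range' cov_0_49 (by omega) (by omega)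
  by_cases h50 : q < 5100
  · exact all_range' cov_0_50 (by omega) (by omega)
  by_cases h51 : q < 5200
  · exact all_range' cov_0_51 (by omega) (by omega)
  by_cases h52 : q < 5300
  · exact all_range' cov_0_52 (by omega) (by omega)
  by_cases h53 : q < 5400
  · exact all_range' cov_0_53 (by omega) (by omega)
  by_cases h54 : q < 5500
  · exact all_range' cov_0_54 (by omega) (by omega)
  by_cases h55 : q < 5600
  · exact all_range' cov_0_55 (by omega) (by omega)
  by_cases h56 : q < 5700
  · exact all_range' cov_0_56 (by omega) (by omega)
  by_cases h57 : q < 5800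
  · exact all_range' cov_0_57 (by omega) (by omega)
  by_cases h58 : q < 5900
  · exact all_range' cov_0_58 (by omega) (by omega)
  by_cases h59 : q < 6000
  · exact all_range' cov_0_59 (by omega) (by omega)
  by_cases h60 : q < 6100
  · exact all_range' cov_0_60 (by omega) (by omega)
  by_cases h61 : q < 6200
  · exact all_range' cov_0_61 (by omega) (by omega)
  by_cases h62 : q < 6300
  · exact all_range' cov_0_62 (by omega) (by omega)
  by_cases h63 : q < 6400
  · exact all_range' cov_0_63 (by omega) (by omega)
  by_cases h64 : q < 6500
  · exact all_range' cov_0_64 (by omega) (by omega)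
  by_cases h65 : q < 6600
  · exact all_range' cov_0_65 (by omega) (by omega)
  by_cases h66 : q < 6700
  · exact all_range' cov_0_66 (by omega) (by omega)
  by_cases h67 : q < 6800
  · exact all_range' cov_0_67 (by omega) (by omega)
  by_cases h68 : q < 6900
  · exact all_range' cov_0_68 (by omega) (by omega)
  by_cases h69 : q < 7000
  · exact all_range' cov_0_69 (by omega) (by omega)
  by_cases h70 : q < 7100
  · exact all_range' cov_0_70 (by omega) (by omega)
  by_cases h71 : q < 7200
  · exact all_range' cov_0_71 (by omega) (by omega)
  by_cases h72 : q < 7300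
  · exact all_range' cov_0_72 (by omega) (by omega)
  by_cases h73 : q < 7400
  · exact all_range' cov_0_73 (by omega) (by omega)
  by_cases h74 : q < 7500
  · exact all_range' cov_0_74 (by omega) (by omega)
  by_cases h75 : q < 7600
  · exact all_range' cov_0_75 (by omega) (by omega)
  by_cases h76 : q < 7700
  · exact all_range' cov_0_76 (by omega) (by omega)
  by_cases h77 : q < 7800
  · exact all_range' cov_0_77 (by omega) (by omega)
  by_cases h78 : q < 7900
  · exact all_range' cov_0_78 (by omega) (by omega)
  by_cases h79 : q < 8000
  · exact all_range' cov_0_79 (by omega) (by omega)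
  by_cases h80 : q < 8100
  · exact all_range' cov_0_80 (by omega) (by omega)
  exact all_range' cov_0_81 (by omega) (by omega)

theorem cov_lvl_1 : ∀ q < 3510, chkCov R X0 NW T 1 q = true := by
  intro q hq
  by_cases h0 : q < 100
  · exact all_range' cov_1_0 (by omega) (by omega)
  by_cases h1 : q < 200
  · exact all_range' cov_1_1 (by omega) (by omega)
  by_cases h2 : q < 300
  · exact all_range' cov_1_2 (by omega) (by omega)
  by_cases h3 : q < 400
  · exact all_range' cov_1_3 (by omega) (by omega)
  by_cases h4 : q < 500
  · exact all_range' cov_1_4 (by omega) (by omega)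
  by_cases h5 : q < 600
  · exact all_range' cov_1_5 (by omega) (by omega)
  by_cases h6 : q < 700
  · exact all_range' cov_1_6 (by omega) (by omega)
  by_cases h7 : q < 800
  · exact all_range' cov_1_7 (by omega) (by omega)
  by_cases h8 : q < 900
  · exact all_range' cov_1_8 (by omega) (by omega)
  by_cases h9 : q < 1000
  · exact all_range' cov_1_9 (by omega) (by omega)
  by_cases h10 : q < 1100
  · exact all_range' cov_1_10 (by omega) (by omega)
  by_cases h11 : q < 1200
  · exact all_range' cov_1_11 (by omega) (by omega)
  by_cases h12 : q < 1300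
  · exact all_range' cov_1_12 (by omega) (by omega)
  by_cases h13 : q < 1400
  · exact all_range' cov_1_13 (by omega) (by omega)
  by_cases h14 : q < 1500
  · exact all_range' cov_1_14 (by omega) (by omega)
  by_cases h15 : q < 1600
  · exact all_range' cov_1_15 (by omega) (by omega)
  by_cases h16 : q < 1700
  · exact all_range' cov_1_16 (by omega) (by omega)
  by_cases h17 : q < 1800
  · exact all_range' cov_1_17 (by omega) (by omega)
  by_cases h18 : q < 1900
  · exact all_range' cov_1_18 (by omega) (by omega)
  by_cases h19 : q < 2000
  · exact all_range' cov_1_19 (by omega) (by omega)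
  by_cases h20 : q < 2100
  · exact all_range' cov_1_20 (by omega) (by omega)
  by_cases h21 : q < 2200
  · exact all_range' cov_1_21 (by omega) (by omega)
  by_cases h22 : q < 2300
  · exact all_range' cov_1_22 (by omega) (by omega)
  by_cases h23 : q < 2400
  · exact all_range' cov_1_23 (by omega) (by omega)
  by_cases h24 : q < 2500
  · exact all_range' cov_1_24 (by omega) (by omega)
  by_cases h25 : q < 2600
  · exact all_range' cov_1_25 (by omega) (by omega)
  by_cases h26 : q < 2700
  · exact all_range' cov_1_26 (by omega) (by omega)
  by_cases h27 : q < 2800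
  · exact all_range' cov_1_27 (by omega) (by omega)
  by_cases h28 : q < 2900
  · exact all_range' cov_1_28 (by omega) (by omega)
  by_cases h29 : q < 3000
  · exact all_range' cov_1_29 (by omega) (by omega)
  by_cases h30 : q < 3100
  · exact all_range' cov_1_30 (by omega) (by omega)
  by_cases h31 : q < 3200
  · exact all_range' cov_1_31 (by omega) (by omega)
  by_cases h32 : q < 3300
  · exact all_range' cov_1_32 (by omega) (by omega)
  by_cases h33 : q < 3400
  · exact all_range' cov_1_33 (by omega) (by omega)
  by_cases h34 : q < 3500
  · exact all_range' cov_1_34 (by omega) (by omega)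
  exact all_range' cov_1_35 (by omega) (by omega)

theorem cov_lvl_2 : ∀ q < 20, chkCov R X0 NW T 2 q = true := by
  intro q hq
  exact all_range' cov_2_0 (by omega) (by omega)

theorem cov_lvl_3 : ∀ q < 24, chkCov R X0 NW T 3 q = true := by
  intro q hq
  exact all_range' cov_3_0 (by omega) (by omega)

theorem cov_lvl_4 : ∀ q < 6, chkCov R X0 NW T 4 q = true := by
  intro q hq
  exact all_range' cov_4_0 (by omega) (by omega)

theorem cov_lvl_5 : ∀ q < 8, chkCov R X0 NW T 5 q = true := by
  intro q hq
  exact all_range' cov_5_0 (by omega) (by omega)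

theorem cov_lvl_6 : ∀ q < 20, chkCov R X0 NW T 6 q = true := by
  intro q hq
  exact all_range' cov_6_0 (by omega) (by omega)

theorem cov_lvl_7 : ∀ q < 6, chkCov R X0 NW T 7 q = true := by
  intro q hq
  exact all_range' cov_7_0 (by omega) (by omega)

theorem cov_lvl_8 : ∀ q < 12, chkCov R X0 NW T 8 q = true := by
  intro q hq
  exact all_range' cov_8_0 (by omega) (by omega)

theorem cov_lvl_9 : ∀ q < 6, chkCov R X0 NW T 9 q = true := by
  intro q hq
  exact all_range' cov_9_0 (by omega) (by omega)

theorem hK : T.K = 10 := rfl

theorem hnLet : T.nLet = 270 := rfl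

/-- All the checks of the chain. -/
theorem checked : Checked 4096 12 R X0 NW T where
  good := good
  hcov := by
    intro i hi q hq
    rw [hK] at hi
    interval_cases i
    · exact cov_lvl_0 q hq
    · exact cov_lvl_1 q hq
    · exact cov_lvl_2 q hq
    · exact cov_lvl_3 q hq
    · exact cov_lvl_4 q hq
    · exact cov_lvl_5 q hq
    · exact cov_lvl_6 q hq
    · exact cov_lvl_7 q hq
    · exact cov_lvl_8 q hq
    · exact cov_lvl_9 q hq
  hpath := by
    intro i hi k hk
    exact List.all_eq_true.1 (List.all_eq_true.1 hpath_all i (List.mem_range.2 hi)) k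
      (List.mem_range.2 hk)
  hpts := by
    intro i hi k hk
    exact List.all_eq_true.1 (List.all_eq_true.1 hpts_all i (List.mem_range.2 hi)) k
      (List.mem_range.2 hk)
  hlet := by
    intro a ha
    rw [hnLet] at ha
    by_cases h0 : a < 50
    · exact all_range' hlet_0 (by omega) (by omega)
    by_cases h1 : a < 100
    · exact all_range' hlet_1 (by omega) (by omega)
    by_cases h2 : a < 150
    · exact all_range' hlet_2 (by omega) (by omega)
    by_cases h3 : a < 200
    · exact all_range' hlet_3 (by omega) (by omega)
    by_cases h4 : a < 250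
    · exact all_range' hlet_4 (by omega) (by omega)
    exact all_range' hlet_5 (by omega) (by omega)
  hgens := by
    intro i hi a ha
    have h := List.all_eq_true.1 (List.all_eq_true.1 hgens_all i (List.mem_range.2 hi)) a ha
    simp only [Bool.and_eq_true, decide_eq_true_eq, beq_iff_eq] at h
    exact ⟨h.1.1, h.1.2, h.2⟩
  hgens' := by
    intro i hi
    exact List.getD_eq_default _ _ hi
  hn := by
    intro i hi
    have h := List.all_eq_true.1 hn_all i (List.mem_range.2 hi)
    simpa using h
  hn' := by
    intro i hi
    exact List.getD_eq_default _ _ hi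

end Cfsg.Agent.Helper72.Ru
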