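import Cfsg.Agent.Lib.Helper72.RuNW
import Cfsg.Agent.Lib.Helper72.RuTNW

/-!
# The Rudvalis group: the generators of the subgroup as words in the generators of the stabilizer

Generated data.
-/

set_option autoImplicit false

namespace Cfsg.Agent.Helper72.RuData

open Cfsg.Agent.Helper72.PermNet

def linkTab : List (List ℕ) := [[134, 134, 134, 135, 134, 134, 135, 134, 134, 135, 135, 134], [135, 135, 135, 134, 134, 135, 135]]

theorem hR : RuT.R = Ru.R := by decide +kernel

theorem hX0 : RuT.X0 = Ru.X0 := by decide +kernel

set_option maxRecDepth 1000000 in
set_option maxHeartbeats 0 in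
/-- The generators of the subgroup are words in the generators of the point stabilizer. -/
theorem hlink : (List.range 2).all (fun k =>
    (linkTab.getD k []).all (fun c => [134, 135].contains c) &&
    (applyW Ru.R RuT.NW [k] Ru.X0 == applyW Ru.R Ru.NW (linkTab.getD k []) Ru.X0)) = true := by
  decide +kernel

end Cfsg.Agent.Helper72.RuData
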