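import Cfsg.Agent.Lib.Helper72.RuTNW
import Cfsg.Agent.Lib.Helper72.RuTTab

/-!
# Checks of the chain for a subgroup of index 2 of a point stabilizer of the Rudvalis group of degree 4060: products of generators and transversal elements, part 6
-/

set_option autoImplicit false

namespace Cfsg.Agent.Helper72.RuT

open Cfsg.Agent.Helper72.PermNet

set_option maxRecDepth 1000000 in
set_option maxHeartbeats 0 in
theorem cov_1_0 : (List.range' 0 20).all (fun q => chkCov R X0 NW T 1 q) = true := by
  decide +kernel

set_option maxRecDepth 1000000 in
set_option maxHeartbeats 0 in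
theorem cov_2_0 : (List.range' 0 16).all (fun q => chkCov R X0 NW T 2 q) = true := by
  decide +kernel

set_option maxRecDepth 1000000 in
set_option maxHeartbeats 0 in
theorem cov_3_0 : (List.range' 0 6).all (fun q => chkCov R X0 NW T 3 q) = true := by
  decide +kernel

set_option maxRecDepth 1000000 in
set_option maxHeartbeats 0 in
theorem cov_4_0 : (List.range' 0 8).all (fun q => chkCov R X0 NW T 4 q) = true := by
  decide +kernel

set_option maxRecDepth 1000000 in
set_option maxHeartbeats 0 in
theorem cov_5_0 : (List.range' 0 20).all (fun q => chkCov R X0 NW T 5 q) = true := by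
  decide +kernel

set_option maxRecDepth 1000000 in
set_option maxHeartbeats 0 in
theorem cov_6_0 : (List.range' 0 12).all (fun q => chkCov R X0 NW T 6 q) = true := by
  decide +kernel

end Cfsg.Agent.Helper72.RuT
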