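import Cfsg.Agent.Lib.Helper72.RuTNW
import Cfsg.Agent.Lib.Helper72.RuTTab

/-!
# Checks of the chain for a subgroup of index 2 of a point stabilizer of the Rudvalis group of degree 4060: paths, orbits, letters
-/

set_option autoImplicit false

namespace Cfsg.Agent.Helper72.RuT

open Cfsg.Agent.Helper72.PermNet

set_option maxRecDepth 1000000 in
set_option maxHeartbeats 0 in
theorem hpath_all : (List.range 8).all (fun i => (List.range (T.n i)).all (fun k =>
    chkPath T i k)) = true := by decide +kernel

set_option maxRecDepth 1000000 in
set_option maxHeartbeats 0 in
theorem hpts_all : (List.range 8).all (fun i => (List.range (T.n i)).all (fun k =>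
    chkPts NW T i k)) = true := by decide +kernel

set_option maxRecDepth 1000000 in
set_option maxHeartbeats 0 in
theorem hlet_0 : (List.range' 0 50).all (fun a => chkLetter R X0 NW T a) = true := by
  decide +kernel

set_option maxRecDepth 1000000 in
set_option maxHeartbeats 0 in
theorem hlet_1 : (List.range' 50 50).all (fun a => chkLetter R X0 NW T a) = true := by
  decide +kernel

set_option maxRecDepth 1000000 in
set_option maxHeartbeats 0 in
theorem hlet_2 : (List.range' 100 50).all (fun a => chkLetter R X0 NW T a) = true := by
  decide +kernel

set_option maxRecDepth 1000000 in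
set_option maxHeartbeats 0 in
theorem hlet_3 : (List.range' 150 21).all (fun a => chkLetter R X0 NW T a) = true := by
  decide +kernel

theorem hgens_all : (List.range 8).all (fun i => (T.gens i).all (fun a =>
    decide (a < T.nLet) && T.lvl a == i && T.kind a == 0)) = true := by decide +kernel

theorem hn_all : (List.range 8).all (fun i => decide (0 < T.n i)) = true := by decide +kernel

/-- The base point of the orbit of a point under the stabilizer of `1`. -/
def base2 (x : ℕ) : ℕ := if x < 92 then 12 else if x < 732 then 92 else 732

/-- The other transversals: elements of the group of level `1` mapping `base2 x` to `x`. -/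
def chkPath2 (x : ℕ) : Bool :=
  (get2 path2Tab [] x).all (fun a => decide (a < T.nLet) && T.lvl a == 1) &&
    (applyWs NW (get2 path2Tab [] x) (2 ^ x) == 2 ^ base2 x)

set_option maxRecDepth 1000000 in
set_option maxHeartbeats 0 in
theorem hpath2_all : (List.range' 12 1744).all chkPath2 = true := by decide +kernel

end Cfsg.Agent.Helper72.RuT
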