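import Cfsg.Agent.Lib.Helper72.RuCov
import Cfsg.Agent.Lib.Helper72.RuTCov
import Cfsg.Agent.Lib.Helper72.RuData
import Cfsg.Agent.Lib.Helper72.PermChain2
import Cfsg.Agent.Lib.Helper72.PermChainNet2
import Cfsg.Agent.Lib.Helper72.PermFin

/-!
# The Rudvalis group as a permutation group of degree 4060
-/

set_option autoImplicit false

namespace Cfsg.Agent.Helper72.RuMain

open Cfsg.Agent.Helper72.PermNet Cfsg.Agent.Helper72.RuData Cfsg.Agent.Helper72.PermFin

/-- The group, as a group of permutations of `ℕ`. -/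
abbrev G : Subgroup (Equiv.Perm ℕ) := Lv Ru.NW Ru.T 0

/-- The stabilizer of `0`. -/
abbrev K1 : Subgroup (Equiv.Perm ℕ) := Lv Ru.NW Ru.T 1

theorem smul_eq (g : G) (x : ℕ) : g • x = (g : Equiv.Perm ℕ) x := rfl

theorem prod0 : prodFrom Ru.T 0 = 145926144000 := by decide +kernel

theorem prod1 : prodFrom Ru.T 1 = 35942400 := by decide +kernel

instance finiteG : Finite G := (card_Lv Ru.checked 0).1

theorem card_G : Nat.card G = 145926144000 := by
  rw [← prod0]
  exact (card_Lv Ru.checked 0).2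

instance finiteK1 : Finite K1 := (card_Lv Ru.checked 1).1

instance finiteK1' : Finite (Lv Ru.NW Ru.T (0 + 1)) := finiteK1

theorem card_K1 : Nat.card K1 = 35942400 := by
  rw [← prod1]
  exact (card_Lv Ru.checked 1).2

theorem pts0 : (List.range 4060).all (fun k => Ru.T.pts 0 k == k) = true := by decide +kernel

theorem pts1 : (List.range 1755).all (fun k => Ru.T.pts 1 k == 1 + k) = true := by decide +kernel

theorem pts0_eq {k : ℕ} (hk : k < 4060) : Ru.T.pts 0 k = k := by
  have := List.all_eq_true.1 pts0 k (List.mem_range.2 hk)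
  simpa using this

theorem pts1_eq {k : ℕ} (hk : k < 1755) : Ru.T.pts 1 k = 1 + k := by
  have := List.all_eq_true.1 pts1 k (List.mem_range.2 hk)
  simpa using this

theorem base0 : Ru.T.base 0 = 0 := rfl
theorem base1 : Ru.T.base 1 = 1 := rfl
theorem n0 : Ru.T.n 0 = 4060 := rfl
theorem n1 : Ru.T.n 1 = 1755 := rfl
theorem hK0 : 0 < Ru.T.K := by rw [Ru.hK]; norm_num
theorem hK1 : 1 < Ru.T.K := by rw [Ru.hK]; norm_num

theorem apply_zero_lt {g : Equiv.Perm ℕ} (hg : g ∈ G) : g 0 < 4060 := by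
  obtain ⟨k, hk, e⟩ := (level Ru.checked (i := 0) hK0).2.2.2 g hg
  rw [base0] at e
  rw [n0] at hk
  rw [e, pts0_eq hk]
  exact hk

theorem exists_map_zero {x : ℕ} (hx : x < 4060) : ∃ g ∈ G, g 0 = x := by
  refine ⟨el Ru.NW (Ru.T.path 0 x), path_mem Ru.checked hK0 (by rw [n0]; exact hx), ?_⟩
  have := path_apply Ru.checked (i := 0) (k := x) hK0 (by rw [n0]; exact hx)
  rw [base0, pts0_eq hx] at this
  exact this

theorem K1_le : K1 ≤ G := Lv_succ_le Ru.checked 0

theorem K1_fix {g : Equiv.Perm ℕ} (hg : g ∈ K1) : g 0 = 0 := Lv_fix Ru.checked 0 g hg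

theorem mem_K1 {g : Equiv.Perm ℕ} (hg : g ∈ G) (h0 : g 0 = 0) : g ∈ K1 :=
  (level Ru.checked (i := 0) hK0).2.2.1 g hg h0

/-- The transversal of level `1`. -/
theorem exists_map_one {x : ℕ} (h1 : 1 ≤ x) (hx : x ≤ 1755) : ∃ g ∈ K1, g 1 = x := by
  have hk : x - 1 < 1755 := by omega
  refine ⟨el Ru.NW (Ru.T.path 1 (x - 1)), path_mem Ru.checked hK1 (by rw [n1]; exact hk), ?_⟩
  have := path_apply Ru.checked (i := 1) (k := x - 1) hK1 (by rw [n1]; exact hk)
  rw [base1, pts1_eq hk] at this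
  rw [this]
  omega

/-- A word in letters of level `1` belongs to the group of level `1`. -/
theorem word_mem_K1 {w : List ℕ}
    (h : w.all (fun a => decide (a < Ru.T.nLet) && Ru.T.lvl a == 1) = true) :
    el Ru.NW w ∈ K1 := by
  induction w with
  | nil => rw [el_nil]; exact Subgroup.one_mem _
  | cons c w ih =>
    rw [List.all_cons, Bool.and_eq_true] at h
    rw [el_cons]
    refine Subgroup.mul_mem _ ?_ (ih h.2)
    have h2 := h.1
    simp only [Bool.and_eq_true, decide_eq_true_eq, beq_iff_eq] at h2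
    have := letter_mem Ru.checked h2.1
    rwa [h2.2] at this

/-- The other transversal of level `1`. -/
theorem exists_map_1756 {x : ℕ} (h1 : 1756 ≤ x) (hx : x ≤ 4059) : ∃ g ∈ K1, g 1756 = x := by
  have h : Ru.chkPath2 x = true := Ru.all_range' Ru.hpath2_all h1 (by omega)
  unfold Ru.chkPath2 at h
  rw [Bool.and_eq_true, beq_iff_eq] at h
  exact ⟨el Ru.NW (Ru.get2 Ru.path2Tab [] x), word_mem_K1 h.1,
    el_apply_of_applyWs Ru.good h.2⟩

theorem gens0 : Ru.T.gens 0 = [0, 1] := rfl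

/-- The elements of the group fix the numbers from `4060` on. -/
theorem apply_ge {g : Equiv.Perm ℕ} (hg : g ∈ G) {p : ℕ} (hp : 4060 ≤ p) : g p = p := by
  have hgen : ∀ s ∈ Ru.T.gens 0, el Ru.NW [s] p = p := by
    intro s hs
    rcases Nat.lt_or_ge p 4096 with h | h
    · have hf := Ru.all_range' Ru.hfix_all hp (by omega : p < 4060 + 36)
      unfold Ru.chkFix at hf
      rw [Bool.and_eq_true, beq_iff_eq, beq_iff_eq] at hf
      have hs' : s = 0 ∨ s = 1 := by
        rw [gens0] at hs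
        simpa using hs
      rcases hs' with rfl | rfl
      · exact el_apply_of_applyWs Ru.good hf.1
      · exact el_apply_of_applyWs Ru.good hf.2
    · exact el_apply_ge Ru.good _ h
  induction hg using Subgroup.closure_induction'' with
  | one => rfl
  | mem x hx =>
    obtain ⟨s, hs, rfl⟩ := hx
    exact hgen s hs
  | inv_mem x hx =>
    obtain ⟨s, hs, rfl⟩ := hx
    rw [Equiv.Perm.inv_eq_iff_eq]
    exact (hgen s hs).symm
  | mul x y _ _ hx hy => rw [Equiv.Perm.mul_apply, hy, hx]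

theorem orbit_eq_Iio : MulAction.orbit G (0 : ℕ) = Set.Iio 4060 := by
  ext x
  constructor
  · rintro ⟨g, rfl⟩
    exact apply_zero_lt g.2
  · intro hx
    obtain ⟨g, hg, e⟩ := exists_map_zero (x := x) hx
    exact ⟨⟨g, hg⟩, e⟩

theorem Iio_eq : Set.Iio 4060 = ({0} ∪ Set.Icc 1 1755 ∪ Set.Icc 1756 4059 : Set ℕ) := by
  ext x
  simp only [Set.mem_Iio, Set.mem_union, Set.mem_singleton_iff, Set.mem_Icc]
  omega

theorem ncard_orbit : (MulAction.orbit G (0 : ℕ)).ncard = 4060 := by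
  rw [orbit_eq_Iio, ← Finset.coe_range, Set.ncard_coe_finset, Finset.card_range]

theorem ncard_Icc (a b : ℕ) : (Set.Icc a b).ncard = b + 1 - a := by
  rw [← Finset.coe_Icc, Set.ncard_coe_finset, Nat.card_Icc]

/-- The stabilizer of `0` is transitive on the images of a point under the group of level `1`. -/
theorem trans_of_maps {b x y : ℕ} (hx : ∃ g ∈ K1, g b = x) (hy : ∃ g ∈ K1, g b = y) :
    ∃ k : G, k • (0 : ℕ) = 0 ∧ k • x = y := by
  obtain ⟨g1, hg1, e1⟩ := hx
  obtain ⟨g2, hg2, e2⟩ := hy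
  have hm : g2 * g1⁻¹ ∈ K1 := Subgroup.mul_mem _ hg2 (Subgroup.inv_mem _ hg1)
  refine ⟨⟨g2 * g1⁻¹, K1_le hm⟩, K1_fix hm, ?_⟩
  show (g2 * g1⁻¹) x = y
  have h1 : g1⁻¹ (g1 b) = b := Equiv.Perm.inv_eq_iff_eq.2 rfl
  rw [Equiv.Perm.mul_apply, ← e1, h1, e2]

theorem maximalG (M : Subgroup G) (hM : MulAction.stabilizer G (0 : ℕ) ≤ M) :
    M = MulAction.stabilizer G (0 : ℕ) ∨ M = ⊤ := by
  refine PermChain.maximal_stabilizer (G := G) (X := ℕ) 0 1755 2304 (Set.Icc 1 1755)
    (Set.Icc 1756 4059) (Set.finite_Icc _ _) (Set.finite_Icc _ _) (by rw [ncard_Icc])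
    (by rw [ncard_Icc]) (by simp) (by simp) ?_ (by rw [orbit_eq_Iio, Iio_eq]) ?_ ?_
    (by norm_num) (by norm_num) M hM
  · refine Set.disjoint_left.2 (fun x h1 h2 => ?_)
    rw [Set.mem_Icc] at h1 h2
    omega
  · intro x hx y hy
    exact trans_of_maps (exists_map_one hx.1 hx.2) (exists_map_one hy.1 hy.2)
  · intro x hx y hy
    exact trans_of_maps (exists_map_1756 hx.1 hx.2) (exists_map_1756 hy.1 hy.2)

theorem gen_pow {s : ℕ} (hs : s ∈ Ru.T.gens 0) : el Ru.NW [s] ^ 29 = 1 := by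
  obtain ⟨h1, h2, h3⟩ := Ru.checked.hgens 0 hK0 s hs
  have h := Ru.checked.hlet s h1
  unfold chkLetter at h
  rw [if_pos h3] at h
  simp only [Bool.and_eq_true, decide_eq_true_eq] at h
  have hord : Ru.T.ord s = 29 := by
    rw [gens0] at hs
    simp only [List.mem_cons, List.not_mem_nil, or_false] at hs
    rcases hs with rfl | rfl <;> rfl
  rw [← hord, ← el_replicate, el_eq_of_eqW Ru.checked.good h.1.2, el_nil]

theorem faithfulG (g : G) (hg : ∀ h : G, g • (h • (0 : ℕ)) = h • (0 : ℕ)) : g = 1 := by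
  apply Subtype.ext
  apply Equiv.ext
  intro p
  show (g : Equiv.Perm ℕ) p = p
  rcases Nat.lt_or_ge p 4060 with hp | hp
  · obtain ⟨h, hh, e⟩ := exists_map_zero hp
    have := hg ⟨h, hh⟩
    rw [smul_eq, smul_eq] at this
    rw [← e]
    exact this
  · exact apply_ge g.2 hp

/-- The group is simple. -/
theorem simpleG : IsSimpleGroup G := by
  have : Nontrivial G := by
    rw [← Finite.one_lt_card_iff_nontrivial, card_G]
    norm_num
  refine PermChain.simple_of_primitive (G := G) (X := ℕ) (0 : ℕ) 4060 ncard_orbit maximalG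
    faithfulG 29 (by norm_num) (by norm_num) (by rw [card_G]; norm_num)
    (((↑) : G → Equiv.Perm ℕ) ⁻¹' {g | ∃ s ∈ Ru.T.gens 0, g = el Ru.NW [s]})
    Subgroup.closure_closure_coe_preimage ?_
  rintro g ⟨s, hs, e⟩
  apply Subtype.ext
  rw [Subgroup.coe_pow, e, gen_pow hs]
  rfl

/-! ### The subgroup of index 2 of the stabilizer -/

/-- The subgroup, as a group of permutations of `ℕ`. -/
abbrev T0 : Subgroup (Equiv.Perm ℕ) := Lv RuT.NW RuT.T 0

/-- The stabilizer of `1` in the subgroup. -/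
abbrev T1 : Subgroup (Equiv.Perm ℕ) := Lv RuT.NW RuT.T 1

theorem smulT_eq (g : T0) (x : ℕ) : g • x = (g : Equiv.Perm ℕ) x := rfl

theorem prodT : prodFrom RuT.T 0 = 17971200 := by decide +kernel

instance finiteT0 : Finite T0 := (card_Lv RuT.checked 0).1

theorem card_T0 : Nat.card T0 = 17971200 := by
  rw [← prodT]
  exact (card_Lv RuT.checked 0).2

instance finiteT1 : Finite T1 := (card_Lv RuT.checked 1).1

instance finiteT1' : Finite (Lv RuT.NW RuT.T (0 + 1)) := finiteT1

theorem gens1 : Ru.T.gens 1 = [134, 135] := rfl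

theorem gensT : RuT.T.gens 0 = [0, 1] := rfl

theorem T0_le : T0 ≤ K1 := by
  show Lv RuT.NW RuT.T 0 ≤ K1
  unfold Lv
  rw [Subgroup.closure_le]
  rintro g ⟨s, hs, rfl⟩
  have hs2 : s < 2 := by
    rw [gensT] at hs
    simp only [List.mem_cons, List.not_mem_nil, or_false] at hs
    omega
  have h := List.all_eq_true.1 hlink s (List.mem_range.2 hs2)
  rw [Bool.and_eq_true, beq_iff_eq] at h
  have hgN : Good 4096 12 Ru.R Ru.X0 RuT.NW := by
    have := RuT.good
    rwa [hR, hX0] at this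
  have e : el RuT.NW [s] = el Ru.NW (linkTab.getD s []) := by
    have h2 := h.2
    rw [applyW_eq, applyW_eq] at h2
    exact permOf_eq_of_applyBig hgN.hB hgN.hnb hgN.hper hgN.hX (stOK_wordSt hgN.hNW [s])
      (stOK_wordSt Ru.good.hNW _) h2
  rw [e]
  apply word_mem
  intro c hc
  have := List.all_eq_true.1 h.1 c hc
  rw [gens1]
  simpa using this

theorem ptsT0 : (List.range 1755).all (fun k => RuT.T.pts 0 k == 1 + k) = true := by
  decide +kernel

theorem ptsT1 : (List.range 10).all (fun k => RuT.T.pts 1 k == 2 + k) = true := by decide +kernel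

theorem ptsT0_eq {k : ℕ} (hk : k < 1755) : RuT.T.pts 0 k = 1 + k := by
  have := List.all_eq_true.1 ptsT0 k (List.mem_range.2 hk)
  simpa using this

theorem ptsT1_eq {k : ℕ} (hk : k < 10) : RuT.T.pts 1 k = 2 + k := by
  have := List.all_eq_true.1 ptsT1 k (List.mem_range.2 hk)
  simpa using this

theorem baseT0 : RuT.T.base 0 = 1 := rfl
theorem baseT1 : RuT.T.base 1 = 2 := rfl
theorem nT0 : RuT.T.n 0 = 1755 := rfl
theorem nT1 : RuT.T.n 1 = 10 := rfl
theorem hKT0 : 0 < RuT.T.K := by rw [RuT.hK]; norm_num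
theorem hKT1 : 1 < RuT.T.K := by rw [RuT.hK]; norm_num

theorem T_apply_one {g : Equiv.Perm ℕ} (hg : g ∈ T0) : 1 ≤ g 1 ∧ g 1 ≤ 1755 := by
  obtain ⟨k, hk, e⟩ := (level RuT.checked (i := 0) hKT0).2.2.2 g hg
  rw [baseT0] at e
  rw [nT0] at hk
  rw [e, ptsT0_eq hk]
  omega

theorem T_exists_map_one {x : ℕ} (h1 : 1 ≤ x) (hx : x ≤ 1755) : ∃ g ∈ T0, g 1 = x := by
  have hk : x - 1 < 1755 := by omega
  refine ⟨el RuT.NW (RuT.T.path 0 (x - 1)),
    path_mem RuT.checked hKT0 (by rw [nT0]; exact hk), ?_⟩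
  have := path_apply RuT.checked (i := 0) (k := x - 1) hKT0 (by rw [nT0]; exact hk)
  rw [baseT0, ptsT0_eq hk] at this
  rw [this]
  omega

theorem T1_le : T1 ≤ T0 := Lv_succ_le RuT.checked 0

theorem T1_fix {g : Equiv.Perm ℕ} (hg : g ∈ T1) : g 1 = 1 := Lv_fix RuT.checked 0 g hg

theorem T_exists_map_two {x : ℕ} (h1 : 2 ≤ x) (hx : x ≤ 11) : ∃ g ∈ T1, g 2 = x := by
  have hk : x - 2 < 10 := by omega
  refine ⟨el RuT.NW (RuT.T.path 1 (x - 2)),
    path_mem RuT.checked hKT1 (by rw [nT1]; exact hk), ?_⟩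
  have := path_apply RuT.checked (i := 1) (k := x - 2) hKT1 (by rw [nT1]; exact hk)
  rw [baseT1, ptsT1_eq hk] at this
  rw [this]
  omega

theorem word_mem_T1 {w : List ℕ}
    (h : w.all (fun a => decide (a < RuT.T.nLet) && RuT.T.lvl a == 1) = true) :
    el RuT.NW w ∈ T1 := by
  induction w with
  | nil => rw [el_nil]; exact Subgroup.one_mem _
  | cons c w ih =>
    rw [List.all_cons, Bool.and_eq_true] at h
    rw [el_cons]
    refine Subgroup.mul_mem _ ?_ (ih h.2)
    have h2 := h.1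
    simp only [Bool.and_eq_true, decide_eq_true_eq, beq_iff_eq] at h2
    have := letter_mem RuT.checked h2.1
    rwa [h2.2] at this

theorem T_exists_map_base2 {x : ℕ} (h1 : 12 ≤ x) (hx : x ≤ 1755) :
    ∃ g ∈ T1, g (RuT.base2 x) = x := by
  have h : RuT.chkPath2 x = true := RuT.all_range' RuT.hpath2_all h1 (by omega)
  unfold RuT.chkPath2 at h
  rw [Bool.and_eq_true, beq_iff_eq] at h
  exact ⟨el RuT.NW (RuT.get2 RuT.path2Tab [] x), word_mem_T1 h.1,
    el_apply_of_applyWs RuT.good h.2⟩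

theorem T_trans_of_maps {b x y : ℕ} (hx : ∃ g ∈ T1, g b = x) (hy : ∃ g ∈ T1, g b = y) :
    ∃ k : T0, k • (1 : ℕ) = 1 ∧ k • x = y := by
  obtain ⟨g1, hg1, e1⟩ := hx
  obtain ⟨g2, hg2, e2⟩ := hy
  have hm : g2 * g1⁻¹ ∈ T1 := Subgroup.mul_mem _ hg2 (Subgroup.inv_mem _ hg1)
  refine ⟨⟨g2 * g1⁻¹, T1_le hm⟩, T1_fix hm, ?_⟩
  show (g2 * g1⁻¹) x = y
  have h1 : g1⁻¹ (g1 b) = b := Equiv.Perm.inv_eq_iff_eq.2 rfl
  rw [Equiv.Perm.mul_apply, ← e1, h1, e2]

theorem T_orbit : MulAction.orbit T0 (1 : ℕ) = Set.Icc 1 1755 := by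
  ext x
  constructor
  · rintro ⟨g, rfl⟩
    exact Set.mem_Icc.2 (T_apply_one g.2)
  · intro hx
    obtain ⟨g, hg, e⟩ := T_exists_map_one (x := x) hx.1 hx.2
    exact ⟨⟨g, hg⟩, e⟩

/-- The orbits of the stabilizer of `1` in the subgroup. -/
def orb : Fin 4 → Set ℕ := ![Set.Icc 2 11, Set.Icc 12 91, Set.Icc 92 731, Set.Icc 732 1755]

/-- The sizes of these orbits. -/
def osz : Fin 4 → ℕ := ![10, 80, 640, 1024]

theorem Icc_eq : Set.Icc 1 1755 = ({1} ∪ ⋃ i, orb i : Set ℕ) := by
  ext x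
  constructor
  · intro hx
    rw [Set.mem_Icc] at hx
    rcases Nat.lt_or_ge x 2 with h0 | h0
    · left
      rw [Set.mem_singleton_iff]
      omega
    · right
      rw [Set.mem_iUnion]
      rcases Nat.lt_or_ge x 12 with h1 | h1
      · exact ⟨0, Set.mem_Icc.2 ⟨h0, by omega⟩⟩
      rcases Nat.lt_or_ge x 92 with h2 | h2
      · exact ⟨1, Set.mem_Icc.2 ⟨h1, by omega⟩⟩
      rcases Nat.lt_or_ge x 732 with h3 | h3
      · exact ⟨2, Set.mem_Icc.2 ⟨h2, by omega⟩⟩
      · exact ⟨3, Set.mem_Icc.2 ⟨h3, by omega⟩⟩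
  · rintro (h | h)
    · rw [Set.mem_singleton_iff] at h
      rw [h]
      exact Set.mem_Icc.2 ⟨le_rfl, by norm_num⟩
    · rw [Set.mem_iUnion] at h
      obtain ⟨i, hi⟩ := h
      rw [Set.mem_Icc]
      fin_cases i
      · have := Set.mem_Icc.1 hi
        omega
      · have := Set.mem_Icc.1 hi
        omega
      · have := Set.mem_Icc.1 hi
        omega
      · have := Set.mem_Icc.1 hi
        omega

theorem T_ncard_orbit : (MulAction.orbit T0 (1 : ℕ)).ncard = 1755 := by
  rw [T_orbit, ncard_Icc]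

theorem har : ∀ S : Finset (Fin 4), (1 + ∑ i ∈ S, osz i) ∣ (1 + ∑ i, osz i) →
    S = ∅ ∨ S = Finset.univ := by decide

theorem maximalT (M : Subgroup T0) (hM : MulAction.stabilizer T0 (1 : ℕ) ≤ M) :
    M = MulAction.stabilizer T0 (1 : ℕ) ∨ M = ⊤ := by
  refine PermChain.maximal_stabilizer_fin (G := T0) (X := ℕ) 1 4 orb osz ?_ ?_ ?_ ?_
    (by rw [T_orbit, Icc_eq]) ?_ har M hM
  · intro i
    fin_cases i <;> exact Set.finite_Icc _ _
  · intro i
    fin_cases i <;> exact ncard_Icc _ _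
  · intro i
    fin_cases i <;> simp [orb]
  · intro i j hij
    refine Set.disjoint_left.2 (fun x h1 h2 => ?_)
    fin_cases i <;> fin_cases j <;> simp [orb] at h1 h2 hij <;> omega
  · intro i x hx y hy
    fin_cases i
    · simp only [orb, Fin.zero_eta, Fin.isValue, Matrix.cons_val_zero, Set.mem_Icc] at hx hy
      exact T_trans_of_maps (T_exists_map_two hx.1 hx.2) (T_exists_map_two hy.1 hy.2)
    · simp only [orb, Fin.mk_one, Fin.isValue, Matrix.cons_val_one, Matrix.cons_val_zero,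
        Set.mem_Icc] at hx hy
      have e1 : RuT.base2 x = 12 := by unfold RuT.base2; rw [if_pos (by omega)]
      have e2 : RuT.base2 y = 12 := by unfold RuT.base2; rw [if_pos (by omega)]
      have a1 := T_exists_map_base2 (x := x) hx.1 (by omega)
      have a2 := T_exists_map_base2 (x := y) hy.1 (by omega)
      rw [e1] at a1
      rw [e2] at a2
      exact T_trans_of_maps a1 a2
    · simp only [orb, Fin.reduceFinMk, Matrix.cons_val, Set.mem_Icc] at hx hy
      have e1 : RuT.base2 x = 92 := by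
        unfold RuT.base2; rw [if_neg (by omega), if_pos (by omega)]
      have e2 : RuT.base2 y = 92 := by
        unfold RuT.base2; rw [if_neg (by omega), if_pos (by omega)]
      have a1 := T_exists_map_base2 (x := x) (by omega) (by omega)
      have a2 := T_exists_map_base2 (x := y) (by omega) (by omega)
      rw [e1] at a1
      rw [e2] at a2
      exact T_trans_of_maps a1 a2
    · simp only [orb, Fin.reduceFinMk, Matrix.cons_val, Set.mem_Icc] at hx hy
      have e1 : RuT.base2 x = 732 := by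
        unfold RuT.base2; rw [if_neg (by omega), if_neg (by omega)]
      have e2 : RuT.base2 y = 732 := by
        unfold RuT.base2; rw [if_neg (by omega), if_neg (by omega)]
      have a1 := T_exists_map_base2 (x := x) (by omega) (by omega)
      have a2 := T_exists_map_base2 (x := y) (by omega) (by omega)
      rw [e1] at a1
      rw [e2] at a2
      exact T_trans_of_maps a1 a2

theorem T_gen_pow {s : ℕ} (hs : s ∈ RuT.T.gens 0) : el RuT.NW [s] ^ 13 = 1 := by
  obtain ⟨h1, h2, h3⟩ := RuT.checked.hgens 0 hKT0 s hs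
  have h := RuT.checked.hlet s h1
  unfold chkLetter at h
  rw [if_pos h3] at h
  simp only [Bool.and_eq_true, decide_eq_true_eq] at h
  have hord : RuT.T.ord s = 13 := by
    rw [gensT] at hs
    simp only [List.mem_cons, List.not_mem_nil, or_false] at hs
    rcases hs with rfl | rfl <;> rfl
  rw [← hord, ← el_replicate, el_eq_of_eqW RuT.checked.good h.1.2, el_nil]

theorem basesT : ∀ i < RuT.T.K, 1 ≤ RuT.T.base i ∧ RuT.T.base i ≤ 1755 := by decide

theorem faithfulT (g : T0) (hg : ∀ h : T0, g • (h • (1 : ℕ)) = h • (1 : ℕ)) : g = 1 := by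
  apply Subtype.ext
  show (g : Equiv.Perm ℕ) = 1
  apply eq_one_of_fix_bases RuT.checked g.2
  intro i hi
  obtain ⟨h1, h2⟩ := basesT i hi
  obtain ⟨h, hh, e⟩ := T_exists_map_one h1 h2
  have := hg ⟨h, hh⟩
  rw [smulT_eq, smulT_eq] at this
  rw [← e]
  exact this

/-- The subgroup is simple. -/
theorem simpleT0 : IsSimpleGroup T0 := by
  have : Nontrivial T0 := by
    rw [← Finite.one_lt_card_iff_nontrivial, card_T0]
    norm_num
  refine PermChain.simple_of_primitive (G := T0) (X := ℕ) (1 : ℕ) 1755 T_ncard_orbit maximalT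
    faithfulT 13 (by norm_num) (by norm_num) (by rw [card_T0]; norm_num)
    (((↑) : T0 → Equiv.Perm ℕ) ⁻¹' {g | ∃ s ∈ RuT.T.gens 0, g = el RuT.NW [s]})
    Subgroup.closure_closure_coe_preimage ?_
  rintro g ⟨s, hs, e⟩
  apply Subtype.ext
  rw [Subgroup.coe_pow, e, T_gen_pow hs]
  rfl

/-! ### Transport to `Fin 4060` -/

/-- The group, as a group of permutations of `Fin 4060`. -/
def H : Subgroup (Equiv.Perm (Fin 4060)) := G.comap (extHom 4060)

theorem exists_of_mem_G {g : Equiv.Perm ℕ} (hg : g ∈ G) :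
    ∃ σ : Equiv.Perm (Fin 4060), extHom 4060 σ = g :=
  exists_ext_eq (fun _ hx => apply_ge hg hx)

/-- The two groups are isomorphic. -/
noncomputable def equivHG : H ≃* G :=
  comapEquiv (extHom 4060) extHom_injective G (fun _ hg => exists_of_mem_G hg)

theorem isRu_H : IsSimpleGroup H ∧ Nat.card H = 145926144000 := by
  constructor
  · have := simpleG
    exact equivHG.isSimpleGroup
  · rw [Nat.card_congr equivHG.toEquiv, card_G]

theorem pretransitive_H : MulAction.IsPretransitive H (Fin 4060) := by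
  refine ⟨fun i j => ?_⟩
  obtain ⟨g1, hg1, e1⟩ := exists_map_zero i.2
  obtain ⟨g2, hg2, e2⟩ := exists_map_zero j.2
  have hm : g2 * g1⁻¹ ∈ G := Subgroup.mul_mem _ hg2 (Subgroup.inv_mem _ hg1)
  obtain ⟨σ, hσ⟩ := exists_of_mem_G hm
  refine ⟨⟨σ, ?_⟩, ?_⟩
  · show extHom 4060 σ ∈ G
    rw [hσ]
    exact hm
  · show σ i = j
    apply Fin.ext
    rw [← ext_apply_fin, ← extHom_apply, hσ, Equiv.Perm.mul_apply, ← e1]
    have h1 : g1⁻¹ (g1 0) = 0 := Equiv.Perm.inv_eq_iff_eq.2 rfl
    rw [h1, e2]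

/-- The stabilizer of `0`. -/
abbrev S : Subgroup H := MulAction.stabilizer H (0 : Fin 4060)

/-- The stabilizer as a group of permutations of `ℕ`. -/
def ψ : S →* Equiv.Perm ℕ := (extHom 4060).comp (H.subtype.comp S.subtype)

theorem ψ_injective : Function.Injective ψ := by
  intro a b h
  apply Subtype.ext
  apply Subtype.ext
  exact extHom_injective h

theorem ψ_mem (s : S) : ψ s ∈ K1 := by
  apply mem_K1 s.1.2
  have h1 : (s.1 : Equiv.Perm (Fin 4060)) (0 : Fin 4060) = 0 := s.2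
  have h2 := ext_apply_fin (s.1 : Equiv.Perm (Fin 4060)) (0 : Fin 4060)
  rw [h1] at h2
  exact h2

theorem exists_ψ_eq {g : Equiv.Perm ℕ} (hg : g ∈ K1) : ∃ s : S, ψ s = g := by
  obtain ⟨σ, hσ⟩ := exists_of_mem_G (K1_le hg)
  have hσH : σ ∈ H := by
    show extHom 4060 σ ∈ G
    rw [hσ]
    exact K1_le hg
  have h0 : σ (0 : Fin 4060) = 0 := by
    apply Fin.ext
    rw [← ext_apply_fin, ← extHom_apply, hσ]
    exact K1_fix hg
  exact ⟨⟨⟨σ, hσH⟩, h0⟩, hσ⟩

theorem card_S : Nat.card S = 35942400 := by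
  have e := comapEquiv ψ ψ_injective K1 (fun _ hg => exists_ψ_eq hg)
  have htop : K1.comap ψ = ⊤ := by
    rw [eq_top_iff]
    intro s _
    exact ψ_mem s
  rw [← card_K1, ← Nat.card_congr e.toEquiv, htop]
  exact (Nat.card_congr Subgroup.topEquiv.toEquiv).symm

/-- The simple subgroup of the stabilizer. -/
def T : Subgroup S := T0.comap ψ

/-- It is isomorphic to `T0`. -/
noncomputable def equivT : T ≃* T0 :=
  comapEquiv ψ ψ_injective T0 (fun _ hg => exists_ψ_eq (T0_le hg))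

theorem isTits_T : IsSimpleGroup T ∧ Nat.card T = 17971200 := by
  constructor
  · have := simpleT0
    exact equivT.isSimpleGroup
  · rw [Nat.card_congr equivT.toEquiv, card_T0]

/-- The Rudvalis group as a permutation group of degree `4060`. -/
theorem main : ∃ H : Subgroup (Equiv.Perm (Fin 4060)),
    (IsSimpleGroup H ∧ Nat.card H = 145926144000) ∧ MulAction.IsPretransitive H (Fin 4060) ∧
      Nat.card (MulAction.stabilizer H (0 : Fin 4060)) = 35942400 ∧
        ∃ T : Subgroup (MulAction.stabilizer H (0 : Fin 4060)),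
          IsSimpleGroup T ∧ Nat.card T = 17971200 :=
  ⟨H, isRu_H, pretransitive_H, card_S, T, isTits_T⟩

end Cfsg.Agent.Helper72.RuMain
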