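import Cfsg.Agent.Lib.Helper72.SuzNW
import Cfsg.Agent.Lib.Helper72.SuzTab

/-!
# Checks of the chain for the Suzuki group: paths, orbits, letters
-/

set_option autoImplicit false

namespace Cfsg.Agent.Helper72.Suz

open Cfsg.Agent.Helper72.PermNet

set_option maxRecDepth 1000000 in
set_option maxHeartbeats 0 in
theorem hpath_all : (List.range 9).all (fun i => (List.range (T.n i)).all (fun k =>
    chkPath T i k)) = true := by decide +kernel

set_option maxRecDepth 1000000 in
set_option maxHeartbeats 0 in
theorem hpts_all : (List.range 9).all (fun i => (List.range (T.n i)).all (fun k =>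
    chkPts NW T i k)) = true := by decide +kernel

set_option maxRecDepth 1000000 in
set_option maxHeartbeats 0 in
theorem hlet_0 : (List.range' 0 50).all (fun a => chkLetter R X0 NW T a) = true := by
  decide +kernel

set_option maxRecDepth 1000000 in
set_option maxHeartbeats 0 in
theorem hlet_1 : (List.range' 50 50).all (fun a => chkLetter R X0 NW T a) = true := by
  decide +kernel

set_option maxRecDepth 1000000 in
set_option maxHeartbeats 0 in
theorem hlet_2 : (List.range' 100 50).all (fun a => chkLetter R X0 NW T a) = true := by
  decide +kernel

set_option maxRecDepth 1000000 in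
set_option maxHeartbeats 0 in
theorem hlet_3 : (List.range' 150 47).all (fun a => chkLetter R X0 NW T a) = true := by
  decide +kernel

theorem hgens_all : (List.range 9).all (fun i => (T.gens i).all (fun a =>
    decide (a < T.nLet) && T.lvl a == i && T.kind a == 0)) = true := by decide +kernel

theorem hn_all : (List.range 9).all (fun i => decide (0 < T.n i)) = true := by decide +kernel

/-- The two generators fix the positions `1782, …, 2047`. -/
def chkFix (p : ℕ) : Bool := (applyWs NW [0] (2 ^ p) == 2 ^ p) && (applyWs NW [1] (2 ^ p) == 2 ^ p)

set_option maxRecDepth 1000000 in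
set_option maxHeartbeats 0 in
theorem hfix_all : (List.range' 1782 266).all chkFix = true := by decide +kernel

/-- The second transversal: elements of the group of level `1` mapping `417` to `417 + k`. -/
def chkPath2 (k : ℕ) : Bool :=
  (get2 path2Tab [] k).all (fun a => decide (a < T.nLet) && T.lvl a == 1) &&
    (applyWs NW (get2 path2Tab [] k) (2 ^ (417 + k)) == 2 ^ 417)

set_option maxRecDepth 1000000 in
set_option maxHeartbeats 0 in
theorem hpath2_all : (List.range 1365).all chkPath2 = true := by decide +kernel

end Cfsg.Agent.Helper72.Suz
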