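import Cfsg.Agent.Lib.Helper72.SuzCov

/-!
# The Suzuki group

The group generated by two permutations of order `11` of `1782` points is simple of order
`448345497600`.
-/

set_option autoImplicit false

namespace Cfsg.Agent.Helper72.Suz

open Cfsg.Agent.Helper72.PermNet

/-- The group. -/
abbrev G : Subgroup (Equiv.Perm ℕ) := Lv NW T 0

theorem smul_eq (g : G) (x : ℕ) : g • x = (g : Equiv.Perm ℕ) x := rfl

theorem prod_eq : prodFrom T 0 = 448345497600 := by decide +kernel

instance finiteG : Finite G := (card_Lv checked 0).1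

theorem card_G : Nat.card G = 448345497600 := by
  rw [← prod_eq]
  exact (card_Lv checked 0).2

instance finiteLv1 : Finite (Lv NW T 1) := (card_Lv checked 1).1

instance finiteLv1' : Finite (Lv NW T (0 + 1)) := finiteLv1

theorem pts0 : (List.range 1782).all (fun k => T.pts 0 k == k) = true := by decide +kernel

theorem pts1 : (List.range 416).all (fun k => T.pts 1 k == 1 + k) = true := by decide +kernel

theorem pts0_eq {k : ℕ} (hk : k < 1782) : T.pts 0 k = k := by
  have := List.all_eq_true.1 pts0 k (List.mem_range.2 hk)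
  simpa using this

theorem pts1_eq {k : ℕ} (hk : k < 416) : T.pts 1 k = 1 + k := by
  have := List.all_eq_true.1 pts1 k (List.mem_range.2 hk)
  simpa using this

theorem base0 : T.base 0 = 0 := rfl
theorem base1 : T.base 1 = 1 := rfl
theorem n0 : T.n 0 = 1782 := rfl
theorem n1 : T.n 1 = 416 := rfl

/-- The image of `0` under an element of the group. -/
theorem apply_zero_lt {g : Equiv.Perm ℕ} (hg : g ∈ G) : g 0 < 1782 := by
  obtain ⟨k, hk, e⟩ := (level checked (i := 0) (by rw [hK]; norm_num)).2.2.2 g hg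
  rw [base0] at e
  rw [n0] at hk
  rw [e, pts0_eq hk]
  exact hk

/-- The transversal of level `0`. -/
theorem exists_map_zero {x : ℕ} (hx : x < 1782) : ∃ g ∈ G, g 0 = x := by
  refine ⟨el NW (T.path 0 x), path_mem checked (by rw [hK]; norm_num) (by rw [n0]; exact hx), ?_⟩
  have := path_apply checked (i := 0) (k := x) (by rw [hK]; norm_num) (by rw [n0]; exact hx)
  rw [base0, pts0_eq hx] at this
  exact this

theorem Lv1_le : Lv NW T 1 ≤ G := Lv_succ_le checked 0

theorem Lv1_fix {g : Equiv.Perm ℕ} (hg : g ∈ Lv NW T 1) : g 0 = 0 := Lv_fix checked 0 g hg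

theorem mem_Lv1 {g : Equiv.Perm ℕ} (hg : g ∈ G) (h0 : g 0 = 0) : g ∈ Lv NW T 1 :=
  (level checked (i := 0) (by rw [hK]; norm_num)).2.2.1 g hg h0

/-- The transversal of level `1`. -/
theorem exists_map_one {x : ℕ} (h1 : 1 ≤ x) (hx : x ≤ 416) : ∃ g ∈ Lv NW T 1, g 1 = x := by
  have hk : x - 1 < 416 := by omega
  refine ⟨el NW (T.path 1 (x - 1)), path_mem checked (by rw [hK]; norm_num) (by rw [n1]; exact hk),
    ?_⟩
  have := path_apply checked (i := 1) (k := x - 1) (by rw [hK]; norm_num) (by rw [n1]; exact hk)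
  rw [base1, pts1_eq hk] at this
  rw [this]
  omega

/-- A word in letters of level `1` belongs to the group of level `1`. -/
theorem word_mem_Lv1 {w : List ℕ}
    (h : w.all (fun a => decide (a < T.nLet) && T.lvl a == 1) = true) : el NW w ∈ Lv NW T 1 := by
  induction w with
  | nil => rw [el_nil]; exact Subgroup.one_mem _
  | cons c w ih =>
    rw [List.all_cons, Bool.and_eq_true] at h
    rw [el_cons]
    refine Subgroup.mul_mem _ ?_ (ih h.2)
    have h2 := h.1
    simp only [Bool.and_eq_true, decide_eq_true_eq, beq_iff_eq] at h2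
    have := letter_mem checked h2.1
    rwa [h2.2] at this

/-- The second transversal of level `1`. -/
theorem exists_map_417 {x : ℕ} (h1 : 417 ≤ x) (hx : x ≤ 1781) :
    ∃ g ∈ Lv NW T 1, g 417 = x := by
  have hk : x - 417 < 1365 := by omega
  have h := List.all_eq_true.1 hpath2_all (x - 417) (List.mem_range.2 hk)
  unfold chkPath2 at h
  rw [Bool.and_eq_true, beq_iff_eq] at h
  refine ⟨el NW (get2 path2Tab [] (x - 417)), word_mem_Lv1 h.1, ?_⟩
  rw [el_apply_of_applyWs checked.good h.2]
  omega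

/-- The elements of the group fix the points from `1782` on. -/
theorem apply_ge {g : Equiv.Perm ℕ} (hg : g ∈ G) {p : ℕ} (hp : 1782 ≤ p) : g p = p := by
  have hgen : ∀ s ∈ T.gens 0, el NW [s] p = p := by
    intro s hs
    rcases Nat.lt_or_ge p 2048 with h | h
    · have hf := all_range' hfix_all hp (by omega : p < 1782 + 266)
      unfold chkFix at hf
      rw [Bool.and_eq_true, beq_iff_eq, beq_iff_eq] at hf
      have hs' : s = 0 ∨ s = 1 := by
        have : T.gens 0 = [0, 1] := rfl
        rw [this] at hs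
        simpa using hs
      rcases hs' with rfl | rfl
      · exact el_apply_of_applyWs checked.good hf.1
      · exact el_apply_of_applyWs checked.good hf.2
    · exact el_apply_ge checked.good _ h
  induction hg using Subgroup.closure_induction'' with
  | one => rfl
  | mem x hx =>
    obtain ⟨s, hs, rfl⟩ := hx
    exact hgen s hs
  | inv_mem x hx =>
    obtain ⟨s, hs, rfl⟩ := hx
    rw [Equiv.Perm.inv_eq_iff_eq]
    exact (hgen s hs).symm
  | mul x y _ _ hx hy => rw [Equiv.Perm.mul_apply, hy, hx]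

theorem orbit_eq_Iio : MulAction.orbit G (0 : ℕ) = Set.Iio 1782 := by
  ext x
  constructor
  · rintro ⟨g, rfl⟩
    exact apply_zero_lt g.2
  · intro hx
    obtain ⟨g, hg, e⟩ := exists_map_zero (x := x) hx
    exact ⟨⟨g, hg⟩, e⟩

theorem Iio_eq : Set.Iio 1782 = ({0} ∪ Set.Icc 1 416 ∪ Set.Icc 417 1781 : Set ℕ) := by
  ext x
  simp only [Set.mem_Iio, Set.mem_union, Set.mem_singleton_iff, Set.mem_Icc]
  omega

theorem ncard_orbit : (MulAction.orbit G (0 : ℕ)).ncard = 1782 := by
  rw [orbit_eq_Iio, ← Finset.coe_range, Set.ncard_coe_finset, Finset.card_range]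

theorem ncard_Icc (a b : ℕ) : (Set.Icc a b).ncard = b + 1 - a := by
  rw [← Finset.coe_Icc, Set.ncard_coe_finset, Nat.card_Icc]

/-- The stabilizer of `0` is transitive on the images of a point under the group of level `1`. -/
theorem trans_of_maps {b x y : ℕ} (hx : ∃ g ∈ Lv NW T 1, g b = x)
    (hy : ∃ g ∈ Lv NW T 1, g b = y) : ∃ k : G, k • (0 : ℕ) = 0 ∧ k • x = y := by
  obtain ⟨g1, hg1, e1⟩ := hx
  obtain ⟨g2, hg2, e2⟩ := hy
  have hm : g2 * g1⁻¹ ∈ Lv NW T 1 := Subgroup.mul_mem _ hg2 (Subgroup.inv_mem _ hg1)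
  refine ⟨⟨g2 * g1⁻¹, Lv1_le hm⟩, Lv1_fix hm, ?_⟩
  show (g2 * g1⁻¹) x = y
  have h1 : g1⁻¹ (g1 b) = b := Equiv.Perm.inv_eq_iff_eq.2 rfl
  rw [Equiv.Perm.mul_apply, ← e1, h1, e2]

theorem maximalG (M : Subgroup G) (hM : MulAction.stabilizer G (0 : ℕ) ≤ M) :
    M = MulAction.stabilizer G (0 : ℕ) ∨ M = ⊤ := by
  refine PermChain.maximal_stabilizer (G := G) (X := ℕ) 0 416 1365 (Set.Icc 1 416)
    (Set.Icc 417 1781) (Set.finite_Icc _ _) (Set.finite_Icc _ _) (by rw [ncard_Icc])
    (by rw [ncard_Icc]) (by simp) (by simp) ?_ (by rw [orbit_eq_Iio, Iio_eq]) ?_ ?_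
    (by norm_num) (by norm_num) M hM
  · refine Set.disjoint_left.2 (fun x h1 h2 => ?_)
    rw [Set.mem_Icc] at h1 h2
    omega
  · intro x hx y hy
    exact trans_of_maps (exists_map_one hx.1 hx.2) (exists_map_one hy.1 hy.2)
  · intro x hx y hy
    exact trans_of_maps (exists_map_417 hx.1 hx.2) (exists_map_417 hy.1 hy.2)

theorem gen_pow {s : ℕ} (hs : s ∈ T.gens 0) : el NW [s] ^ 11 = 1 := by
  obtain ⟨h1, h2, h3⟩ := checked.hgens 0 (by rw [hK]; norm_num) s hs
  have h := checked.hlet s h1
  unfold chkLetter at h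
  rw [if_pos h3] at h
  simp only [Bool.and_eq_true, decide_eq_true_eq] at h
  have hord : T.ord s = 11 := by
    have : T.gens 0 = [0, 1] := rfl
    rw [this] at hs
    simp only [List.mem_cons, List.not_mem_nil, or_false] at hs
    rcases hs with rfl | rfl <;> rfl
  rw [← hord, ← el_replicate, el_eq_of_eqW checked.good h.1.2, el_nil]

theorem faithfulG (g : G) (hg : ∀ h : G, g • (h • (0 : ℕ)) = h • (0 : ℕ)) : g = 1 := by
  apply Subtype.ext
  apply Equiv.ext
  intro p
  show (g : Equiv.Perm ℕ) p = p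
  rcases Nat.lt_or_ge p 1782 with hp | hp
  · obtain ⟨h, hh, e⟩ := exists_map_zero hp
    have := hg ⟨h, hh⟩
    rw [smul_eq, smul_eq] at this
    rw [← e]
    exact this
  · exact apply_ge g.2 hp

/-- The group is simple. -/
theorem simpleG : IsSimpleGroup G := by
  have : Nontrivial G := by
    rw [← Finite.one_lt_card_iff_nontrivial, card_G]
    norm_num
  refine PermChain.simple_of_primitive (G := G) (X := ℕ) (0 : ℕ) 1782 ncard_orbit maximalG
    faithfulG 11 (by norm_num) (by norm_num) (by rw [card_G]; norm_num)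
    (((↑) : G → Equiv.Perm ℕ) ⁻¹' {g | ∃ s ∈ T.gens 0, g = el NW [s]})
    Subgroup.closure_closure_coe_preimage ?_
  rintro g ⟨s, hs, e⟩
  apply Subtype.ext
  rw [Subgroup.coe_pow, e, gen_pow hs]
  rfl

/-- The group of Suzuki exists. -/
theorem exists_suz : IsSimpleGroup G ∧ Nat.card G = 448345497600 := ⟨simpleG, card_G⟩

end Cfsg.Agent.Helper72.Suz
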