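import Cfsg.Prelude.Def_Spor_Suz
import Cfsg.Agent.Lib.Helper72.SuzPresLog0
import Cfsg.Agent.Lib.Helper72.SuzPresLog1
import Cfsg.Agent.Lib.Helper72.SuzPresLog2
import Cfsg.Agent.Lib.Helper72.SuzPresLog3
import Cfsg.Agent.Lib.Helper72.SuzPresLog4
import Cfsg.Agent.S1680
import Cfsg.Agent.Lib.Helper72.SuzPresPerm
import Cfsg.Agent.Lib.Helper72.SuzMain

/-!
# The presented Suzuki group is simple of order 448345497600

The order of the presented group is bounded by a tower of logged coset enumerations (`TCLog`) over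
the subgroups generated by `a`, `a b`, `a b c d`, `a b c d e`, `a b c d e f` and all the generators,
of indices `2, 5, 216, 280, 416, 1782`; the presented group maps onto the permutation group of
`SuzMain`, which is simple of this order.
-/

set_option autoImplicit false

namespace Cfsg.Agent.Helper72.SuzPres

open Cfsg.Agent.Helper72.PermNet Cfsg.Agent.Helper72.TCC Cfsg.Agent.Helper72.TCNet
open Cfsg.Agent.Helper72.SuzPresPerm

/-- The generators. -/
abbrev Gen : Type := Cfsg.Spor.Suz.Gen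

/-- The presented group. -/
abbrev P : Type := Cfsg.Spor.Suz

/-- The edges of the diagram. -/
abbrev edges : List (Gen × ℕ × Gen) := Cfsg.Spor.Suz.edges

/-- The further relators. -/
abbrev extra : List (FreeGroup Gen) := Cfsg.Spor.Suz.extra

/-- The generators in the order `a, b, c, d, e, f, g`. -/
def gen : ℕ → Gen
  | 0 => .a
  | 1 => .b
  | 2 => .c
  | 3 => .d
  | 4 => .e
  | 5 => .f
  | _ => .g

/-- The number of a generator. -/
def idx : Gen → ℕ
  | .a => 0
  | .b => 1
  | .c => 2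
  | .d => 3
  | .e => 4
  | .f => 5
  | .g => 6

theorem gen_idx (u : Gen) : gen (idx u) = u := by cases u <;> rfl

theorem idx_lt (u : Gen) : idx u < 7 := by cases u <;> decide

/-- The generators of the presented group. -/
noncomputable def x (g : ℕ) : P := if g < 7 then PresentedGroup.of (gen g) else 1

theorem x_eq {g : ℕ} (hg : g < 7) : x g = PresentedGroup.of (gen g) := by
  unfold x
  rw [if_pos hg]

theorem mem_nodes (u : Gen) : u ∈ Cfsg.Spor.coxNodes edges := by cases u <;> decide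

theorem cox (u v : Gen) :
    ((PresentedGroup.of u : P) * PresentedGroup.of v) ^ Cfsg.Spor.coxLabel edges u v = 1 := by
  have h : (FreeGroup.of u * FreeGroup.of v) ^ Cfsg.Spor.coxLabel edges u v ∈
      Cfsg.Spor.coxRelators edges ∪ {r | r ∈ extra} :=
    Or.inl ⟨u, mem_nodes u, v, mem_nodes v, rfl⟩
  have := PresentedGroup.one_of_mem h
  rwa [map_pow, map_mul] at this

theorem of_sq (u : Gen) : (PresentedGroup.of u : P) * PresentedGroup.of u = 1 := by
  have := cox u u
  have hl : Cfsg.Spor.coxLabel edges u u = 1 := by unfold Cfsg.Spor.coxLabel; rw [if_pos rfl]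
  rwa [hl, pow_one] at this

theorem of_inv (u : Gen) : (PresentedGroup.of u : P)⁻¹ = PresentedGroup.of u :=
  inv_eq_of_mul_eq_one_right (of_sq u)

theorem hx (g : ℕ) : x g * x g = 1 := by
  unfold x
  split_ifs
  · exact of_sq _
  · exact mul_one 1

theorem prod_rep {G : Type*} [Monoid G] (y : ℕ → G) (l : List ℕ) (m : ℕ) :
    (((List.replicate m l).flatten).map y).prod = ((l.map y).prod) ^ m := by
  induction m with
  | zero => simp
  | succ m ih =>
    rw [List.replicate_succ, List.flatten_cons, List.map_append, List.prod_append, ih, pow_succ']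

theorem rel_0_1 : (([0, 1, 0, 1, 0, 1, 0, 1, 0, 1] : List ℕ).map x).prod = 1 := by
  have h := cox (gen 0) (gen 1)
  have hl : Cfsg.Spor.coxLabel edges (gen 0) (gen 1) = 5 := by decide
  rw [hl] at h
  show (((List.replicate 5 [0, 1]).flatten).map x).prod = 1
  rw [prod_rep]
  simp only [List.map_cons, List.map_nil, List.prod_cons, List.prod_nil, mul_one]
  rw [x_eq (by norm_num : 0 < 7), x_eq (by norm_num : 1 < 7)]
  exact h

theorem rel_0_2 : (([0, 2, 0, 2] : List ℕ).map x).prod = 1 := by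
  have h := cox (gen 0) (gen 2)
  have hl : Cfsg.Spor.coxLabel edges (gen 0) (gen 2) = 2 := by decide
  rw [hl] at h
  show (((List.replicate 2 [0, 2]).flatten).map x).prod = 1
  rw [prod_rep]
  simp only [List.map_cons, List.map_nil, List.prod_cons, List.prod_nil, mul_one]
  rw [x_eq (by norm_num : 0 < 7), x_eq (by norm_num : 2 < 7)]
  exact h

theorem rel_0_3 : (([0, 3, 0, 3] : List ℕ).map x).prod = 1 := by
  have h := cox (gen 0) (gen 3)
  have hl : Cfsg.Spor.coxLabel edges (gen 0) (gen 3) = 2 := by decide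
  rw [hl] at h
  show (((List.replicate 2 [0, 3]).flatten).map x).prod = 1
  rw [prod_rep]
  simp only [List.map_cons, List.map_nil, List.prod_cons, List.prod_nil, mul_one]
  rw [x_eq (by norm_num : 0 < 7), x_eq (by norm_num : 3 < 7)]
  exact h

theorem rel_0_4 : (([0, 4, 0, 4] : List ℕ).map x).prod = 1 := by
  have h := cox (gen 0) (gen 4)
  have hl : Cfsg.Spor.coxLabel edges (gen 0) (gen 4) = 2 := by decide
  rw [hl] at h
  show (((List.replicate 2 [0, 4]).flatten).map x).prod = 1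
  rw [prod_rep]
  simp only [List.map_cons, List.map_nil, List.prod_cons, List.prod_nil, mul_one]
  rw [x_eq (by norm_num : 0 < 7), x_eq (by norm_num : 4 < 7)]
  exact h

theorem rel_0_5 : (([0, 5, 0, 5] : List ℕ).map x).prod = 1 := by
  have h := cox (gen 0) (gen 5)
  have hl : Cfsg.Spor.coxLabel edges (gen 0) (gen 5) = 2 := by decide
  rw [hl] at h
  show (((List.replicate 2 [0, 5]).flatten).map x).prod = 1
  rw [prod_rep]
  simp only [List.map_cons, List.map_nil, List.prod_cons, List.prod_nil, mul_one]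
  rw [x_eq (by norm_num : 0 < 7), x_eq (by norm_num : 5 < 7)]
  exact h

theorem rel_0_6 : (([0, 6, 0, 6] : List ℕ).map x).prod = 1 := by
  have h := cox (gen 0) (gen 6)
  have hl : Cfsg.Spor.coxLabel edges (gen 0) (gen 6) = 2 := by decide
  rw [hl] at h
  show (((List.replicate 2 [0, 6]).flatten).map x).prod = 1
  rw [prod_rep]
  simp only [List.map_cons, List.map_nil, List.prod_cons, List.prod_nil, mul_one]
  rw [x_eq (by norm_num : 0 < 7), x_eq (by norm_num : 6 < 7)]
  exact h

theorem rel_1_2 : (([1, 2, 1, 2, 1, 2] : List ℕ).map x).prod = 1 := by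
  have h := cox (gen 1) (gen 2)
  have hl : Cfsg.Spor.coxLabel edges (gen 1) (gen 2) = 3 := by decide
  rw [hl] at h
  show (((List.replicate 3 [1, 2]).flatten).map x).prod = 1
  rw [prod_rep]
  simp only [List.map_cons, List.map_nil, List.prod_cons, List.prod_nil, mul_one]
  rw [x_eq (by norm_num : 1 < 7), x_eq (by norm_num : 2 < 7)]
  exact h

theorem rel_1_3 : (([1, 3, 1, 3] : List ℕ).map x).prod = 1 := by
  have h := cox (gen 1) (gen 3)
  have hl : Cfsg.Spor.coxLabel edges (gen 1) (gen 3) = 2 := by decide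
  rw [hl] at h
  show (((List.replicate 2 [1, 3]).flatten).map x).prod = 1
  rw [prod_rep]
  simp only [List.map_cons, List.map_nil, List.prod_cons, List.prod_nil, mul_one]
  rw [x_eq (by norm_num : 1 < 7), x_eq (by norm_num : 3 < 7)]
  exact h

theorem rel_1_4 : (([1, 4, 1, 4] : List ℕ).map x).prod = 1 := by
  have h := cox (gen 1) (gen 4)
  have hl : Cfsg.Spor.coxLabel edges (gen 1) (gen 4) = 2 := by decide
  rw [hl] at h
  show (((List.replicate 2 [1, 4]).flatten).map x).prod = 1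
  rw [prod_rep]
  simp only [List.map_cons, List.map_nil, List.prod_cons, List.prod_nil, mul_one]
  rw [x_eq (by norm_num : 1 < 7), x_eq (by norm_num : 4 < 7)]
  exact h

theorem rel_1_5 : (([1, 5, 1, 5, 1, 5] : List ℕ).map x).prod = 1 := by
  have h := cox (gen 1) (gen 5)
  have hl : Cfsg.Spor.coxLabel edges (gen 1) (gen 5) = 3 := by decide
  rw [hl] at h
  show (((List.replicate 3 [1, 5]).flatten).map x).prod = 1
  rw [prod_rep]
  simp only [List.map_cons, List.map_nil, List.prod_cons, List.prod_nil, mul_one]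
  rw [x_eq (by norm_num : 1 < 7), x_eq (by norm_num : 5 < 7)]
  exact h

theorem rel_1_6 : (([1, 6, 1, 6, 1, 6] : List ℕ).map x).prod = 1 := by
  have h := cox (gen 1) (gen 6)
  have hl : Cfsg.Spor.coxLabel edges (gen 1) (gen 6) = 3 := by decide
  rw [hl] at h
  show (((List.replicate 3 [1, 6]).flatten).map x).prod = 1
  rw [prod_rep]
  simp only [List.map_cons, List.map_nil, List.prod_cons, List.prod_nil, mul_one]
  rw [x_eq (by norm_num : 1 < 7), x_eq (by norm_num : 6 < 7)]
  exact h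

theorem rel_2_3 : (([2, 3, 2, 3, 2, 3, 2, 3, 2, 3, 2, 3, 2, 3, 2, 3] : List ℕ).map x).prod = 1 := by
  have h := cox (gen 2) (gen 3)
  have hl : Cfsg.Spor.coxLabel edges (gen 2) (gen 3) = 8 := by decide
  rw [hl] at h
  show (((List.replicate 8 [2, 3]).flatten).map x).prod = 1
  rw [prod_rep]
  simp only [List.map_cons, List.map_nil, List.prod_cons, List.prod_nil, mul_one]
  rw [x_eq (by norm_num : 2 < 7), x_eq (by norm_num : 3 < 7)]
  exact h

theorem rel_2_4 : (([2, 4, 2, 4] : List ℕ).map x).prod = 1 := by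
  have h := cox (gen 2) (gen 4)
  have hl : Cfsg.Spor.coxLabel edges (gen 2) (gen 4) = 2 := by decide
  rw [hl] at h
  show (((List.replicate 2 [2, 4]).flatten).map x).prod = 1
  rw [prod_rep]
  simp only [List.map_cons, List.map_nil, List.prod_cons, List.prod_nil, mul_one]
  rw [x_eq (by norm_num : 2 < 7), x_eq (by norm_num : 4 < 7)]
  exact h

theorem rel_2_5 : (([2, 5, 2, 5] : List ℕ).map x).prod = 1 := by
  have h := cox (gen 2) (gen 5)
  have hl : Cfsg.Spor.coxLabel edges (gen 2) (gen 5) = 2 := by decide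
  rw [hl] at h
  show (((List.replicate 2 [2, 5]).flatten).map x).prod = 1
  rw [prod_rep]
  simp only [List.map_cons, List.map_nil, List.prod_cons, List.prod_nil, mul_one]
  rw [x_eq (by norm_num : 2 < 7), x_eq (by norm_num : 5 < 7)]
  exact h

theorem rel_2_6 : (([2, 6, 2, 6] : List ℕ).map x).prod = 1 := by
  have h := cox (gen 2) (gen 6)
  have hl : Cfsg.Spor.coxLabel edges (gen 2) (gen 6) = 2 := by decide
  rw [hl] at h
  show (((List.replicate 2 [2, 6]).flatten).map x).prod = 1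
  rw [prod_rep]
  simp only [List.map_cons, List.map_nil, List.prod_cons, List.prod_nil, mul_one]
  rw [x_eq (by norm_num : 2 < 7), x_eq (by norm_num : 6 < 7)]
  exact h

theorem rel_3_4 : (([3, 4, 3, 4, 3, 4] : List ℕ).map x).prod = 1 := by
  have h := cox (gen 3) (gen 4)
  have hl : Cfsg.Spor.coxLabel edges (gen 3) (gen 4) = 3 := by decide
  rw [hl] at h
  show (((List.replicate 3 [3, 4]).flatten).map x).prod = 1
  rw [prod_rep]
  simp only [List.map_cons, List.map_nil, List.prod_cons, List.prod_nil, mul_one]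
  rw [x_eq (by norm_num : 3 < 7), x_eq (by norm_num : 4 < 7)]
  exact h

theorem rel_3_5 : (([3, 5, 3, 5] : List ℕ).map x).prod = 1 := by
  have h := cox (gen 3) (gen 5)
  have hl : Cfsg.Spor.coxLabel edges (gen 3) (gen 5) = 2 := by decide
  rw [hl] at h
  show (((List.replicate 2 [3, 5]).flatten).map x).prod = 1
  rw [prod_rep]
  simp only [List.map_cons, List.map_nil, List.prod_cons, List.prod_nil, mul_one]
  rw [x_eq (by norm_num : 3 < 7), x_eq (by norm_num : 5 < 7)]
  exact h

theorem rel_3_6 : (([3, 6, 3, 6] : List ℕ).map x).prod = 1 := by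
  have h := cox (gen 3) (gen 6)
  have hl : Cfsg.Spor.coxLabel edges (gen 3) (gen 6) = 2 := by decide
  rw [hl] at h
  show (((List.replicate 2 [3, 6]).flatten).map x).prod = 1
  rw [prod_rep]
  simp only [List.map_cons, List.map_nil, List.prod_cons, List.prod_nil, mul_one]
  rw [x_eq (by norm_num : 3 < 7), x_eq (by norm_num : 6 < 7)]
  exact h

theorem rel_4_5 : (([4, 5, 4, 5] : List ℕ).map x).prod = 1 := by
  have h := cox (gen 4) (gen 5)
  have hl : Cfsg.Spor.coxLabel edges (gen 4) (gen 5) = 2 := by decide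
  rw [hl] at h
  show (((List.replicate 2 [4, 5]).flatten).map x).prod = 1
  rw [prod_rep]
  simp only [List.map_cons, List.map_nil, List.prod_cons, List.prod_nil, mul_one]
  rw [x_eq (by norm_num : 4 < 7), x_eq (by norm_num : 5 < 7)]
  exact h

theorem rel_4_6 : (([4, 6, 4, 6] : List ℕ).map x).prod = 1 := by
  have h := cox (gen 4) (gen 6)
  have hl : Cfsg.Spor.coxLabel edges (gen 4) (gen 6) = 2 := by decide
  rw [hl] at h
  show (((List.replicate 2 [4, 6]).flatten).map x).prod = 1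
  rw [prod_rep]
  simp only [List.map_cons, List.map_nil, List.prod_cons, List.prod_nil, mul_one]
  rw [x_eq (by norm_num : 4 < 7), x_eq (by norm_num : 6 < 7)]
  exact h

theorem rel_5_6 : (([5, 6, 5, 6, 5, 6, 5, 6] : List ℕ).map x).prod = 1 := by
  have h := cox (gen 5) (gen 6)
  have hl : Cfsg.Spor.coxLabel edges (gen 5) (gen 6) = 4 := by decide
  rw [hl] at h
  show (((List.replicate 4 [5, 6]).flatten).map x).prod = 1
  rw [prod_rep]
  simp only [List.map_cons, List.map_nil, List.prod_cons, List.prod_nil, mul_one]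
  rw [x_eq (by norm_num : 5 < 7), x_eq (by norm_num : 6 < 7)]
  exact h

theorem extra_mem (i : Fin 5) :
    (PresentedGroup.mk (Cfsg.Spor.coxRelators edges ∪ {r | r ∈ extra}) (extra.get i) : P) = 1 :=
  PresentedGroup.one_of_mem (Or.inr (List.get_mem _ _))

/-- The value of a word in the presented group. -/
noncomputable def ofW (w : List ℕ) : P := (w.map x).prod

theorem ofW_nil : ofW [] = 1 := rfl

theorem ofW_cons (a : ℕ) (w : List ℕ) : ofW (a :: w) = x a * ofW w := by
  unfold ofW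
  rw [List.map_cons, List.prod_cons]

theorem ofW_append (u v : List ℕ) : ofW (u ++ v) = ofW u * ofW v := by
  unfold ofW
  rw [List.map_append, List.prod_append]

theorem ofW_rep (l : List ℕ) (m : ℕ) : ofW ((List.replicate m l).flatten) = ofW l ^ m :=
  prod_rep x l m

theorem ofW_reverse (l : List ℕ) : ofW l.reverse = (ofW l)⁻¹ := prod_reverse hx l

set_option maxRecDepth 100000 in
theorem rel_e0 : (([0, 3, 2, 3, 2, 3, 2, 3, 2] : List ℕ).map x).prod = 1 := by
  have h := extra_mem 0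
  change (PresentedGroup.mk _ (Cfsg.Spor.Suz.a * ((Cfsg.Spor.Suz.c * Cfsg.Spor.Suz.d) ^ 4)⁻¹) : P) = 1
    at h
  simp only [map_mul, map_inv, map_pow] at h
  change (PresentedGroup.of Cfsg.Spor.Suz.Gen.a : P) *
    ((PresentedGroup.of Cfsg.Spor.Suz.Gen.c * PresentedGroup.of Cfsg.Spor.Suz.Gen.d) ^ 4)⁻¹ = 1 at h
  show ofW ([0] ++ ((List.replicate 4 [2, 3]).flatten).reverse) = 1
  rw [ofW_append, ofW_reverse, ofW_rep]
  simp only [ofW_cons, ofW_nil, mul_one]
  rw [x_eq (by norm_num : 0 < 7), x_eq (by norm_num : 2 < 7), x_eq (by norm_num : 3 < 7)]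
  exact h

set_option maxRecDepth 100000 in
theorem rel_e1 : (([0, 6, 5, 6, 5] : List ℕ).map x).prod = 1 := by
  have h := extra_mem 1
  change (PresentedGroup.mk _ (Cfsg.Spor.Suz.a * ((Cfsg.Spor.Suz.f * Cfsg.Spor.Suz.g) ^ 2)⁻¹) : P) = 1
    at h
  simp only [map_mul, map_inv, map_pow] at h
  change (PresentedGroup.of Cfsg.Spor.Suz.Gen.a : P) *
    ((PresentedGroup.of Cfsg.Spor.Suz.Gen.f * PresentedGroup.of Cfsg.Spor.Suz.Gen.g) ^ 2)⁻¹ = 1 at h
  show ofW ([0] ++ ((List.replicate 2 [5, 6]).flatten).reverse) = 1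
  rw [ofW_append, ofW_reverse, ofW_rep]
  simp only [ofW_cons, ofW_nil, mul_one]
  rw [x_eq (by norm_num : 0 < 7), x_eq (by norm_num : 5 < 7), x_eq (by norm_num : 6 < 7)]
  exact h

set_option maxRecDepth 100000 in
theorem rel_e2 : (([0, 1, 2, 5, 0, 1, 2, 5, 0, 1, 2, 5, 0, 1, 2, 5, 0, 1, 2, 5] : List ℕ).map x).prod = 1 := by
  have h := extra_mem 2
  change (PresentedGroup.mk _ ((Cfsg.Spor.Suz.a * Cfsg.Spor.Suz.b * Cfsg.Spor.Suz.c *
    Cfsg.Spor.Suz.f) ^ 5) : P) = 1 at h
  simp only [map_mul, map_pow] at h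
  change ((PresentedGroup.of Cfsg.Spor.Suz.Gen.a : P) * PresentedGroup.of Cfsg.Spor.Suz.Gen.b * PresentedGroup.of Cfsg.Spor.Suz.Gen.c *
    PresentedGroup.of Cfsg.Spor.Suz.Gen.f) ^ 5 = 1 at h
  show ofW ((List.replicate 5 [0, 1, 2, 5]).flatten) = 1
  rw [ofW_rep]
  simp only [ofW_cons, ofW_nil, mul_one]
  rw [x_eq (by norm_num : 0 < 7), x_eq (by norm_num : 1 < 7), x_eq (by norm_num : 2 < 7),
    x_eq (by norm_num : 5 < 7), ← mul_assoc, ← mul_assoc]
  exact h

set_option maxRecDepth 100000 in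
theorem rel_e3 : (([1, 5, 6, 1, 5, 6, 1, 5, 6, 1, 5, 6, 1, 5, 6] : List ℕ).map x).prod = 1 := by
  have h := extra_mem 3
  change (PresentedGroup.mk _ ((Cfsg.Spor.Suz.b * Cfsg.Spor.Suz.f * Cfsg.Spor.Suz.g) ^ 5) : P) = 1
    at h
  simp only [map_mul, map_pow] at h
  change ((PresentedGroup.of Cfsg.Spor.Suz.Gen.b : P) * PresentedGroup.of Cfsg.Spor.Suz.Gen.f * PresentedGroup.of Cfsg.Spor.Suz.Gen.g) ^ 5 = 1
    at h
  show ofW ((List.replicate 5 [1, 5, 6]).flatten) = 1
  rw [ofW_rep]
  simp only [ofW_cons, ofW_nil, mul_one]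
  rw [x_eq (by norm_num : 1 < 7), x_eq (by norm_num : 5 < 7), x_eq (by norm_num : 6 < 7),
    ← mul_assoc]
  exact h

set_option maxRecDepth 100000 in
theorem rel_e4 : (([1, 2, 3, 2, 3, 1, 2, 3, 2, 3, 1, 2, 3, 2, 3, 1, 2, 3, 2, 3, 1, 2, 3, 2, 3, 4, 1, 2, 3, 2, 3, 1, 2, 3, 2, 3, 1, 2, 3, 2, 3, 1, 2, 3, 2, 3, 1, 2, 3, 2, 3, 4, 1, 2, 3, 2, 3, 1, 2, 3, 2, 3, 1, 2, 3, 2, 3, 1, 2, 3, 2, 3, 1, 2, 3, 2, 3, 4] : List ℕ).map x).prod = 1 := by
  have h := extra_mem 4
  change (PresentedGroup.mk _ (((Cfsg.Spor.Suz.b * Cfsg.Spor.Suz.c * Cfsg.Spor.Suz.d *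
    Cfsg.Spor.Suz.c * Cfsg.Spor.Suz.d) ^ 5 * Cfsg.Spor.Suz.e) ^ 3) : P) = 1 at h
  simp only [map_mul, map_pow] at h
  change (((PresentedGroup.of Cfsg.Spor.Suz.Gen.b : P) * PresentedGroup.of Cfsg.Spor.Suz.Gen.c * PresentedGroup.of Cfsg.Spor.Suz.Gen.d *
    PresentedGroup.of Cfsg.Spor.Suz.Gen.c * PresentedGroup.of Cfsg.Spor.Suz.Gen.d) ^ 5 * PresentedGroup.of Cfsg.Spor.Suz.Gen.e) ^ 3 = 1 at h
  show ofW ((List.replicate 3 ((List.replicate 5 [1, 2, 3, 2, 3]).flatten ++ [4])).flatten) = 1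
  rw [ofW_rep, ofW_append, ofW_rep]
  simp only [ofW_cons, ofW_nil, mul_one]
  rw [x_eq (by norm_num : 1 < 7), x_eq (by norm_num : 2 < 7), x_eq (by norm_num : 3 < 7),
    x_eq (by norm_num : 4 < 7), ← mul_assoc, ← mul_assoc, ← mul_assoc]
  exact h

theorem hrelAll : ∀ r ∈ relsAll, (r.map x).prod = 1 := by
  intro r hr
  unfold relsAll at hr
  simp only [List.mem_cons, List.not_mem_nil, or_false] at hr
  rcases hr with rfl | rfl | rfl | rfl | rfl | rfl | rfl | rfl | rfl | rfl | rfl | rfl | rfl | rfl | rfl | rfl | rfl | rfl | rfl | rfl | rfl | rfl | rfl | rfl | rfl | rfl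
  · exact rel_0_1
  · exact rel_0_2
  · exact rel_0_3
  · exact rel_0_4
  · exact rel_0_5
  · exact rel_0_6
  · exact rel_1_2
  · exact rel_1_3
  · exact rel_1_4
  · exact rel_1_5
  · exact rel_1_6
  · exact rel_2_3
  · exact rel_2_4
  · exact rel_2_5
  · exact rel_2_6
  · exact rel_3_4
  · exact rel_3_5
  · exact rel_3_6
  · exact rel_4_5
  · exact rel_4_6
  · exact rel_5_6
  · exact rel_e0
  · exact rel_e1
  · exact rel_e2
  · exact rel_e3
  · exact rel_e4

/-! ### The tower -/

/-- The subgroup generated by the first `k` generators. -/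
noncomputable def Hk (k : ℕ) : Subgroup P := Subgroup.closure (x '' {g | g < k})

theorem Hk_zero : Hk 0 = ⊥ := by
  unfold Hk
  have : {g : ℕ | g < 0} = ∅ := by ext g; simp
  rw [this, Set.image_empty, Subgroup.closure_empty]

theorem fin0 : Finite (Hk 0) ∧ Nat.card (Hk 0) ≤ 1 := by
  rw [Hk_zero]
  exact ⟨inferInstance, by simp⟩

set_option maxRecDepth 100000 in
theorem hbase0 : ∀ r ∈ base0, r ∈ relsAll := by decide

theorem fin1 : Finite (Hk 1) ∧ Nat.card (Hk 1) ≤ 2 := by
  haveI := fin0.1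
  obtain ⟨w, hw⟩ := lv0_cover (Hk 0) x hx (fun r hr => hrelAll r (hbase0 r hr))
    (fun g hg => Subgroup.subset_closure ⟨g, hg, rfl⟩)
  obtain ⟨h1, h2⟩ := card_le_of_cover (Hk 0) (Hk 1) 2 w hw
  exact ⟨h1, h2.trans (by have := fin0.2; omega)⟩

set_option maxRecDepth 100000 in
theorem hbase1 : ∀ r ∈ base1, r ∈ relsAll := by decide

theorem fin2 : Finite (Hk 2) ∧ Nat.card (Hk 2) ≤ 10 := by
  haveI := fin1.1
  obtain ⟨w, hw⟩ := lv1_cover (Hk 1) x hx (fun r hr => hrelAll r (hbase1 r hr))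
    (fun g hg => Subgroup.subset_closure ⟨g, hg, rfl⟩)
  obtain ⟨h1, h2⟩ := card_le_of_cover (Hk 1) (Hk 2) 5 w hw
  exact ⟨h1, h2.trans (by have := fin1.2; omega)⟩

set_option maxRecDepth 100000 in
theorem hbase2 : ∀ r ∈ base2, r ∈ relsAll := by decide

theorem fin4 : Finite (Hk 4) ∧ Nat.card (Hk 4) ≤ 2160 := by
  haveI := fin2.1
  obtain ⟨w, hw⟩ := lv2_cover (Hk 2) x hx (fun r hr => hrelAll r (hbase2 r hr))
    (fun g hg => Subgroup.subset_closure ⟨g, hg, rfl⟩)
  obtain ⟨h1, h2⟩ := card_le_of_cover (Hk 2) (Hk 4) 216 w hw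
  exact ⟨h1, h2.trans (by have := fin2.2; omega)⟩

set_option maxRecDepth 100000 in
theorem hbase3 : ∀ r ∈ base3, r ∈ relsAll := by decide

theorem fin5 : Finite (Hk 5) ∧ Nat.card (Hk 5) ≤ 604800 := by
  haveI := fin4.1
  obtain ⟨w, hw⟩ := lv3_cover (Hk 4) x hx (fun r hr => hrelAll r (hbase3 r hr))
    (fun g hg => Subgroup.subset_closure ⟨g, hg, rfl⟩)
  obtain ⟨h1, h2⟩ := card_le_of_cover (Hk 4) (Hk 5) 280 w hw
  exact ⟨h1, h2.trans (by have := fin4.2; omega)⟩

set_option maxRecDepth 100000 in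
theorem hbase4 : ∀ r ∈ base4, r ∈ relsAll := by decide

theorem fin6 : Finite (Hk 6) ∧ Nat.card (Hk 6) ≤ 251596800 := by
  haveI := fin5.1
  obtain ⟨w, hw⟩ := lv4_cover (Hk 5) x hx (fun r hr => hrelAll r (hbase4 r hr))
    (fun g hg => Subgroup.subset_closure ⟨g, hg, rfl⟩)
  obtain ⟨h1, h2⟩ := card_le_of_cover (Hk 5) (Hk 6) 416 w hw
  exact ⟨h1, h2.trans (by have := fin5.2; omega)⟩

/-- The subgroup of `S1680`. -/
abbrev Hsub : Subgroup P :=
  (Subgroup.closure ({Cfsg.Spor.Suz.a, Cfsg.Spor.Suz.b, Cfsg.Spor.Suz.c, Cfsg.Spor.Suz.d,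
    Cfsg.Spor.Suz.e, Cfsg.Spor.Suz.f} : Set (FreeGroup Gen))).map
    (PresentedGroup.mk (Cfsg.Spor.coxRelators edges ∪ {r | r ∈ extra}))

theorem Hsub_le : Hsub ≤ Hk 6 := by
  rw [Subgroup.map_le_iff_le_comap, Subgroup.closure_le]
  intro s hs
  simp only [Set.mem_insert_iff, Set.mem_singleton_iff] at hs
  show PresentedGroup.mk _ s ∈ Hk 6
  rcases hs with rfl | rfl | rfl | rfl | rfl | rfl
  · exact Subgroup.subset_closure ⟨0, by norm_num, by rw [x_eq (by norm_num : 0 < 7)]; rfl⟩
  · exact Subgroup.subset_closure ⟨1, by norm_num, by rw [x_eq (by norm_num : 1 < 7)]; rfl⟩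
  · exact Subgroup.subset_closure ⟨2, by norm_num, by rw [x_eq (by norm_num : 2 < 7)]; rfl⟩
  · exact Subgroup.subset_closure ⟨3, by norm_num, by rw [x_eq (by norm_num : 3 < 7)]; rfl⟩
  · exact Subgroup.subset_closure ⟨4, by norm_num, by rw [x_eq (by norm_num : 4 < 7)]; rfl⟩
  · exact Subgroup.subset_closure ⟨5, by norm_num, by rw [x_eq (by norm_num : 5 < 7)]; rfl⟩

theorem index_Hsub : Hsub.index = 1782 := Cfsg.Agent.S1680.result.1

instance finiteP : Finite P := by
  haveI := fin6.1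
  haveI : Finite Hsub :=
    Finite.of_injective (Subgroup.inclusion Hsub_le) (Subgroup.inclusion_injective _)
  haveI : Hsub.FiniteIndex := ⟨by rw [index_Hsub]; norm_num⟩
  exact Finite.of_equiv _ (Subgroup.groupEquivQuotientProdSubgroup (s := Hsub)).symm

theorem card_le : Nat.card P ≤ 448345497600 := by
  haveI := fin6.1
  have h := Hsub.index_mul_card
  rw [index_Hsub] at h
  have h2 : Nat.card Hsub ≤ Nat.card (Hk 6) := Subgroup.card_le_of_le Hsub_le
  have h3 := fin6.2
  rw [← h]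
  omega

/-! ### The map to the permutation group -/

/-- The permutation of a generator. -/
def f (u : Gen) : Equiv.Perm ℕ := el NWc [idx u]

/-- All the generators. -/
def allGens : List Gen := [.a, .b, .c, .d, .e, .f, .g]

theorem mem_allGens (u : Gen) : u ∈ allGens := by cases u <;> decide

set_option maxRecDepth 1000000 in
set_option maxHeartbeats 0 in
theorem hcoxPerm : allGens.all (fun u => allGens.all (fun v =>
    isOne 11 NWc ((List.replicate (Cfsg.Spor.coxLabel edges u v) [idx u, idx v]).flatten))) = true := by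
  decide +kernel

theorem el_map (w : List ℕ) : el NWc w = (w.map (fun g => el NWc [g])).prod := by
  induction w with
  | nil => rfl
  | cons a w ih => rw [el_cons, ih, List.map_cons, List.prod_cons]

theorem f_sq (u : Gen) : f u * f u = 1 := by
  have h := List.all_eq_true.1 (List.all_eq_true.1 hcoxPerm u (mem_allGens u)) u (mem_allGens u)
  have hl : Cfsg.Spor.coxLabel edges u u = 1 := by unfold Cfsg.Spor.coxLabel; rw [if_pos rfl]
  rw [hl] at h
  have := el_eq_one hNWc h
  rw [el_map, prod_rep] at this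
  simpa [f] using this

theorem f_inv (u : Gen) : (f u)⁻¹ = f u := inv_eq_of_mul_eq_one_right (f_sq u)

/-- The value of a word in the permutation group. -/
noncomputable def pW (w : List ℕ) : Equiv.Perm ℕ := (w.map (fun g => el NWc [g])).prod

theorem pW_nil : pW [] = 1 := rfl

theorem pW_cons (a : ℕ) (w : List ℕ) : pW (a :: w) = el NWc [a] * pW w := by
  unfold pW
  rw [List.map_cons, List.prod_cons]

theorem pW_append (u v : List ℕ) : pW (u ++ v) = pW u * pW v := by
  unfold pW
  rw [List.map_append, List.prod_append]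

theorem pW_rep (l : List ℕ) (m : ℕ) : pW ((List.replicate m l).flatten) = pW l ^ m :=
  prod_rep _ l m

theorem el_sq (g : ℕ) (hg : g < 7) : el NWc [g] * el NWc [g] = 1 := by
  have := f_sq (gen g)
  unfold f at this
  have e : idx (gen g) = g := by interval_cases g <;> rfl
  rwa [e] at this

theorem pW_reverse (l : List ℕ) (hl : ∀ g ∈ l, g < 7) : pW l.reverse = (pW l)⁻¹ := by
  induction l with
  | nil => simp [pW]
  | cons a l ih =>
    have ha : (el NWc [a])⁻¹ = el NWc [a] :=
      inv_eq_of_mul_eq_one_right (el_sq a (hl a List.mem_cons_self))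
    rw [List.reverse_cons, pW_append, ih (fun g hg => hl g (List.mem_cons_of_mem _ hg)), pW_cons,
      pW_cons, pW_nil, mul_one, mul_inv_rev, ha]

theorem relPerm {r : List ℕ} (hr : r ∈ relsAll) : pW r = 1 := by
  unfold pW
  rw [← el_map]
  exact el_eq_one hNWc (List.all_eq_true.1 hrels r hr)

set_option maxRecDepth 100000 in
theorem lift_rel : ∀ r ∈ Cfsg.Spor.coxRelators edges ∪ {r | r ∈ extra}, FreeGroup.lift f r = 1 := by
  rintro r (hr | hr)
  · obtain ⟨u, -, v, -, rfl⟩ := hr
    rw [map_pow, map_mul, FreeGroup.lift_apply_of, FreeGroup.lift_apply_of]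
    have h := List.all_eq_true.1 (List.all_eq_true.1 hcoxPerm u (mem_allGens u)) v (mem_allGens v)
    have := el_eq_one hNWc h
    rw [el_map, prod_rep] at this
    simpa [f] using this
  · have hr' : r ∈ Cfsg.Spor.Suz.extra := hr
    unfold Cfsg.Spor.Suz.extra at hr'
    simp only [List.mem_cons, List.not_mem_nil, or_false] at hr'
    rcases hr' with rfl | rfl | rfl | rfl | rfl
    · have h := relPerm (r := [0, 3, 2, 3, 2, 3, 2, 3, 2]) (by decide)
      change pW ([0] ++ ((List.replicate 4 [2, 3]).flatten).reverse) = 1 at h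
      rw [pW_append, pW_reverse _ (by decide), pW_rep] at h
      simp only [pW_cons, pW_nil, mul_one] at h
      simp only [Cfsg.Spor.Suz.a, Cfsg.Spor.Suz.c, Cfsg.Spor.Suz.d, map_mul, map_inv, map_pow,
        FreeGroup.lift_apply_of]
      exact h
    · have h := relPerm (r := [0, 6, 5, 6, 5]) (by decide)
      change pW ([0] ++ ((List.replicate 2 [5, 6]).flatten).reverse) = 1 at h
      rw [pW_append, pW_reverse _ (by decide), pW_rep] at h
      simp only [pW_cons, pW_nil, mul_one] at h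
      simp only [Cfsg.Spor.Suz.a, Cfsg.Spor.Suz.f, Cfsg.Spor.Suz.g, map_mul, map_inv, map_pow,
        FreeGroup.lift_apply_of]
      exact h
    · have h := relPerm (r := [0, 1, 2, 5, 0, 1, 2, 5, 0, 1, 2, 5, 0, 1, 2, 5, 0, 1, 2, 5]) (by decide)
      change pW ((List.replicate 5 [0, 1, 2, 5]).flatten) = 1 at h
      rw [pW_rep] at h
      simp only [pW_cons, pW_nil, mul_one] at h
      simp only [Cfsg.Spor.Suz.a, Cfsg.Spor.Suz.b, Cfsg.Spor.Suz.c, Cfsg.Spor.Suz.f, map_mul,
        map_pow, FreeGroup.lift_apply_of]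
      rw [← mul_assoc, ← mul_assoc] at h
      exact h
    · have h := relPerm (r := [1, 5, 6, 1, 5, 6, 1, 5, 6, 1, 5, 6, 1, 5, 6]) (by decide)
      change pW ((List.replicate 5 [1, 5, 6]).flatten) = 1 at h
      rw [pW_rep] at h
      simp only [pW_cons, pW_nil, mul_one] at h
      simp only [Cfsg.Spor.Suz.b, Cfsg.Spor.Suz.f, Cfsg.Spor.Suz.g, map_mul, map_pow,
        FreeGroup.lift_apply_of]
      rw [← mul_assoc] at h
      exact h
    · have h := relPerm (r := [1, 2, 3, 2, 3, 1, 2, 3, 2, 3, 1, 2, 3, 2, 3, 1, 2, 3, 2, 3, 1, 2, 3, 2, 3, 4, 1, 2, 3, 2, 3, 1, 2, 3, 2, 3, 1, 2, 3, 2, 3, 1, 2, 3, 2, 3, 1, 2, 3, 2, 3, 4, 1, 2, 3, 2, 3, 1, 2, 3, 2, 3, 1, 2, 3, 2, 3, 1, 2, 3, 2, 3, 1, 2, 3, 2, 3, 4]) (by decide)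
      change pW ((List.replicate 3 ((List.replicate 5 [1, 2, 3, 2, 3]).flatten ++ [4])).flatten) = 1
        at h
      rw [pW_rep, pW_append, pW_rep] at h
      simp only [pW_cons, pW_nil, mul_one] at h
      simp only [Cfsg.Spor.Suz.b, Cfsg.Spor.Suz.c, Cfsg.Spor.Suz.d, Cfsg.Spor.Suz.e, map_mul,
        map_pow, FreeGroup.lift_apply_of]
      rw [← mul_assoc, ← mul_assoc, ← mul_assoc] at h
      exact h

/-- The map from the presented group to the permutations. -/
noncomputable def Φ : P →* Equiv.Perm ℕ := PresentedGroup.toGroup lift_rel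

theorem Φ_x {g : ℕ} (hg : g < 7) : Φ (x g) = el NWc [g] := by
  rw [x_eq hg]
  unfold Φ
  rw [PresentedGroup.toGroup.of]
  unfold f
  congr 2
  interval_cases g <;> rfl

theorem Φ_word {w : List ℕ} (hw : ∀ g ∈ w, g < 7) : Φ ((w.map x).prod) = el NWc w := by
  induction w with
  | nil => simp [el_nil]
  | cons a w ih =>
    rw [List.map_cons, List.prod_cons, map_mul, Φ_x (hw a List.mem_cons_self),
      ih (fun g hg => hw g (List.mem_cons_of_mem _ hg)), ← el_cons]

theorem el_of_link {a : ℕ} {w : List ℕ} (h1 : isOne 11 NWc (List.replicate 10 a ++ w) = true)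
    (h2 : isOne 11 NWc (List.replicate 11 a) = true) : el NWc [a] = el NWc w := by
  have e1 := el_eq_one hNWc h1
  have e2 := el_eq_one hNWc h2
  rw [el_append, el_replicate] at e1
  rw [el_replicate] at e2
  have e3 : el NWc [a] ^ 10 * el NWc [a] = 1 := by rw [← pow_succ]; exact e2
  exact (mul_left_cancel (e3.trans e1.symm))

theorem el7 : el NWc [7] = el Cfsg.Agent.Helper72.Suz.NW [0] := by
  unfold el wordSt wordSt
  rw [hnetA]

theorem el8 : el NWc [8] = el Cfsg.Agent.Helper72.Suz.NW [1] := by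
  unfold el wordSt wordSt
  rw [hnetB]

theorem gens0 : Cfsg.Agent.Helper72.Suz.T.gens 0 = [0, 1] := rfl

theorem G_le : Cfsg.Agent.Helper72.Suz.G ≤ Φ.range := by
  show Lv Cfsg.Agent.Helper72.Suz.NW Cfsg.Agent.Helper72.Suz.T 0 ≤ Φ.range
  unfold Lv
  rw [Subgroup.closure_le]
  rintro g ⟨s, hs, rfl⟩
  rw [gens0] at hs
  simp only [List.mem_cons, List.not_mem_nil, or_false] at hs
  rcases hs with rfl | rfl
  · rw [← el7, el_of_link hlinkA hordA, ← Φ_word (by decide)]
    exact ⟨_, rfl⟩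
  · rw [← el8, el_of_link hlinkB hordB, ← Φ_word (by decide)]
    exact ⟨_, rfl⟩

/-- The presented Suzuki group is simple of order `448345497600`. -/
theorem main : IsSimpleGroup P ∧ Nat.card P = 448345497600 := by
  have hfinR : Finite Φ.range := Finite.of_surjective _ Φ.rangeRestrict_surjective
  have h1 : Nat.card Φ.range ≤ Nat.card P :=
    Nat.card_le_card_of_surjective _ Φ.rangeRestrict_surjective
  have h2 : Nat.card Cfsg.Agent.Helper72.Suz.G ≤ Nat.card Φ.range := Subgroup.card_le_of_le G_le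
  rw [Cfsg.Agent.Helper72.Suz.card_G] at h2
  have hcard : Nat.card P = 448345497600 := le_antisymm card_le (h2.trans h1)
  have hcardR : Nat.card Φ.range = 448345497600 := le_antisymm (h1.trans card_le) h2
  have hGR : Cfsg.Agent.Helper72.Suz.G = Φ.range :=
    Subgroup.eq_of_le_of_card_ge G_le (by rw [Cfsg.Agent.Helper72.Suz.card_G, hcardR])
  have hbij : Function.Bijective Φ.rangeRestrict :=
    Φ.rangeRestrict_surjective.bijective_of_nat_card_le (by rw [hcard, hcardR])
  have e : P ≃* Φ.range := MulEquiv.ofBijective Φ.rangeRestrict hbij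
  have : IsSimpleGroup Φ.range := by
    rw [← hGR]
    exact Cfsg.Agent.Helper72.Suz.simpleG
  exact ⟨e.isSimpleGroup, hcard⟩

end Cfsg.Agent.Helper72.SuzPres
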