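import Mathlib

/-!
# Big bit sets written in blocks

A number of several hundred thousand bits is slow to read as one literal; `cat` assembles it from
blocks of `4096` bits (the least significant block first).
-/

set_option autoImplicit false

namespace Cfsg.Agent.Helper72.TCNet

/-- The number with the given blocks of `4096` bits, the least significant block first. -/
def cat : List ℕ → ℕ
  | [] => 0
  | c :: l => c ||| (cat l <<< 4096)

end Cfsg.Agent.Helper72.TCNet
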