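import Cfsg.Agent.Lib.Helper72.TCSched

/-!
# Coset enumeration certificates with auxiliary cosets

A replay checker for a logged Todd–Coxeter enumeration.  The nodes `0, 1, …` carry elements `w v` of
the group; an entry `(v, g) ↦ u` of the table says `w v * x g * (w u)⁻¹ ∈ K`, an entry `v ↦ u` of the
table of coincidences says `w v * (w u)⁻¹ ∈ K`.  The steps of the log define new nodes, deduce
entries from relators, and carry the entries of a node over to the node it has been identified with.
-/

set_option autoImplicit false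

namespace Cfsg.Agent.Helper72.TCLog

open Cfsg.Agent.Helper72.TCC

/-! ### Packed tables -/

/-- The field `v` of a row: `24` bits. -/
def rdP (T v : ℕ) : ℕ := (T >>> (v * 24)) % 2 ^ 24

/-- Replace the field `v` of a row. -/
def wrP (T v x : ℕ) : ℕ := T ^^^ ((rdP T v ^^^ x) <<< (v * 24))

theorem rdP_testBit (T v j : ℕ) :
    (rdP T v).testBit j = (decide (j < 24) && T.testBit (v * 24 + j)) := by
  unfold rdP
  rw [Nat.testBit_mod_two_pow, Nat.testBit_shiftRight]

theorem rdP_lt (T v : ℕ) : rdP T v < 2 ^ 24 := Nat.mod_lt _ (by norm_num)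

theorem rdP_wrP (T v v' x : ℕ) (hx : x < 2 ^ 24) :
    rdP (wrP T v x) v' = if v' = v then x else rdP T v' := by
  apply Nat.eq_of_testBit_eq
  intro j
  rw [rdP_testBit]
  unfold wrP
  rw [Nat.testBit_xor, Nat.testBit_shiftLeft, Nat.testBit_xor, rdP_testBit]
  have hxor : rdP T v ^^^ x < 2 ^ 24 := Nat.xor_lt_two_pow (rdP_lt T v) hx
  by_cases hv : v' = v
  · subst hv
    rw [if_pos rfl]
    rcases Nat.lt_or_ge j 24 with hj | hj
    · have e : v' * 24 + j - v' * 24 = j := by omega
      have h1 : decide (v' * 24 + j ≥ v' * 24) = true := by simp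
      rw [e, h1]
      simp [hj]
    · have h2 : x.testBit j = false :=
        Nat.testBit_lt_two_pow (lt_of_lt_of_le hx (Nat.pow_le_pow_right (by norm_num) hj))
      rw [h2]
      simp [hj]
  · rw [if_neg hv, rdP_testBit]
    rcases Nat.lt_or_ge j 24 with hj | hj
    · rcases Nat.lt_or_ge v' v with hlt | hge
      · have h1 : decide (v' * 24 + j ≥ v * 24) = false := by
          simp only [decide_eq_false_iff_not, not_le]
          omega
        rw [h1]
        simp
      · have hgt : v < v' := lt_of_le_of_ne hge (Ne.symm hv)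
        have h2 : ¬ (v' * 24 + j - v * 24 < 24) := by omega
        have h3 : x.testBit (v' * 24 + j - v * 24) = false :=
          Nat.testBit_lt_two_pow (lt_of_lt_of_le hx
            (Nat.pow_le_pow_right (by norm_num) (by omega)))
        rw [h3]
        simp [h2]
    · have hd : decide (j < 24) = false := decide_eq_false (by omega)
      rw [hd]
      simp

/-- Replace an element of a list, which is made longer with zeros when needed. -/
def setL : List ℕ → ℕ → ℕ → List ℕ
  | [], 0, x => [x]
  | [], i + 1, x => 0 :: setL [] i x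
  | _ :: l, 0, x => x :: l
  | a :: l, i + 1, x => a :: setL l i x

theorem getD_setL (l : List ℕ) (i x j : ℕ) :
    (setL l i x).getD j 0 = if j = i then x else l.getD j 0 := by
  induction i generalizing l j with
  | zero =>
    cases l with
    | nil =>
      cases j with
      | zero => simp [setL]
      | succ j => simp [setL]
    | cons a l =>
      cases j with
      | zero => simp [setL]
      | succ j => simp [setL]
  | succ i ih =>
    cases l with
    | nil =>
      cases j with
      | zero => simp [setL]
      | succ j =>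
        simp only [setL, List.getD_cons_succ, ih]
        simp
    | cons a l =>
      cases j with
      | zero => simp [setL]
      | succ j =>
        simp only [setL, List.getD_cons_succ, ih]
        simp

/-- A table: eight packed rows. -/
abbrev Tr : Type := List ℕ

/-- Read a key. -/
def rd (t : Tr) (k : ℕ) : ℕ := rdP (t.getD (k % 8) 0) (k / 8)

/-- Write a key. -/
def wr (t : Tr) (k x : ℕ) : Tr := setL t (k % 8) (wrP (t.getD (k % 8) 0) (k / 8) x)

theorem rd_wr (t : Tr) (k k' x : ℕ) (hx : x < 2 ^ 24) :
    rd (wr t k x) k' = if k' = k then x else rd t k' := by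
  unfold rd wr
  rw [getD_setL]
  by_cases h8 : k' % 8 = k % 8
  · rw [if_pos h8, h8, rdP_wrP _ _ _ _ hx]
    by_cases hk : k' = k
    · subst hk
      simp
    · rw [if_neg hk, if_neg]
      omega
  · rw [if_neg h8, if_neg]
    intro hk
    exact h8 (by rw [hk])

theorem rd_empty (k : ℕ) : rd ([] : Tr) k = 0 := by
  unfold rd rdP
  simp

/-! ### The checker -/

/-- The state: the table, the coincidences, the number of nodes. -/
structure St where
  T : Tr
  R : Tr
  next : ℕ

/-- The node a node has been identified with. -/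
def find (R : Tr) : ℕ → ℕ → ℕ
  | 0, v => v
  | f + 1, v => if rd R v = 0 then v else find R f (rd R v - 1)

/-- The entry `(c, g)` of the table. -/
def nxt (σ : St) (c g : ℕ) : Option ℕ :=
  if rd σ.T (c * 8 + g) = 0 then none else some (find σ.R 64 (rd σ.T (c * 8 + g) - 1))

/-- Follow a word in the table. -/
def walk (σ : St) : List ℕ → ℕ → Option ℕ
  | [], c => some c
  | g :: l, c =>
    match nxt σ c g with
    | none => none
    | some c' => walk σ l c'

/-- Record that two nodes are the same coset. -/
def merge (σ : St) (a b : ℕ) : St :=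
  if a = b then σ else { σ with R := wr σ.R (max a b) (min a b + 1) }

/-- Record the fact `(s, l, t)`. -/
def addFact (σ : St) (s l t : ℕ) : St :=
  if rd σ.T (s * 8 + l) = 0 then
    if rd (wr σ.T (s * 8 + l) (t + 1)) (t * 8 + l) = 0 then
      { σ with T := wr (wr σ.T (s * 8 + l) (t + 1)) (t * 8 + l) (s + 1) }
    else { σ with T := wr σ.T (s * 8 + l) (t + 1) }
  else merge σ (find σ.R 64 (rd σ.T (s * 8 + l) - 1)) t

/-- One step of the log: `(0, v, g, _)` defines a new node, `(1, v, r, i)` is a deduction from the
relator `r` read from `v` with the gap at place `i`, `(2, a, g, _)` carries an entry over,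
`(3, g, _, _)` is a generator of the subgroup. -/
def step (k : ℕ) (rels : List (List ℕ)) (σ : St) (s : ℕ × ℕ × ℕ × ℕ) : St :=
  match s with
  | (0, v, g, _) =>
    if v < σ.next ∧ g < 8 ∧ rd σ.T (v * 8 + g) = 0 ∧ σ.next + 1 < 2 ^ 20 then
      { σ with T := wr (wr σ.T (v * 8 + g) (σ.next + 1)) (σ.next * 8 + g) (v + 1)
               next := σ.next + 1 }
    else σ
  | (1, v, r, i) =>
    let rel := rels.getD r []
    if v < σ.next ∧ i < rel.length ∧ rel.all (fun g => decide (g < 8)) = true then
      match walk σ (rel.take i) v, walk σ (rel.drop (i + 1)).reverse v with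
      | some s, some t => addFact σ s (rel.getD i 0) t
      | _, _ => σ
    else σ
  | (2, a, g, _) =>
    if a < σ.next ∧ g < 8 ∧ rd σ.T (a * 8 + g) ≠ 0 then
      addFact σ (find σ.R 64 a) g (find σ.R 64 (rd σ.T (a * 8 + g) - 1))
    else σ
  | (3, g, _, _) => if g < k ∧ g < 8 then addFact σ 0 g 0 else σ
  | _ => σ

/-- The first state. -/
def init : St := ⟨[], [], 1⟩

/-- Unpack a step. -/
def unpack (s : ℕ) : ℕ × ℕ × ℕ × ℕ :=
  (s % 4, (s / 4) % 2 ^ 20, (s / 2 ^ 22) % 2 ^ 20, s / 2 ^ 42)

/-- Run a log of packed steps. -/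
def run (k : ℕ) (rels : List (List ℕ)) : List ℕ → St → St
  | [], σ => σ
  | s :: l, σ =>
    match step k rels σ (unpack s) with
    | ⟨T, R, n⟩ => run k rels l ⟨T, R, n⟩

/-- The rotations of a relator. -/
def rots (r : List ℕ) : List (List ℕ) :=
  (List.range r.length).map (fun i => r.drop i ++ r.take i)

/-- All the rotations of all the relators. -/
def allRots (rels : List (List ℕ)) : List (List ℕ) := rels.flatMap rots

/-- The bit set of a list. -/
def maskOf (l : List ℕ) : ℕ := l.foldl (fun m p => m ||| 1 <<< p) 0

theorem testBit_foldl_mask (l : List ℕ) (m q : ℕ) :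
    (l.foldl (fun m p => m ||| 1 <<< p) m).testBit q = (m.testBit q || decide (q ∈ l)) := by
  induction l generalizing m with
  | nil => simp
  | cons a l ih =>
    rw [List.foldl_cons, ih, Nat.testBit_or, Nat.one_shiftLeft, Nat.testBit_two_pow]
    by_cases h : a = q
    · subst h
      simp
    · have h' : ¬ q = a := fun e => h e.symm
      simp [h, h']

theorem mem_of_testBit_maskOf {l : List ℕ} {q : ℕ} (h : (maskOf l).testBit q = true) : q ∈ l := by
  unfold maskOf at h
  rw [testBit_foldl_mask] at h
  simpa using h

/-- The last test: the entries of the nodes of `live` are all there and lead to `live`. -/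
def final (σ : St) (ng : ℕ) (live : List ℕ) : Bool :=
  (maskOf live).testBit 0 && live.all (fun p => decide (p < σ.next) && (List.range ng).all (fun g =>
    match nxt σ p g with
    | none => false
    | some q => (maskOf live).testBit q))

/-! ### Soundness -/

section sound
variable {G : Type*} [Group G] (K : Subgroup G) (x : ℕ → G)

/-- What the state says about the elements `w v`. -/
structure Inv (σ : St) (w : ℕ → G) : Prop where
  w0 : w 0 = 1
  pos : 0 < σ.next
  small : σ.next < 2 ^ 20
  edge : ∀ v g u, v < σ.next → g < 8 → rd σ.T (v * 8 + g) = u + 1 →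
    u < σ.next ∧ w v * x g * (w u)⁻¹ ∈ K
  rep : ∀ v u, v < σ.next → rd σ.R v = u + 1 → u < σ.next ∧ w v * (w u)⁻¹ ∈ K
  unused : ∀ v g, σ.next ≤ v → v < 2 ^ 20 → g < 8 → rd σ.T (v * 8 + g) = 0
  runused : ∀ v, σ.next ≤ v → v < 2 ^ 20 → rd σ.R v = 0

variable {K x}

theorem key_lt {v g : ℕ} (hv : v < 2 ^ 20) (hg : g < 8) : v * 8 + g < 2 ^ 24 := by
  have : (2 : ℕ) ^ 24 = 2 ^ 20 * 16 := by norm_num
  omega

theorem key_inj {v g v' g' : ℕ} (hg : g < 8) (hg' : g' < 8) (h : v * 8 + g = v' * 8 + g') :
    v = v' ∧ g = g' := by omega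

theorem val_lt {v n : ℕ} (hv : v < n) (hn : n < 2 ^ 20) : v + 1 < 2 ^ 24 := by
  have : (2 : ℕ) ^ 24 = 2 ^ 20 * 16 := by norm_num
  omega

theorem find_sound {σ : St} {w : ℕ → G} (h : Inv K x σ w) (f : ℕ) {v : ℕ} (hv : v < σ.next) :
    find σ.R f v < σ.next ∧ w v * (w (find σ.R f v))⁻¹ ∈ K := by
  induction f generalizing v with
  | zero =>
    refine ⟨hv, ?_⟩
    simp [find]
  | succ f ih =>
    unfold find
    split_ifs with h0
    · refine ⟨hv, ?_⟩
      simp
    · have e : rd σ.R v = (rd σ.R v - 1) + 1 := by omega
      obtain ⟨h1, h2⟩ := h.rep v _ hv e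
      obtain ⟨h3, h4⟩ := ih h1
      refine ⟨h3, ?_⟩
      have := K.mul_mem h2 h4
      convert this using 1
      group

theorem nxt_sound {σ : St} {w : ℕ → G} (h : Inv K x σ w) {c g d : ℕ} (hc : c < σ.next)
    (hg : g < 8) (hn : nxt σ c g = some d) : d < σ.next ∧ w c * x g * (w d)⁻¹ ∈ K := by
  unfold nxt at hn
  split_ifs at hn with h0
  have e : rd σ.T (c * 8 + g) = (rd σ.T (c * 8 + g) - 1) + 1 := by omega
  obtain ⟨h1, h2⟩ := h.edge c g _ hc hg e
  obtain ⟨h3, h4⟩ := find_sound h 64 h1
  simp only [Option.some.injEq] at hn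
  subst hn
  refine ⟨h3, ?_⟩
  have := K.mul_mem h2 h4
  convert this using 1
  group

theorem walk_sound {σ : St} {w : ℕ → G} (h : Inv K x σ w) (l : List ℕ) {c d : ℕ}
    (hc : c < σ.next) (hl : ∀ g ∈ l, g < 8) (hw : walk σ l c = some d) :
    d < σ.next ∧ w c * (l.map x).prod * (w d)⁻¹ ∈ K := by
  induction l generalizing c with
  | nil =>
    simp only [walk, Option.some.injEq] at hw
    subst hw
    refine ⟨hc, ?_⟩
    simp
  | cons g l ih =>
    unfold walk at hw
    cases hn : nxt σ c g with
    | none => rw [hn] at hw; exact absurd hw (by simp)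
    | some c' =>
      rw [hn] at hw
      obtain ⟨h1, h2⟩ := nxt_sound h hc (hl g List.mem_cons_self) hn
      obtain ⟨h3, h4⟩ := ih h1 (fun g' hg' => hl g' (List.mem_cons_of_mem _ hg')) hw
      refine ⟨h3, ?_⟩
      have := K.mul_mem h2 h4
      convert this using 1
      rw [List.map_cons, List.prod_cons]
      group

theorem merge_sound {σ : St} {w : ℕ → G} (h : Inv K x σ w) {a b : ℕ} (ha : a < σ.next)
    (hb : b < σ.next) (hab : w a * (w b)⁻¹ ∈ K) : Inv K x (merge σ a b) w := by
  unfold merge
  split_ifs with e
  · exact h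
  · have hs := h.small
    have hmax : max a b < σ.next := max_lt ha hb
    have hmin : min a b < σ.next := lt_of_le_of_lt (min_le_left a b) ha
    have hm' : max a b < 2 ^ 24 := lt_trans hmax (lt_trans hs (by norm_num))
    refine ⟨h.w0, h.pos, h.small, h.edge, ?_, h.unused, ?_⟩
    · intro v u hv hr
      have hv' : v < 2 ^ 24 := lt_trans hv (lt_trans hs (by norm_num))
      simp only at hr
      rw [rd_wr _ _ _ _ (val_lt hmin hs)] at hr
      split_ifs at hr with e2
      · have hu : u = min a b := by omega
        subst hu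
        subst e2
        refine ⟨hmin, ?_⟩
        rcases le_total a b with hle | hle
        · rw [max_eq_right hle, min_eq_left hle]
          have := K.inv_mem hab
          convert this using 1
          group
        · rw [max_eq_left hle, min_eq_right hle]
          exact hab
      · exact h.rep v u hv hr
    · intro v hv hv2
      replace hv : σ.next ≤ v := hv
      simp only
      have hv' : v < 2 ^ 24 := lt_trans hv2 (by norm_num)
      rw [rd_wr _ _ _ _ (val_lt hmin hs), if_neg (by omega)]
      exact h.runused v hv hv2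

theorem addFact_sound (hx : ∀ g, x g * x g = 1) {σ : St} {w : ℕ → G} (h : Inv K x σ w)
    {s l t : ℕ} (hs : s < σ.next) (hl : l < 8) (ht : t < σ.next)
    (hF : w s * x l * (w t)⁻¹ ∈ K) : Inv K x (addFact σ s l t) w := by
  have hsm := h.small
  have hxl : (x l)⁻¹ = x l := inv_eq_of_mul_eq_one_right (hx l)
  have hlt : ∀ {v}, v < σ.next → v < 2 ^ 20 := fun hv => lt_trans hv hsm
  unfold addFact
  split_ifs with h0 h1
  · -- both entries written
    refine ⟨h.w0, h.pos, h.small, ?_, h.rep, ?_, h.runused⟩
    · intro v g u hv hg hr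
      simp only at hr
      rw [rd_wr _ _ _ _ (val_lt hs hsm)] at hr
      split_ifs at hr with e1
      · obtain ⟨rfl, rfl⟩ := key_inj hg hl e1
        have : u = s := by omega
        subst this
        refine ⟨hs, ?_⟩
        have := K.inv_mem hF
        convert this using 1
        rw [mul_inv_rev, mul_inv_rev, inv_inv, hxl, mul_assoc]
      · rw [rd_wr _ _ _ _ (val_lt ht hsm)] at hr
        split_ifs at hr with e2
        · obtain ⟨rfl, rfl⟩ := key_inj hg hl e2
          have : u = t := by omega
          subst this
          exact ⟨ht, hF⟩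
        · exact h.edge v g u hv hg hr
    · intro v g hv hv2 hg
      replace hv : σ.next ≤ v := hv
      simp only
      have hvs : v ≠ s := by omega
      have hvt : v ≠ t := by omega
      rw [rd_wr _ _ _ _ (val_lt hs hsm), if_neg (by omega),
        rd_wr _ _ _ _ (val_lt ht hsm), if_neg (by omega)]
      exact h.unused v g hv hv2 hg
  · -- one entry written
    refine ⟨h.w0, h.pos, h.small, ?_, h.rep, ?_, h.runused⟩
    · intro v g u hv hg hr
      simp only at hr
      rw [rd_wr _ _ _ _ (val_lt ht hsm)] at hr
      split_ifs at hr with e2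
      · obtain ⟨rfl, rfl⟩ := key_inj hg hl e2
        have : u = t := by omega
        subst this
        exact ⟨ht, hF⟩
      · exact h.edge v g u hv hg hr
    · intro v g hv hv2 hg
      replace hv : σ.next ≤ v := hv
      simp only
      rw [rd_wr _ _ _ _ (val_lt ht hsm), if_neg (by omega)]
      exact h.unused v g hv hv2 hg
  · -- a coincidence
    have e : rd σ.T (s * 8 + l) = (rd σ.T (s * 8 + l) - 1) + 1 := by omega
    obtain ⟨h2, h3⟩ := h.edge s l _ hs hl e
    obtain ⟨h4, h5⟩ := find_sound h 64 h2
    apply merge_sound h h4 ht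
    have := K.mul_mem (K.mul_mem (K.inv_mem h5) (K.inv_mem h3)) hF
    convert this using 1
    group

theorem step_sound (hx : ∀ g, x g * x g = 1) (k : ℕ) (hk : ∀ g < k, x g ∈ K)
    (rels : List (List ℕ)) (hrel : ∀ r ∈ rels, (r.map x).prod = 1) {σ : St}
    (h : ∃ w, Inv K x σ w) (s : ℕ × ℕ × ℕ × ℕ) : ∃ w, Inv K x (step k rels σ s) w := by
  obtain ⟨w, h⟩ := h
  obtain ⟨tag, p, q, i⟩ := s
  have hsm := h.small
  have hlt : ∀ {v}, v < σ.next → v < 2 ^ 20 := fun hv => lt_trans hv hsm
  match tag with
  | 0 =>
    show ∃ w, Inv K x (if p < σ.next ∧ q < 8 ∧ rd σ.T (p * 8 + q) = 0 ∧ σ.next + 1 < 2 ^ 20 then _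
      else σ) w
    split_ifs with hc
    · obtain ⟨hp, hq, h0, hn⟩ := hc
      have hnn : σ.next < 2 ^ 20 := by omega
      refine ⟨Function.update w σ.next (w p * x q), ?_, ?_, ?_, ?_, ?_, ?_, ?_⟩
      · rw [Function.update_of_ne (by have := h.pos; omega)]
        exact h.w0
      · simp
      · exact hn
      · intro v g u hv hg hr
        replace hv : v < σ.next + 1 := hv
        show u < σ.next + 1 ∧ _
        simp only at hr
        rw [rd_wr _ _ _ _ (val_lt hp hsm)] at hr
        split_ifs at hr with e1
        · obtain ⟨rfl, rfl⟩ := key_inj hg hq e1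
          have : u = p := by omega
          subst this
          refine ⟨by omega, ?_⟩
          rw [Function.update_self, Function.update_of_ne (by omega)]
          have : w u * x g * x g * (w u)⁻¹ = 1 := by
            rw [mul_assoc (w u), hx g, mul_one, mul_inv_cancel]
          rw [this]
          exact K.one_mem
        · rw [rd_wr _ _ _ _ (val_lt (Nat.lt_succ_self σ.next) hn)] at hr
          split_ifs at hr with e2
          · obtain ⟨rfl, rfl⟩ := key_inj hg hq e2
            have : u = σ.next := by omega
            subst this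
            refine ⟨by omega, ?_⟩
            rw [Function.update_self, Function.update_of_ne (by omega)]
            rw [mul_inv_cancel]
            exact K.one_mem
          · rcases Nat.lt_or_ge v σ.next with hv' | hv'
            · obtain ⟨h1, h2⟩ := h.edge v g u hv' hg hr
              refine ⟨by omega, ?_⟩
              rw [Function.update_of_ne (by omega), Function.update_of_ne (by omega)]
              exact h2
            · have := h.unused v g hv' (by omega) hg
              omega
      · intro v u hv hr
        replace hv : v < σ.next + 1 := hv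
        show u < σ.next + 1 ∧ _
        simp only at hr
        rcases Nat.lt_or_ge v σ.next with hv' | hv'
        · obtain ⟨h1, h2⟩ := h.rep v u hv' hr
          refine ⟨by omega, ?_⟩
          rw [Function.update_of_ne (by omega), Function.update_of_ne (by omega)]
          exact h2
        · exfalso
          have := h.runused v hv' (by omega)
          omega
      · intro v g hv hv2 hg
        replace hv : σ.next + 1 ≤ v := hv
        simp only
        rw [rd_wr _ _ _ _ (val_lt hp hsm), if_neg (by omega),
          rd_wr _ _ _ _ (val_lt (Nat.lt_succ_self σ.next) hn), if_neg (by omega)]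
        exact h.unused v g (by omega) hv2 hg
      · intro v hv hv2
        replace hv : σ.next + 1 ≤ v := hv
        exact h.runused v (by omega) hv2
    · exact ⟨w, h⟩
  | 1 =>
    simp only [step]
    split_ifs with hc
    · obtain ⟨hp, hi, hall⟩ := hc
      split
      · next s t hs ht =>
        have hmem : rels.getD q [] ∈ rels := by
          rcases Nat.lt_or_ge q rels.length with h1 | h1
          · rw [List.getD_eq_getElem _ _ h1]
            exact List.getElem_mem h1
          · rw [List.getD_eq_default _ _ h1] at hi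
            simp at hi
        have hall' : ∀ g ∈ rels.getD q [], g < 8 := by
          intro g hg
          have := List.all_eq_true.1 hall g hg
          simpa using this
        have hsplit := Cfsg.Agent.Helper72.TCSched.split_at (rels.getD q []) i hi
        have hprod := hrel _ hmem
        rw [← hsplit, List.map_append, List.prod_append, List.map_cons, List.prod_cons] at hprod
        have hl8 : (rels.getD q []).getD i 0 < 8 := by
          apply hall'
          rw [List.getD_eq_getElem _ _ hi]
          exact List.getElem_mem hi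
        obtain ⟨h1, h2⟩ := walk_sound h _ hp
          (fun g hg => hall' g (List.mem_of_mem_take hg)) hs
        obtain ⟨h3, h4⟩ := walk_sound h _ hp
          (fun g hg => hall' g (List.mem_of_mem_drop (List.mem_reverse.1 hg))) ht
        rw [prod_reverse hx] at h4
        refine ⟨w, addFact_sound hx h h1 hl8 h3 ?_⟩
        set A := ((rels.getD q []).take i |>.map x).prod with hA
        set B := ((rels.getD q []).drop (i + 1) |>.map x).prod with hB
        set y := x ((rels.getD q []).getD i 0) with hy
        have e : y = A⁻¹ * (A * (y * B)) * B⁻¹ := by group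
        rw [hprod, mul_one] at e
        have := K.mul_mem (K.inv_mem h2) h4
        convert this using 1
        rw [e]
        group
      · exact ⟨w, h⟩
    · exact ⟨w, h⟩
  | 2 =>
    simp only [step]
    split_ifs with hc
    · obtain ⟨hp, hq, hne⟩ := hc
      have e : rd σ.T (p * 8 + q) = (rd σ.T (p * 8 + q) - 1) + 1 := by omega
      obtain ⟨h1, h2⟩ := h.edge p q _ hp hq e
      obtain ⟨h3, h4⟩ := find_sound h 64 hp
      obtain ⟨h5, h6⟩ := find_sound h 64 h1
      refine ⟨w, addFact_sound hx h h3 hq h5 ?_⟩
      have := K.mul_mem (K.mul_mem (K.inv_mem h4) h2) h6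
      convert this using 1
      group
    · exact ⟨w, h⟩
  | 3 =>
    simp only [step]
    split_ifs with hc
    · obtain ⟨hp, hp8⟩ := hc
      refine ⟨w, addFact_sound hx h h.pos hp8 h.pos ?_⟩
      rw [h.w0]
      simpa using hk p hp
    · exact ⟨w, h⟩
  | (n + 4) => exact ⟨w, h⟩

theorem init_inv : Inv K x init (fun _ => (1 : G)) := by
  refine ⟨rfl, by decide, by decide, ?_, ?_, ?_, ?_⟩
  · intro v g u _ _ hr
    simp only [init] at hr
    rw [rd_empty] at hr
    omega
  · intro v u _ hr
    simp only [init] at hr
    rw [rd_empty] at hr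
    omega
  · intro v g _ _ _
    exact rd_empty _
  · intro v _ _
    exact rd_empty _

theorem run_sound (hx : ∀ g, x g * x g = 1) (k : ℕ) (hk : ∀ g < k, x g ∈ K)
    (rels : List (List ℕ)) (hrel : ∀ r ∈ rels, (r.map x).prod = 1)
    (log : List ℕ) {σ : St} (h : ∃ w, Inv K x σ w) :
    ∃ w, Inv K x (run k rels log σ) w := by
  induction log generalizing σ with
  | nil => exact h
  | cons s log ih =>
    unfold run
    exact ih (step_sound hx k hk rels hrel h (unpack s))

theorem allRots_prod {rels : List (List ℕ)} (hrel : ∀ r ∈ rels, (r.map x).prod = 1) :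
    ∀ r ∈ allRots rels, (r.map x).prod = 1 := by
  intro r hr
  unfold allRots at hr
  rw [List.mem_flatMap] at hr
  obtain ⟨r0, hr0, hr⟩ := hr
  unfold rots at hr
  rw [List.mem_map] at hr
  obtain ⟨i, -, rfl⟩ := hr
  have h := hrel r0 hr0
  rw [← List.take_append_drop i r0, List.map_append, List.prod_append] at h
  rw [List.map_append, List.prod_append]
  exact mul_eq_one_comm.1 h

theorem cover_of_final (hx : ∀ g, x g * x g = 1) {σ : St} {w : ℕ → G} (h : Inv K x σ w)
    (ng : ℕ) (hng : ng ≤ 8) (live : List ℕ) (hf : final σ ng live = true) :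
    ∀ y ∈ Subgroup.closure (x '' {g | g < ng}), ∃ p ∈ live, y * (w p)⁻¹ ∈ K := by
  unfold final at hf
  rw [Bool.and_eq_true] at hf
  obtain ⟨hf0, hf1⟩ := hf
  have h0 : 0 ∈ live := mem_of_testBit_maskOf hf0
  have hedge : ∀ p ∈ live, ∀ g < ng, ∃ q ∈ live, w p * x g * (w q)⁻¹ ∈ K := by
    intro p hp g hg
    have h1 := List.all_eq_true.1 hf1 p hp
    rw [Bool.and_eq_true] at h1
    obtain ⟨h2, h3⟩ := h1
    have hp' : p < σ.next := by simpa using h2
    have h4 := List.all_eq_true.1 h3 g (List.mem_range.2 hg)
    cases hn : nxt σ p g with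
    | none => rw [hn] at h4; exact absurd h4 (by simp)
    | some q =>
      rw [hn] at h4
      have hq : q ∈ live := mem_of_testBit_maskOf h4
      exact ⟨q, hq, (nxt_sound h hp' (by omega) hn).2⟩
  intro y hy
  induction hy using Subgroup.closure_induction_right with
  | one =>
    refine ⟨0, h0, ?_⟩
    rw [h.w0]
    simp
  | mul_right a ha b hb ih =>
    obtain ⟨g, hg, rfl⟩ := hb
    obtain ⟨p, hp, hk⟩ := ih
    obtain ⟨q, hq, he⟩ := hedge p hp g hg
    refine ⟨q, hq, ?_⟩
    have := K.mul_mem hk he
    convert this using 1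
    group
  | mul_inv_cancel a ha b hb ih =>
    obtain ⟨g, hg, rfl⟩ := hb
    obtain ⟨p, hp, hk⟩ := ih
    obtain ⟨q, hq, he⟩ := hedge p hp g hg
    refine ⟨q, hq, ?_⟩
    have hy : (x g)⁻¹ = x g := inv_eq_of_mul_eq_one_right (hx g)
    rw [hy]
    have := K.mul_mem hk he
    convert this using 1
    group

/-- The cover given by a checked log. -/
theorem cover_of_log (K : Subgroup G) (x : ℕ → G) (hx : ∀ g, x g * x g = 1) (k ng : ℕ)
    (hng : ng ≤ 8) (hk : ∀ g < k, x g ∈ K) (rels : List (List ℕ))
    (hrel : ∀ r ∈ rels, (r.map x).prod = 1) (log : List ℕ) (live : List ℕ)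
    (hf : final (run k rels log init) ng live = true) :
    ∃ w : ℕ → G, ∀ y ∈ Subgroup.closure (x '' {g | g < ng}),
      ∃ p < live.length, y * (w p)⁻¹ ∈ K := by
  obtain ⟨w, hw⟩ := run_sound hx k hk rels hrel log ⟨_, init_inv (K := K) (x := x)⟩
  refine ⟨fun i => w (live.getD i 0), ?_⟩
  intro y hy
  obtain ⟨p, hp, hpk⟩ := cover_of_final hx hw ng hng live hf y hy
  obtain ⟨i, hi, rfl⟩ := List.mem_iff_getElem.1 hp
  refine ⟨i, hi, ?_⟩
  simp only
  rw [List.getD_eq_getElem _ _ hi]
  exact hpk

end sound

end Cfsg.Agent.Helper72.TCLog
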