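import Cfsg.Agent.Lib.Helper72.PermNet
import Cfsg.Agent.Lib.Helper72.TCClosure

/-!
# Coset enumeration certificates on networks of delta swaps

The coset table of `TCClosure` is given by networks of delta swaps (`PermNet`); the identities
between the permutations are tested on the `nb` coordinate masks of the `2 ^ nb` positions.
-/

set_option autoImplicit false

namespace Cfsg.Agent.Helper72.TCNet

open Cfsg.Agent.Helper72.PermNet Cfsg.Agent.Helper72.TCC

/-! ### Coordinate masks -/

/-- The set of the `r < 2 ^ k` whose bit `j` is set. -/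
def cm : ℕ → ℕ → ℕ
  | 0, _ => 0
  | k + 1, j => if j = k then (2 ^ 2 ^ k - 1) <<< 2 ^ k else cm k j ||| (cm k j <<< 2 ^ k)

theorem testBit_cm (k j r : ℕ) : (cm k j).testBit r = (decide (r < 2 ^ k) && r.testBit j) := by
  induction k generalizing r with
  | zero =>
    simp only [cm, Nat.zero_testBit, pow_zero, Nat.lt_one_iff]
    by_cases h : r = 0
    · subst h; simp
    · simp [h]
  | succ k ih =>
    unfold cm
    have hp : 2 ^ (k + 1) = 2 ^ k + 2 ^ k := by rw [pow_succ]; ring
    by_cases hj : j = k
    · subst hj
      rw [if_pos rfl, Nat.testBit_shiftLeft, Nat.testBit_two_pow_sub_one]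
      by_cases h1 : r < 2 ^ j
      · have : r.testBit j = false := Nat.testBit_lt_two_pow h1
        have h2 : ¬ (2 ^ j ≤ r) := by omega
        simp [h2, this]
      · have h1' : 2 ^ j ≤ r := by omega
        by_cases h3 : r < 2 ^ (j + 1)
        · have h4 : r - 2 ^ j < 2 ^ j := by omega
          have : r.testBit j = true := by
            rw [Nat.testBit_eq_decide_div_mod_eq]
            have : r / 2 ^ j = 1 := by
              apply Nat.div_eq_of_lt_le <;> omega
            simp [this]
          simp [h1', h3, h4, this]
        · have h4 : ¬ (r - 2 ^ j < 2 ^ j) := by omega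
          simp [h1', h3, h4]
    · rw [if_neg hj, Nat.testBit_or, Nat.testBit_shiftLeft, ih, ih]
      by_cases h1 : r < 2 ^ k
      · have h2 : ¬ (2 ^ k ≤ r) := by omega
        have h3 : r < 2 ^ (k + 1) := by omega
        simp [h1, h2, h3]
      · have h1' : 2 ^ k ≤ r := by omega
        by_cases h3 : r < 2 ^ (k + 1)
        · have h4 : r - 2 ^ k < 2 ^ k := by omega
          have e : (r - 2 ^ k).testBit j = r.testBit j := by
            have hr : r = (r - 2 ^ k) + 2 ^ k := by omega
            conv_rhs => rw [hr]
            rcases Nat.lt_or_gt_of_ne hj with hlt | hgt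
            · rw [Nat.testBit_eq_decide_div_mod_eq, Nat.testBit_eq_decide_div_mod_eq]
              have : 2 ^ k = 2 ^ j * 2 ^ (k - j) := by rw [← pow_add]; congr 1; omega
              rw [this, Nat.add_mul_div_left _ _ (by positivity)]
              have h5 : 2 ^ (k - j) % 2 = 0 := by
                have : k - j = (k - j - 1) + 1 := by omega
                rw [this, pow_succ]; simp
              generalize (r - 2 ^ j * 2 ^ (k - j)) / 2 ^ j = a
              generalize 2 ^ (k - j) = b at h5
              rw [decide_eq_decide]
              omega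
            · have a1 : (r - 2 ^ k).testBit j = false :=
                Nat.testBit_lt_two_pow (lt_of_lt_of_le h4 (Nat.pow_le_pow_right (by norm_num) hgt.le))
              have a2 : (r - 2 ^ k + 2 ^ k).testBit j = false := by
                apply Nat.testBit_lt_two_pow
                have : 2 ^ (k + 1) ≤ 2 ^ j := Nat.pow_le_pow_right (by norm_num) hgt
                omega
              rw [a1, a2]
          simp [h1, h1', h3, h4, e]
        · have h4 : ¬ (r - 2 ^ k < 2 ^ k) := by omega
          simp [h1, h1', h3, h4]

/-! ### Validity of networks -/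

/-- A stage is valid on `B` positions. -/
def stageOK' (B : ℕ) (s : ℕ × ℕ) : Bool :=
  s.1 &&& (s.1 <<< s.2) == 0 && decide (s.1 <<< s.2 < 2 ^ B)

/-- A network is valid on `B` positions. -/
def netOK (B : ℕ) (st : List (ℕ × ℕ)) : Bool := st.all (stageOK' B)

theorem smallOK_of_netOK {B : ℕ} {st : List (ℕ × ℕ)} (h : netOK B st = true) : smallOK st := by
  intro s hs
  have := List.all_eq_true.1 h s hs
  unfold stageOK' at this
  rw [Bool.and_eq_true, beq_iff_eq] at this
  exact this.1

theorem posOf_lt' {B : ℕ} {st : List (ℕ × ℕ)} (h : netOK B st = true) {q : ℕ} (hq : q < B) :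
    posOf st q < B := by
  induction st with
  | nil => exact hq
  | cons s rest ih =>
    have h1 : stageOK' B s = true := List.all_eq_true.1 h s List.mem_cons_self
    have h2 : netOK B rest = true :=
      List.all_eq_true.2 (fun t ht => List.all_eq_true.1 h t (List.mem_cons_of_mem _ ht))
    unfold stageOK' at h1
    rw [Bool.and_eq_true, decide_eq_true_eq] at h1
    exact dpos_lt h1.2 (ih h2)

theorem posOf_ge' {B : ℕ} {st : List (ℕ × ℕ)} (h : netOK B st = true) {q : ℕ} (hq : B ≤ q) :
    posOf st q = q := by
  induction st with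
  | nil => rfl
  | cons s rest ih =>
    have h1 : stageOK' B s = true := List.all_eq_true.1 h s List.mem_cons_self
    have h2 : netOK B rest = true :=
      List.all_eq_true.2 (fun t ht => List.all_eq_true.1 h t (List.mem_cons_of_mem _ ht))
    unfold stageOK' at h1
    rw [Bool.and_eq_true, decide_eq_true_eq] at h1
    show dpos s.1 s.2 (posOf rest q) = q
    rw [ih h2]
    exact dpos_ge h1.2 hq

theorem netOK_append {B : ℕ} {st1 st2 : List (ℕ × ℕ)} (h1 : netOK B st1 = true)
    (h2 : netOK B st2 = true) : netOK B (st1 ++ st2) = true := by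
  unfold netOK at *
  rw [List.all_append, h1, h2]
  rfl

theorem netOK_wordSt {B : ℕ} {NW : List (List (ℕ × ℕ))} (hNW : NW.all (netOK B) = true)
    (w : List ℕ) : netOK B (wordSt NW w) = true := by
  induction w with
  | nil => rfl
  | cons a w ih =>
    apply netOK_append _ ih
    rcases Nat.lt_or_ge a NW.length with h | h
    · rw [List.getD_eq_getElem _ _ h]
      exact List.all_eq_true.1 hNW _ (List.getElem_mem h)
    · rw [List.getD_eq_default _ _ h]
      rfl

/-- The image of a bit set under the permutation of a word. -/
theorem testBit_applyWs {B : ℕ} {NW : List (List (ℕ × ℕ))} (hNW : NW.all (netOK B) = true)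
    (w : List ℕ) (M p : ℕ) : (applyWs NW w M).testBit p = M.testBit (el NW w p) := by
  have h := smallOK_of_netOK (netOK_wordSt hNW w)
  rw [applyWs_eq, testBit_applySm h]
  unfold el
  rw [permOf_apply h]

/-- The test of the identity on the coordinate masks. -/
def isOne (nb : ℕ) (NW : List (List (ℕ × ℕ))) (w : List ℕ) : Bool :=
  (List.range nb).all (fun j => applyWs NW w (cm nb j) == cm nb j)

theorem el_eq_one {nb : ℕ} {NW : List (List (ℕ × ℕ))} (hNW : NW.all (netOK (2 ^ nb)) = true)
    {w : List ℕ} (h : isOne nb NW w = true) : el NW w = 1 := by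
  apply Equiv.ext
  intro p
  show el NW w p = p
  have hok := netOK_wordSt hNW w
  have hsm := smallOK_of_netOK hok
  rcases Nat.lt_or_ge p (2 ^ nb) with hp | hp
  · have hq : el NW w p < 2 ^ nb := by
      unfold el
      rw [permOf_apply hsm]
      exact posOf_lt' hok hp
    apply Nat.eq_of_testBit_eq
    intro j
    rcases Nat.lt_or_ge j nb with hj | hj
    · have h1 := List.all_eq_true.1 h j (List.mem_range.2 hj)
      rw [beq_iff_eq] at h1
      have h2 := testBit_applyWs hNW w (cm nb j) p
      rw [h1, testBit_cm, testBit_cm] at h2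
      simpa [hp, hq] using h2.symm
    · have a1 : (el NW w p).testBit j = false :=
        Nat.testBit_lt_two_pow (lt_of_lt_of_le hq (Nat.pow_le_pow_right (by norm_num) hj))
      have a2 : p.testBit j = false :=
        Nat.testBit_lt_two_pow (lt_of_lt_of_le hp (Nat.pow_le_pow_right (by norm_num) hj))
      rw [a1, a2]
  · unfold el
    rw [permOf_apply hsm]
    exact posOf_ge' hok hp

/-! ### The certificate -/

/-- All the checks of a level. -/
def checkAll (nb : ℕ) (NW : List (List (ℕ × ℕ))) (n ng k : ℕ) (rels : List (List ℕ))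
    (T : List ℕ) (depth nrounds : ℕ) : Bool :=
  NW.all (netOK (2 ^ nb)) && decide (NW.length = ng) &&
  (List.range ng).all (fun g => isOne nb NW [g, g]) &&
  rels.all (fun r => isOne nb NW r.reverse) &&
  check (fun g M => applyWs NW [g] M) n ng k rels T depth nrounds

theorem walk_eq_el (NW : List (List (ℕ × ℕ))) (l : List ℕ) (c : ℕ) :
    walk (fun g => el NW [g]) l c = el NW l.reverse c := by
  induction l generalizing c with
  | nil => rfl
  | cons y l ih =>
    rw [List.reverse_cons, el_append]
    show walk (fun g => el NW [g]) l (el NW [y] c) = _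
    rw [ih]
    rfl

/-- The cover given by a certificate. -/
theorem cover_of_checkAll {G : Type*} [Group G] (K : Subgroup G) (x : ℕ → G)
    (hx : ∀ g, x g * x g = 1) (nb : ℕ) (NW : List (List (ℕ × ℕ))) (n ng k : ℕ)
    (rels : List (List ℕ)) (hrel : ∀ r ∈ rels, (r.map x).prod = 1) (hk : ∀ g < k, x g ∈ K)
    (T : List ℕ) (depth nrounds : ℕ) (hn : 0 < n)
    (hc : checkAll nb NW n ng k rels T depth nrounds = true) :
    ∃ w : ℕ → G, ∀ h ∈ Subgroup.closure (x '' {g | g < ng}), ∃ p < n, h * (w p)⁻¹ ∈ K := by
  unfold checkAll at hc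
  simp only [Bool.and_eq_true, decide_eq_true_eq] at hc
  obtain ⟨⟨⟨⟨hNW, hlen⟩, hinv⟩, htab⟩, hchk⟩ := hc
  have hτ : ∀ g p, el NW [g] (el NW [g] p) = p := by
    intro g p
    rcases Nat.lt_or_ge g ng with hg | hg
    · have := el_eq_one hNW (List.all_eq_true.1 hinv g (List.mem_range.2 hg))
      have e : el NW [g, g] = el NW [g] * el NW [g] := el_cons g [g]
      rw [e] at this
      have h2 := congrArg (fun σ : Equiv.Perm ℕ => σ p) this
      exact h2
    · have : el NW [g] = 1 := by
        unfold el wordSt
        rw [List.getD_eq_default _ _ (by omega)]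
        rfl
      rw [this]
      rfl
  refine cover (τ := fun g => el NW [g]) (pm := fun g M => applyWs NW [g] M)
    (fun g M p => testBit_applyWs hNW [g] M p) hτ hx n ng k rels hrel ?_ hk T depth nrounds hn hchk
  intro r hr c
  rw [walk_eq_el, el_eq_one hNW (List.all_eq_true.1 htab r hr)]
  rfl

end Cfsg.Agent.Helper72.TCNet
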