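import Cfsg.Agent.Lib.Helper72.TCNet

/-!
# Coset enumeration certificates in several pieces

For a big coset table the computation of `TCClosure` is cut into pieces: the deductions are listed
in a schedule (relator, place), and the masks of proven edges are recorded between the pieces.
-/

set_option autoImplicit false

namespace Cfsg.Agent.Helper72.TCSched

open Cfsg.Agent.Helper72.PermNet Cfsg.Agent.Helper72.TCC Cfsg.Agent.Helper72.TCNet

section defs
variable (pm : ℕ → ℕ → ℕ)

/-- One deduction of the schedule: relator `s.1`, place `s.2`. -/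
def stepS (full : ℕ) (rels : List (List ℕ)) (E : List ℕ) (s : ℕ × ℕ) : List ℕ :=
  if s.2 < (rels.getD s.1 []).length then
    ded pm full E ((rels.getD s.1 []).take s.2) ((rels.getD s.1 []).getD s.2 0)
      ((rels.getD s.1 []).drop (s.2 + 1))
  else E

/-- The deductions of a schedule. -/
def runSched (full : ℕ) (rels : List (List ℕ)) (sched : List (ℕ × ℕ)) (E : List ℕ) : List ℕ :=
  sched.foldl (stepS pm full rels) E

end defs

section sound
variable {G : Type*} [Group G] {K : Subgroup G} {x : ℕ → G} {τ : ℕ → Equiv.Perm ℕ}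
  {pm : ℕ → ℕ → ℕ}

theorem split_at (r : List ℕ) (i : ℕ) (hi : i < r.length) :
    r.take i ++ r.getD i 0 :: r.drop (i + 1) = r := by
  rw [List.getD_eq_getElem _ _ hi]
  conv_rhs => rw [← List.take_append_drop i r]
  congr 1
  exact (List.drop_eq_getElem_cons hi).symm

theorem stepS_valid (hpm : ∀ g M p, (pm g M).testBit p = M.testBit (τ g p))
    (hτ : ∀ g p, τ g (τ g p) = p) (hx : ∀ g, x g * x g = 1) {w : ℕ → G} (full : ℕ)
    (rels : List (List ℕ)) (hrel : ∀ r ∈ rels, (r.map x).prod = 1)
    (htab : ∀ r ∈ rels, ∀ c, walk τ r c = c) (E : List ℕ) (hE : Valid K x τ w E) (s : ℕ × ℕ) :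
    Valid K x τ w (stepS pm full rels E s) := by
  unfold stepS
  split_ifs with h
  · have hmem : rels.getD s.1 [] ∈ rels := by
      rcases Nat.lt_or_ge s.1 rels.length with h1 | h1
      · rw [List.getD_eq_getElem _ _ h1]
        exact List.getElem_mem h1
      · rw [List.getD_eq_default _ _ h1] at h
        simp at h
    apply ded_valid hpm hτ hx hE
    · rw [split_at _ _ h]
      exact hrel _ hmem
    · rw [split_at _ _ h]
      exact htab _ hmem
  · exact hE

theorem runSched_valid (hpm : ∀ g M p, (pm g M).testBit p = M.testBit (τ g p))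
    (hτ : ∀ g p, τ g (τ g p) = p) (hx : ∀ g, x g * x g = 1) {w : ℕ → G} (full : ℕ)
    (rels : List (List ℕ)) (hrel : ∀ r ∈ rels, (r.map x).prod = 1)
    (htab : ∀ r ∈ rels, ∀ c, walk τ r c = c) (sched : List (ℕ × ℕ)) (E : List ℕ)
    (hE : Valid K x τ w E) : Valid K x τ w (runSched pm full rels sched E) := by
  unfold runSched
  induction sched generalizing E with
  | nil => exact hE
  | cons s sched ih =>
    rw [List.foldl_cons]
    exact ih _ (stepS_valid hpm hτ hx full rels hrel htab E hE s)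

theorem bfs_valid (hpm : ∀ g M p, (pm g M).testBit p = M.testBit (τ g p))
    (hτ : ∀ g p, τ g (τ g p) = p) (hx : ∀ g, x g * x g = 1) (ng k : ℕ) (hk : ∀ g < k, x g ∈ K)
    (h1 : (List.range k).all (fun g => pm g 1 == 1) = true) (T : List ℕ) (depth : ℕ) :
    ∃ w : ℕ → G, w 0 = 1 ∧ Valid K x τ w (bfs pm T ng depth 1 (initSt ng k)).2 := by
  have h1' : ∀ g < k, pm g 1 = 1 := by
    intro g hg
    have := List.all_eq_true.1 h1 g (List.mem_range.2 hg)
    simpa using this
  obtain ⟨-, w, hw0, hw⟩ := bfs_inv hpm hτ hx T ng depth 1 _ (initSt_inv hpm ng k hk h1')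
  exact ⟨w, hw0, fun g p hp => (hw g p hp).2.2⟩

theorem cover_of_valid (hpm : ∀ g M p, (pm g M).testBit p = M.testBit (τ g p))
    (hx : ∀ g, x g * x g = 1) (n ng : ℕ) (hn : 0 < n) {w : ℕ → G} (hw0 : w 0 = 1) (E : List ℕ)
    (hV : Valid K x τ w E)
    (h2 : (List.range ng).all (fun g => pm g (2 ^ n - 1) == 2 ^ n - 1) = true)
    (h3 : (List.range ng).all (fun g => getE E g &&& (2 ^ n - 1) == 2 ^ n - 1) = true) :
    ∀ h ∈ Subgroup.closure (x '' {g | g < ng}), ∃ p < n, h * (w p)⁻¹ ∈ K := by
  have h2' : ∀ g < ng, ∀ p < n, τ g p < n := by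
    intro g hg p hp
    have := List.all_eq_true.1 h2 g (List.mem_range.2 hg)
    rw [beq_iff_eq] at this
    have h3 := hpm g (2 ^ n - 1) p
    rw [this] at h3
    rw [← testBit_full, ← h3, testBit_full]
    exact hp
  have hedge : ∀ g < ng, ∀ p < n, w p * x g * (w (τ g p))⁻¹ ∈ K := by
    intro g hg p hp
    apply hV g p
    have := List.all_eq_true.1 h3 g (List.mem_range.2 hg)
    rw [beq_iff_eq] at this
    have h4 : ((getE E g) &&& (2 ^ n - 1)).testBit p = true := by
      rw [this, testBit_full]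
      exact hp
    rw [Nat.testBit_and, Bool.and_eq_true] at h4
    exact h4.1
  intro h hh
  induction hh using Subgroup.closure_induction_right with
  | one =>
    refine ⟨0, hn, ?_⟩
    rw [hw0]
    simp
  | mul_right a ha b hb ih =>
    obtain ⟨g, hg, rfl⟩ := hb
    obtain ⟨p, hp, hk⟩ := ih
    refine ⟨τ g p, h2' g hg p hp, ?_⟩
    have := K.mul_mem hk (hedge g hg p hp)
    convert this using 1
    group
  | mul_inv_cancel a ha b hb ih =>
    obtain ⟨g, hg, rfl⟩ := hb
    obtain ⟨p, hp, hk⟩ := ih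
    refine ⟨τ g p, h2' g hg p hp, ?_⟩
    have hy : (x g)⁻¹ = x g := inv_eq_of_mul_eq_one_right (hx g)
    rw [hy]
    have := K.mul_mem hk (hedge g hg p hp)
    convert this using 1
    group

end sound

/-! ### With networks -/

section net
variable {G : Type*} [Group G] {K : Subgroup G} {x : ℕ → G}

/-- The facts on the networks that the pieces use. -/
structure NetOK (nb : ℕ) (NW : List (List (ℕ × ℕ))) (ng : ℕ) (rels : List (List ℕ)) : Prop where
  hNW : NW.all (netOK (2 ^ nb)) = true
  hinv : ∀ g < ng, isOne nb NW [g, g] = true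
  htab : ∀ r ∈ rels, isOne nb NW r.reverse = true

theorem hτ_of {nb : ℕ} {NW : List (List (ℕ × ℕ))} {ng : ℕ} {rels : List (List ℕ)}
    (h : NetOK nb NW ng rels) (hlen : NW.length = ng) (g p : ℕ) :
    el NW [g] (el NW [g] p) = p := by
  rcases Nat.lt_or_ge g ng with hg | hg
  · have := el_eq_one h.hNW (h.hinv g hg)
    have e : el NW [g, g] = el NW [g] * el NW [g] := el_cons g [g]
    rw [e] at this
    exact congrArg (fun σ : Equiv.Perm ℕ => σ p) this
  · have : el NW [g] = 1 := by
      unfold el wordSt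
      rw [List.getD_eq_default _ _ (by omega)]
      rfl
    rw [this]
    rfl

theorem htab_of {nb : ℕ} {NW : List (List (ℕ × ℕ))} {ng : ℕ} {rels : List (List ℕ)}
    (h : NetOK nb NW ng rels) (r : List ℕ) (hr : r ∈ rels) (c : ℕ) :
    walk (fun g => el NW [g]) r c = c := by
  rw [walk_eq_el, el_eq_one h.hNW (h.htab r hr)]
  rfl

/-- A piece of the computation keeps the proven edges right. -/
theorem valid_piece {nb : ℕ} {NW : List (List (ℕ × ℕ))} {ng : ℕ} {rels : List (List ℕ)}
    (h : NetOK nb NW ng rels) (hlen : NW.length = ng) (hx : ∀ g, x g * x g = 1)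
    (hrel : ∀ r ∈ rels, (r.map x).prod = 1) {w : ℕ → G} (full : ℕ) (sched : List (ℕ × ℕ))
    {E E' : List ℕ} (he : runSched (fun g M => applyWs NW [g] M) full rels sched E = E')
    (hE : Valid K x (fun g => el NW [g]) w E) : Valid K x (fun g => el NW [g]) w E' := by
  rw [← he]
  exact runSched_valid (fun g M p => testBit_applyWs h.hNW [g] M p) (hτ_of h hlen) hx full rels hrel
    (htab_of h) sched E hE

/-- The first piece: the spanning tree. -/
theorem valid_first {nb : ℕ} {NW : List (List (ℕ × ℕ))} {ng : ℕ} {rels : List (List ℕ)}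
    (h : NetOK nb NW ng rels) (hlen : NW.length = ng) (hx : ∀ g, x g * x g = 1) (k : ℕ)
    (hk : ∀ g < k, x g ∈ K)
    (h1 : (List.range k).all (fun g => applyWs NW [g] 1 == 1) = true) (T : List ℕ) (depth : ℕ)
    {E : List ℕ} (he : (bfs (fun g M => applyWs NW [g] M) T ng depth 1 (initSt ng k)).2 = E) :
    ∃ w : ℕ → G, w 0 = 1 ∧ Valid K x (fun g => el NW [g]) w E := by
  rw [← he]
  exact bfs_valid (fun g M p => testBit_applyWs h.hNW [g] M p) (hτ_of h hlen) hx ng k hk h1 T depth

/-- The last piece: all the edges are proven. -/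
theorem cover_last {nb : ℕ} {NW : List (List (ℕ × ℕ))} {ng : ℕ} {rels : List (List ℕ)}
    (h : NetOK nb NW ng rels) (hx : ∀ g, x g * x g = 1) (n : ℕ) (hn : 0 < n) {w : ℕ → G}
    (hw0 : w 0 = 1) (E : List ℕ) (hV : Valid K x (fun g => el NW [g]) w E)
    (h2 : (List.range ng).all (fun g => applyWs NW [g] (2 ^ n - 1) == 2 ^ n - 1) = true)
    (h3 : (List.range ng).all (fun g => getE E g &&& (2 ^ n - 1) == 2 ^ n - 1) = true) :
    ∀ h ∈ Subgroup.closure (x '' {g | g < ng}), ∃ p < n, h * (w p)⁻¹ ∈ K :=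
  cover_of_valid (fun g M p => testBit_applyWs h.hNW [g] M p) hx n ng hn hw0 E hV h2 h3

end net

end Cfsg.Agent.Helper72.TCSched
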